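import Mathlib
import Cfsg.Agent.Lib.H85.StarP

/-! The Broué-Puig theorem on characters of nilpotent blocks. -/

set_option autoImplicit false
set_option linter.unusedSectionVars false
set_option linter.style.haveILetI false
attribute [local irreducible] H33.instFieldF

namespace H85

open Cfsg H84 H35 Finset MonoidAlgebra
open H33 (F eB fB chiL InR SubInv SubRes)
open H86 (Cen Nor Supp Inv br emb cj cs trI csEquiv eS fS IsMaxPair PairOf St)
open Subgroup (zpowers)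
open scoped ComplexConjugate SubFin

theorem eq_one_of_prod_of_sum {ι : Type*} (S : Finset ι) (x : ι → ℝ) (hx : ∀ i ∈ S, 0 < x i)
    (h1 : 1 ≤ ∏ i ∈ S, x i) (h2 : ∑ i ∈ S, x i ≤ S.card) : ∀ i ∈ S, x i = 1 := by
  have h3 : ∀ i ∈ S, 0 ≤ x i - 1 - Real.log (x i) := fun i hi =>
    sub_nonneg.2 (Real.log_le_sub_one_of_pos (hx i hi))
  have h4 : ∑ i ∈ S, (x i - 1 - Real.log (x i)) = 0 := by
    refine le_antisymm ?_ (sum_nonneg h3)
    rw [sum_sub_distrib, sum_sub_distrib, ← Real.log_prod fun i hi => (hx i hi).ne']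
    have := Real.log_nonneg h1
    simp only [sum_const, nsmul_eq_mul, mul_one]
    linarith
  intro i hi
  by_contra hne
  have := Real.log_lt_sub_one_of_pos (hx i hi) hne
  have h5 := (sum_eq_zero_iff_of_nonneg h3).1 h4 i hi
  linarith

/-- A generalized character with positive values on a Galois-stable set and mean at most one. -/
theorem gen_eq_one_of_pos {K : Type*} [Group K] [Finite K] {δ : K → ℂ}
    (hδ : IsGeneralizedCharacter K δ) (S : Finset K)
    (hS : ∀ g ∈ S, ∀ m : ℕ, m.Coprime (Nat.card K) → g ^ m ∈ S)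
    (hpos : ∀ u ∈ S, ∃ r : ℝ, 0 < r ∧ δ u = r) (hsum : (∑ u ∈ S, δ u).re ≤ S.card) :
    ∀ u ∈ S, δ u = 1 := by
  choose! r hr hr' using hpos
  obtain ⟨z, hz⟩ := H8.exists_int_prod_character hδ S hS
  rw [prod_congr rfl hr', ← Complex.ofReal_prod, ← Complex.ofReal_intCast,
    Complex.ofReal_inj] at hz
  rw [sum_congr rfl hr', ← Complex.ofReal_sum, Complex.ofReal_re] at hsum
  have h1 : (0 : ℝ) < z := hz ▸ prod_pos hr
  have h2 : (1 : ℝ) ≤ z := by exact_mod_cast (show (1 : ℤ) ≤ z from by exact_mod_cast h1)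
  intro u hu
  rw [hr' u hu, eq_one_of_prod_of_sum S r hr (hz ▸ h2) hsum u hu, Complex.ofReal_one]

variable {G : Type*} [Group G] [Fintype G] {p : ℕ} [hp : Fact p.Prime] {M : Ideal AlgInt}
  [M.IsMaximal] {B : Set (IrrCharacter G)} {P Q : Subgroup G} {e : MonoidAlgebra (F M) G}
  {u v w : G} {μ ν : P → ℂ} {θ η : G → ℂ}

/-- Fusion of elements is controlled by `P` itself. -/
def Ctrl (p : ℕ) {F G : Type*} [Field F] [Group G] (P : Subgroup G) (e : MonoidAlgebra F G) :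
    Prop :=
  ∀ u v : P, Fus p P e u v → IsConj u v

theorem Ctrl.stab (hc : Ctrl p P e) (hμ : IsClassFunction P μ) : Stab p P e μ :=
  fun u v huv => H6.classFun_of_isConj hμ (hc u v huv)

theorem blockRank_eq_one_of {B : Set (IrrCharacter G)} {χ₀ : IrrCharacter G} (h0 : χ₀ ∈ B)
    (h : ∀ χ ∈ B, ∃ c : ℂ, pRegularPart p (χ : G → ℂ) = c • pRegularPart p (χ₀ : G → ℂ)) :
    blockRank p B = 1 := by
  refine le_antisymm ?_ (blockRank_pos ⟨χ₀, h0⟩)
  have : regSpan p B ≤ Submodule.span ℂ {pRegularPart p (χ₀ : G → ℂ)} := by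
    refine Submodule.span_le.2 ?_
    rintro _ ⟨χ, hχ, rfl⟩
    obtain ⟨c, hc⟩ := h χ hχ
    exact Submodule.mem_span_singleton.2 ⟨c, hc.symm⟩
  exact (Submodule.finrank_mono this).trans (finrank_span_le_card _ |>.trans (by simp))

namespace MP

theorem ctrl_of_isNil (h : MP p M B P e) (hn : H86.IsNil p ⊤ (eB M B)) : Ctrl p P e := by
  haveI := H33.charP h.hM
  haveI := H86.good h.hM G
  rintro u v ⟨g, hg, huv⟩
  obtain ⟨w, hw, h1⟩ := hn.exists_act h.max (H86.isBlk_eB h.hB) hg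
  exact isConj_iff.2 ⟨⟨w, hw⟩, Subtype.ext (by
    rw [huv, h1 _ (Subgroup.mem_zpowers _)]; rfl)⟩

theorem ctrl_of_nil (h : MP p M B P e) (hn : IsNilpotentBlock p M B) : Ctrl p P e :=
  haveI := H33.charP h.hM
  h.ctrl_of_isNil ((H86.isNilpotentBlock_iff h.hB).1 hn)

theorem isGen_ctr (h : MP p M B P e) (hc : Ctrl p P e) (hθ : IsGeneralizedCharacter G θ)
    (hη : IsGeneralizedCharacter G η) : IsGeneralizedCharacter P (ctr p M P e θ η) := by
  have c1 := H6.gen_isClassFunction hθ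
  have c2 := H6.gen_isClassFunction hη
  refine H6.isGen_of_inner (h.isClassFunction_of_stab (h.stab_ctr c1 c2)) fun μ hμ => ?_
  have s := hc.stab (H6.irr_isClassFunction hμ)
  rw [← h.inner_pstar_right s c1 c2]
  exact H6.gen_inner_int hθ (h.isGen_pstar s (H6.irr_isGen hμ) hη)

theorem ctr_self_eq_one (h : MP p M B P e) (hc : Ctrl p P e) {χ : IrrCharacter G} (hχ : χ ∈ B)
    (h0 : blockHeight p B (χ : G → ℂ) = 0) (u : P) : ctr p M P e χ χ u = 1 := by
  refine gen_eq_one_of_pos (h.isGen_ctr hc (H6.irr_isGen χ.2) (H6.irr_isGen χ.2)) univ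
    (fun _ _ _ _ => mem_univ _) (fun u _ => ?_) ?_ u (mem_univ u)
  · obtain ⟨r, hr, h1⟩ := ctr_self_eq (p := p) (M := M) (e := e) (χ : G → ℂ) u
    refine ⟨r, hr.lt_of_ne fun h2 => h.ctr_ne_zero_of_height hχ hχ h0 h0 u ?_, h1⟩
    rw [h1, ← h2, Complex.ofReal_zero]
  · have h1 := h.inner_eq_ctr (irr_class χ) (irr_class χ)
    rw [blockPart_irr_of_mem hχ, H6.irr_inner_self χ.2, H6.classInner_one_right,
      eq_inv_mul_iff_mul_eq₀ H6.card_ne_zero, mul_one] at h1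
    rw [← h1, card_univ, Nat.card_eq_fintype_card, Complex.natCast_re]

theorem inner_pstar_of_ctrl (h : MP p M B P e) (hc : Ctrl p P e) {χ : IrrCharacter G} (hχ : χ ∈ B)
    (h0 : blockHeight p B (χ : G → ℂ) = 0) (hμ : IsClassFunction P μ) (hν : IsClassFunction P ν) :
    classInner (pstar p M P e μ χ) (pstar p M P e ν χ) = classInner μ ν := by
  rw [h.inner_pstar_pstar (hc.stab hμ) (hc.stab hν) (irr_class χ) (irr_class χ)]
  simp only [h.ctr_self_eq_one hc hχ h0, mul_one]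

theorem isIrr_pstar_of_ctrl (h : MP p M B P e) (hc : Ctrl p P e) {χ : IrrCharacter G} (hχ : χ ∈ B)
    (h0 : blockHeight p B (χ : G → ℂ) = 0) (hμ : IsIrrCharacter P μ) :
    IsIrrCharacter G (pstar p M P e μ χ) := by
  have c1 := H6.irr_isClassFunction hμ
  refine H6.isIrr_of_gen_of_inner_self
    (h.isGen_pstar (hc.stab c1) (H6.irr_isGen hμ) (H6.irr_isGen χ.2)) ?_ ?_
  · rw [h.inner_pstar_of_ctrl hc hχ h0 c1 c1, H6.irr_inner_self hμ]
  · obtain ⟨n, -, hn⟩ := H6.irr_one_pos χ.2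
    obtain ⟨m, -, hm⟩ := H6.irr_one_pos hμ
    rw [h.pstar_one_apply (hc.stab c1) hχ, hn, hm, ← Nat.cast_mul, Complex.natCast_re]
    exact Nat.cast_nonneg _

/-- **Broué-Puig**: the characters of a block whose fusion is controlled by the defect group. -/
theorem exists_equiv_of_ctrl (h : MP p M B P e) (hc : Ctrl p P e) {χ : IrrCharacter G}
    (hχ : χ ∈ B) (h0 : blockHeight p B (χ : G → ℂ) = 0) :
    ∃ Φ : IrrCharacter P ≃ B, ∀ μ : IrrCharacter P,
      ((Φ μ : IrrCharacter G) : G → ℂ) = pstar p M P e μ χ := by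
  have hs : ∀ μ : IrrCharacter P, Stab p P e μ := fun μ => hc.stab (irr_class μ)
  have hi : ∀ μ : IrrCharacter P, IsIrrCharacter G (pstar p M P e μ χ) := fun μ =>
    h.isIrr_pstar_of_ctrl hc hχ h0 μ.2
  let Φ : IrrCharacter P → B := fun μ => ⟨⟨_, hi μ⟩, h.mem_of_pstar (hs μ) (irr_class χ)
    (by rw [H6.irr_inner_self (hi μ)]; exact one_ne_zero)⟩
  refine ⟨Equiv.ofBijective Φ ⟨fun μ ν hμν => ?_, fun ψ => ?_⟩, fun _ => rfl⟩
  · have h1 : pstar p M P e μ χ = pstar p M P e ν χ := congrArg (fun x : B => (x.1 : G → ℂ)) hμν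
    have h2 := h.inner_pstar_of_ctrl hc hχ h0 (irr_class μ) (irr_class ν)
    rw [h1, H6.irr_inner_self (hi ν)] at h2
    exact Subtype.ext (H6.irr_eq_of_inner_ne_zero μ.2 ν.2 (h2 ▸ one_ne_zero))
  · have h1 : ctr p M P e ψ.1 χ ≠ 0 := fun h2 =>
      h.ctr_ne_zero_of_major ψ.2 hχ h0 1 (fun x _ => H86.mem_Cen_zpowers.2 (by simp))
        (congrFun h2 1)
    obtain ⟨μ, hμ, h2⟩ := H6.exists_irr_inner_ne_zero
      (h.isClassFunction_of_stab (h.stab_ctr (irr_class ψ.1) (irr_class χ))) h1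
    rw [← h.inner_pstar_right (hs ⟨μ, hμ⟩) (irr_class ψ.1) (irr_class χ)] at h2
    exact ⟨⟨μ, hμ⟩, Subtype.ext (Subtype.ext
      (H6.irr_eq_of_inner_ne_zero ψ.1.2 (hi ⟨μ, hμ⟩) h2).symm)⟩

theorem exists_pstar_of_ctrl (h : MP p M B P e) (hc : Ctrl p P e) {χ ψ : IrrCharacter G}
    (hχ : χ ∈ B) (h0 : blockHeight p B (χ : G → ℂ) = 0) (hψ : ψ ∈ B) :
    ∃ μ : IrrCharacter P, (ψ : G → ℂ) = pstar p M P e μ χ := by
  obtain ⟨Φ, hΦ⟩ := h.exists_equiv_of_ctrl hc hχ h0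
  exact ⟨Φ.symm ⟨ψ, hψ⟩, by rw [← hΦ, Equiv.apply_symm_apply]⟩

theorem reg_pstar (h : MP p M B P e) (hμ : Stab p P e μ) {χ : IrrCharacter G} (hχ : χ ∈ B) :
    pRegularPart p (pstar p M P e μ χ) = μ 1 • pRegularPart p (χ : G → ℂ) := by
  funext g
  by_cases hg : p ∣ orderOf g
  · rw [Pi.smul_apply, reg_of_sing _ hg, reg_of_sing _ hg, smul_zero]
  · rw [Pi.smul_apply, reg_of_reg _ hg, reg_of_reg _ hg, h.pstar_reg hμ hχ hg, smul_eq_mul]

theorem blockRank_of_ctrl (h : MP p M B P e) (hc : Ctrl p P e) : blockRank p B = 1 := by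
  obtain ⟨χ, hχ, h0⟩ := exists_height_zero (p := p) (H33.block_nonempty h.hB)
  refine blockRank_eq_one_of hχ fun ψ hψ => ?_
  obtain ⟨μ, hμ⟩ := h.exists_pstar_of_ctrl hc hχ h0 hψ
  exact ⟨_, by rw [hμ, h.reg_pstar (hc.stab (irr_class μ)) hχ]⟩

theorem card_of_ctrl (h : MP p M B P e) (hc : Ctrl p P e) :
    Nat.card B = Nat.card (ConjClasses P) := by
  obtain ⟨χ, hχ, h0⟩ := exists_height_zero (p := p) (H33.block_nonempty h.hB)
  obtain ⟨Φ, -⟩ := h.exists_equiv_of_ctrl hc hχ h0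
  rw [← Nat.card_congr Φ, H6.card_irr_eq_card_conjClasses]

theorem charDegree_pstar (h : MP p M B P e) (hμ : Stab p P e μ) (hμ' : IsCharacter P μ)
    {χ : IrrCharacter G} (hχ : χ ∈ B) :
    charDegree (pstar p M P e μ χ) = charDegree μ * charDegree (χ : G → ℂ) :=
  charDegree_eq_of (by
    rw [h.pstar_one_apply hμ hχ, Nat.cast_mul, cast_charDegree hμ', cast_deg])

theorem height_pstar (h : MP p M B P e) {μ : IrrCharacter P} (hμ : Stab p P e μ)
    {χ : IrrCharacter G} (hχ : χ ∈ B) :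
    blockHeight p B (pstar p M P e μ χ) =
      (charDegree (μ : P → ℂ)).factorization p + blockHeight p B (χ : G → ℂ) := by
  rw [blockHeight_eq, blockHeight_eq, h.charDegree_pstar hμ (H6.irr_isCharacter μ.2) hχ,
    Nat.factorization_mul (deg_ne_zero μ) (deg_ne_zero χ), Finsupp.add_apply,
    Nat.add_sub_assoc (minval_le hχ)]

/-- For height zero characters the regular part is the Brauer character. -/
theorem brc_eq_of_ctrl (h : MP p M B P e) (hc : Ctrl p P e) {χ : IrrCharacter G} (hχ : χ ∈ B)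
    (h0 : blockHeight p B (χ : G → ℂ) = 0) : brc p B = pRegularPart p (χ : G → ℂ) := by
  have hb := isBr_brc h.hM h.hB (h.blockRank_of_ctrl hc)
  obtain ⟨n, hn, h1⟩ := hb.irr χ hχ
  have h2 : ∀ f ∈ lat p B, ∃ m : ℤ, f = (m : ℂ) • pRegularPart p (χ : G → ℂ) := by
    intro f hf
    refine lat_induction (P := fun f => ∃ m : ℤ, f = (m : ℂ) • pRegularPart p (χ : G → ℂ))
      ⟨0, by simp⟩ (fun ψ hψ => ?_) ?_ ?_ hf
    · obtain ⟨μ, hμ⟩ := h.exists_pstar_of_ctrl hc hχ h0 hψ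
      obtain ⟨m, -, hm⟩ := H6.irr_one_pos μ.2
      exact ⟨m, by rw [hμ, h.reg_pstar (hc.stab (irr_class μ)) hχ, hm, Int.cast_natCast]⟩
    · rintro _ _ - - ⟨a, rfl⟩ ⟨b, rfl⟩
      exact ⟨a + b, by rw [Int.cast_add, add_smul]⟩
    · rintro _ - ⟨a, rfl⟩
      exact ⟨-a, by rw [Int.cast_neg, neg_smul]⟩
  obtain ⟨m, hm⟩ := h2 _ hb.mem
  have h3 : brc p B ≠ 0 := fun h0 => by
    have := hb.qf_eq
    rw [h0, map_zero] at this
    exact zero_ne_one this
  rw [h1, smul_smul] at hm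
  nth_rewrite 1 [← one_smul ℂ (brc p B)] at hm
  have h4 : (1 : ℤ) = m * n := by exact_mod_cast smul_left_injective ℂ h3 hm
  have h5 : (n : ℤ) = 1 := Int.eq_one_of_mul_eq_one_left (Nat.cast_nonneg n) h4.symm
  rw [h1, show (n : ℂ) = 1 by exact_mod_cast h5, one_smul]

end MP

end H85
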