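import Mathlib
import Cfsg.Agent.Lib.H85.Contrib

/-! Galois averages of contributions. -/

set_option autoImplicit false
set_option linter.unusedSectionVars false

namespace H85

open Finset Cfsg H84 H35
open scoped ComplexConjugate

variable {G : Type*} [Group G] [Fintype G] {p : ℕ} [hp : Fact p.Prime] {M : Ideal AlgInt}
  [M.IsMaximal] {C : Subgroup G} [Fintype C] {b : Set (IrrCharacter C)} {B : Set (IrrCharacter G)}
  {u : G}

/-- Galois averages: `a χ` of `p ^ q m_χχ`, `w χ χ'` of `|p ^ q m_χχ'| ^ 2`. -/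
structure Avg (p : ℕ) (M : Ideal AlgInt) [M.IsMaximal] (u : G) (C : Subgroup G) [Fintype C]
    (b : Set (IrrCharacter C)) (B : Set (IrrCharacter G)) (a : IrrCharacter G → ℝ)
    (w : IrrCharacter G → IrrCharacter G → ℝ) : Prop where
  sum_a : ∑ χ ∈ bset B, a χ = (p : ℝ) ^ blockDefect p b * blockRank p b
  sum_w : ∀ χ', ∑ χ ∈ bset B, w χ χ' = (p : ℝ) ^ blockDefect p b * a χ'
  w_nonneg : ∀ χ χ', 0 ≤ w χ χ'
  a_nonneg : ∀ χ, 0 ≤ a χ
  le_w : ∀ (χ χ' : IrrCharacter G) (c : ℕ), c ≠ 0 → qf p b (sub p u C b χ) (sub p u C b χ') ≠ 0 →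
    IsIntegral ℤ (qf p b (sub p u C b χ) (sub p u C b χ') / c) → (c : ℝ) ^ 2 ≤ w χ χ'
  one_le_compl : ∀ (χ : IrrCharacter G) (n : ℤ), qf p b (sub p u C b χ) (sub p u C b χ) ≠ n →
    1 ≤ (n : ℝ) ^ 2 - 2 * n * a χ + w χ χ
  two : p = 2 → ∀ (χ : IrrCharacter G) (n : ℕ),
    qf p b (sub p u C b χ) (sub p u C b χ) / (p : ℂ) ^ n ∈ H33.O M →
    ∃ m : ℤ, a χ = (p : ℝ) ^ n * m ∧ H33.red M (qf p b (sub p u C b χ) (sub p u C b χ) / (p : ℂ) ^ n) = m

theorem exists_avg (hM : IsPModular p M) (hu : IsPElt p u) (hC : IsCen u C)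
    (hind : IsInducedBlock M C b B) : ∃ a w, Avg p M u C b B a w := by
  obtain ⟨k, g, ι, hg, rfl, hι, hpe, hcen⟩ := exists_cyc hu hC
  have : NeZero (p ^ (k + 1)) := ⟨pow_ne_zero _ hp.out.ne_zero⟩
  let := Fintype.ofFinite (rootsOfUnity (p ^ (k + 1)) ℂ)
  generalize hS : gens p k (rootsOfUnity (p ^ (k + 1)) ℂ) = S
  have h4 : (0 : ℝ) < S.card := by rw [← hS]; exact_mod_cast hg.card_gens_pos
  have hcen' : ∀ v ∈ S, IsCen (ι v) C := fun v hv => hcen v (mem_gens.1 (hS ▸ hv))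
  refine ⟨fun χ => (∑ v ∈ S, (qf p b (sub p (ι v) C b χ) (sub p (ι v) C b χ)).re) / S.card,
    fun χ χ' => (∑ v ∈ S, ‖qf p b (sub p (ι v) C b χ) (sub p (ι v) C b χ')‖ ^ 2) / S.card,
    ?_, fun χ' => ?_, fun _ _ => by positivity,
    fun _ => div_nonneg (sum_nonneg fun _ _ => qf_self_re_nonneg _) h4.le, fun χ χ' c hc h0 hi => ?_,
    fun χ n h => ?_, ?_⟩
  · rw [← sum_div, sum_comm, div_eq_iff h4.ne', mul_comm, ← nsmul_eq_mul, ← sum_const]
    refine sum_congr rfl fun v hv => ?_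
    rw [← Complex.re_sum, sum_form_sub hM (hpe v) (hcen' v hv) hind, sum_qf_reg hM hind.1]
    norm_cast
  · rw [← sum_div, sum_comm, ← mul_div_assoc, mul_sum]
    congr 1
    exact sum_congr rfl fun v hv => sum_normSq_qf hM (hpe v) (hcen' v hv) hind (sub_mem_regSpan _ _)
  · rw [le_div_iff₀ h4, mul_comm, ← hS]
    exact hg.le_sum_normSq (hι.isGen_qf (irr_gen χ) (irr_gen χ')) h0 hc hi
  · have := hg.card_le_sum_normSq (H6.isGen_sub (H6.isGen_intCast_smul n H6.isGen_one)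
      (hι.isGen_qf (p := p) (b := b) (irr_gen χ) (irr_gen χ))) (by simpa [sub_eq_zero] using h.symm)
    rw [hS] at this
    simp only [Pi.sub_apply, Pi.smul_apply, smul_eq_mul, mul_one] at this
    have e : ∀ v, ‖(n : ℂ) - qf p b (sub p (ι v) C b χ) (sub p (ι v) C b χ)‖ ^ 2 =
        (n : ℝ) ^ 2 - 2 * n * (qf p b (sub p (ι v) C b χ) (sub p (ι v) C b χ)).re +
          ‖qf p b (sub p (ι v) C b χ) (sub p (ι v) C b χ)‖ ^ 2 := fun v => by
      rw [qf_self_eq_re, Complex.ofReal_re, ← Complex.ofReal_intCast, ← Complex.ofReal_sub,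
        Complex.norm_real, Complex.norm_real, Real.norm_eq_abs, Real.norm_eq_abs, sq_abs, sq_abs]
      ring
    simp only [e, sum_add_distrib, sum_sub_distrib, sum_const, nsmul_eq_mul, ← mul_sum] at this
    field_simp
    linarith
  · rintro rfl χ n hO
    obtain ⟨m, h1, h2⟩ := hg.exists_avg_pow hM n (hι.isGen_qf (p := 2) (b := b) (irr_gen χ) (irr_gen χ))
      (fun v _ => conj_qf _ _) (by exact_mod_cast hO)
    refine ⟨m, ?_, by exact_mod_cast h2⟩
    rw [← Complex.re_sum, ← hS, h1, hS, div_eq_iff h4.ne']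
    norm_cast
    ring

variable {a : IrrCharacter G → ℝ} {w : IrrCharacter G → IrrCharacter G → ℝ}

theorem Avg.one_le_w (h : Avg p M u C b B a w) (hu : IsPElt p u) (hC : IsCen u C)
    {χ χ' : IrrCharacter G} (h0 : qf p b (sub p u C b χ) (sub p u C b χ') ≠ 0) : 1 ≤ w χ χ' := by
  simpa using h.le_w χ χ' 1 one_ne_zero h0
    (by simpa using isIntegral_qf_sub hu hC (irr_gen χ) (irr_gen χ'))

theorem Avg.one_le_w_of_height (h : Avg p M u C b B a w) (hM : IsPModular p M) (hu : IsPElt p u)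
    (hC : IsCen u C) (hind : IsInducedBlock M C b B) {χ χ' : IrrCharacter G} (hχ : χ ∈ B)
    (hχ' : χ' ∈ B) (h0 : blockHeight p B (χ : G → ℂ) = 0) (h0' : blockHeight p B (χ' : G → ℂ) = 0) :
    1 ≤ w χ χ' :=
  h.one_le_w hu hC (H33.ne_zero_of_red_ne_zero
    ((red_qf_sub_ne_zero_iff hM hu hC hind hχ hχ').2 ⟨h0, h0'⟩))

theorem Avg.pow_le_w (h : Avg p M u C b B a w) (hM : IsPModular p M) (hu : IsPElt p u)
    (hC : IsCen u C) (hind : IsInducedBlock M C b B) (hd : blockDefect p b = blockDefect p B)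
    {χ χ' : IrrCharacter G} (hχ : χ ∈ B) (hχ' : χ' ∈ B) (h0' : blockHeight p B (χ' : G → ℂ) = 0) :
    ((p : ℝ) ^ blockHeight p B (χ : G → ℂ)) ^ 2 ≤ w χ χ' := by
  have := h.le_w χ χ' (p ^ blockHeight p B (χ : G → ℂ)) (pow_ne_zero _ hp.out.ne_zero)
    (qf_ne_zero_of_major hM hu hC hind hd hχ hχ' h0')
    (by exact_mod_cast (major_sub hM hu hC hind hd hχ hχ').1)
  exact_mod_cast this

theorem pos_of_mul_pos_of_nonneg_left {x y : ℝ} (h : 0 < x * y) (hx : 0 ≤ x) : 0 < y := by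
  by_contra h'
  nlinarith

theorem Avg.a_pos (h : Avg p M u C b B a w) (hu : IsPElt p u) (hC : IsCen u C)
    {χ : IrrCharacter G} (hχ : χ ∈ B) (h0 : sub p u C b χ ≠ 0) : 0 < a χ := by
  have h1 := h.one_le_w hu hC (mt qf_self_eq_zero.1 h0)
  have h2 := single_le_sum (f := fun ψ => w ψ χ) (fun ψ _ => h.w_nonneg ψ χ) (mem_bset.2 hχ)
  rw [h.sum_w] at h2
  exact pos_of_mul_pos_of_nonneg_left (by linarith) (show 0 ≤ (p : ℝ) ^ blockDefect p b by positivity)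

variable {b : Set (IrrCharacter C)}

theorem Avg.odd (h : Avg 2 M u C b B a w) (hM : IsPModular 2 M) (hu : IsPElt 2 u)
    (hC : IsCen u C) (hind : IsInducedBlock M C b B) {χ : IrrCharacter G} (hχ : χ ∈ B) :
    ∃ m : ℤ, a χ = m ∧ 0 ≤ m ∧ (Odd m ↔ blockHeight 2 B (χ : G → ℂ) = 0) := by
  obtain ⟨m, h1, h2⟩ := h.two rfl χ 0 (by
    simpa using H33.mem_O_of_isIntegral M (isIntegral_qf_sub hu hC (irr_gen χ) (irr_gen χ)))
  rw [pow_zero, one_mul] at h1
  rw [pow_zero, div_one] at h2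
  refine ⟨m, h1, by exact_mod_cast h1 ▸ h.a_nonneg χ, ?_⟩
  have := red_qf_sub_ne_zero_iff hM hu hC hind hχ hχ
  rw [h2, and_self, Ne, H33.intCast_F_eq_zero_iff hM] at this
  rw [← this, ← Int.not_even_iff_odd, even_iff_two_dvd]
  rfl

theorem Avg.pos_height (h : Avg 2 M u C b B a w) (hM : IsPModular 2 M) (hu : IsPElt 2 u)
    (hC : IsCen u C) (hind : IsInducedBlock M C b B) (hd : blockDefect 2 b = blockDefect 2 B)
    {χ : IrrCharacter G} (hχ : χ ∈ B) (h0 : blockHeight 2 B (χ : G → ℂ) ≠ 0) :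
    ∃ m : ℤ, 0 < m ∧ a χ = 2 ^ (blockHeight 2 B (χ : G → ℂ) + 1) * m := by
  obtain ⟨i, h1⟩ := major_sub hM hu hC hind hd hχ hχ
  obtain ⟨m, h2, h3⟩ := h.two rfl χ _ (H33.mem_O_of_isIntegral M i)
  rw [h3, Ne, H33.intCast_F_eq_zero_iff hM, iff_false_intro h0, iff_false, not_not] at h1
  obtain ⟨m, rfl⟩ := h1
  have e : a χ = 2 ^ (blockHeight 2 B (χ : G → ℂ) + 1) * m := by
    rw [h2]; push_cast; ring
  refine ⟨m, ?_, e⟩
  have := h.a_pos hu hC hχ (sub_ne_zero_of_major hM hu hC hind hd hχ)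
  rw [e] at this
  exact_mod_cast pos_of_mul_pos_of_nonneg_left this (by positivity)

end H85
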