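import Mathlib
import Cfsg.Agent.Lib.Deg.FS4
import Cfsg.Agent.Lib.Char.More

/-! Averages over subgroups, characters of subgroups as functions on the ambient group. -/

set_option autoImplicit false
set_option linter.unusedSectionVars false
set_option linter.style.haveILetI false

namespace H85

open Cfsg H87 H7 Subgroup
open scoped ComplexConjugate commutatorElement

variable {Γ : Type*} [Group Γ] [Finite Γ]

/-- Average of `F` over the subgroup `H`. -/
noncomputable def av (H : Subgroup Γ) (F : Γ → ℂ) : ℂ := (Nat.card H : ℂ)⁻¹ * ∑ᶠ x : H, F x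

/-- Inner product over `H`. -/
noncomputable def ip (H : Subgroup Γ) (f g : Γ → ℂ) : ℂ := av H fun x => f x * conj (g x)

/-- `f` restricts to a character of `H`. -/
def Ch (H : Subgroup Γ) (f : Γ → ℂ) : Prop := IsCharacter H fun x : H => f x

/-- `f` restricts to an irreducible character of `H`. -/
def Irr (H : Subgroup Γ) (f : Γ → ℂ) : Prop := IsIrrCharacter H fun x : H => f x

variable {H L N : Subgroup Γ} {F F' f g : Γ → ℂ}

theorem av_eq [Fintype H] (F : Γ → ℂ) : av H F = (Nat.card H : ℂ)⁻¹ * ∑ x : H, F x := by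
  rw [av, finsum_eq_sum_of_fintype]

theorem ip_eq [Fintype H] (f g : Γ → ℂ) :
    ip H f g = classInner (fun x : H => f x) (fun x : H => g x) := by
  rw [ip, av_eq]; rfl

theorem av_eq_inner [Fintype H] (F : Γ → ℂ) :
    av H F = classInner (fun x : H => F x) (fun _ => 1) := by
  rw [av_eq, H6.classInner_one_right]

theorem av_congr (h : ∀ x ∈ H, F x = F' x) : av H F = av H F' := by
  unfold av; congr 2; funext x; exact h x x.2

theorem av_const (H : Subgroup Γ) (c : ℂ) : av H (fun _ => c) = c := by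
  have := Fintype.ofFinite H
  rw [av_eq, Finset.sum_const, Finset.card_univ, nsmul_eq_mul, ← Nat.card_eq_fintype_card,
    inv_mul_cancel_left₀ H6.card_ne_zero]

theorem av_add (F F' : Γ → ℂ) : av H (fun x => F x + F' x) = av H F + av H F' := by
  have := Fintype.ofFinite H
  simp only [av_eq, Finset.sum_add_distrib, mul_add]

theorem av_mul_left (c : ℂ) (F : Γ → ℂ) : av H (fun x => c * F x) = c * av H F := by
  have := Fintype.ofFinite H
  simp only [av_eq, ← Finset.mul_sum]; ring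

theorem av_mul_right (c : ℂ) (F : Γ → ℂ) : av H (fun x => F x * c) = av H F * c := by
  simp only [mul_comm _ c, av_mul_left]

theorem av_sum {ι : Type*} (t : Finset ι) (F : ι → Γ → ℂ) :
    av H (fun x => ∑ i ∈ t, F i x) = ∑ i ∈ t, av H (F i) := by
  have := Fintype.ofFinite H
  simp only [av_eq, ← Finset.mul_sum]; rw [Finset.sum_comm]

theorem av_conj (F : Γ → ℂ) : av H (fun x => conj (F x)) = conj (av H F) := by
  have := Fintype.ofFinite H
  simp only [av_eq, map_mul, map_sum, map_inv₀, map_natCast]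

theorem av_comm {Γ' : Type*} [Group Γ'] [Finite Γ'] (H' : Subgroup Γ') (F : Γ → Γ' → ℂ) :
    av H (fun x => av H' (F x)) = av H' (fun y => av H (fun x => F x y)) := by
  have := Fintype.ofFinite H
  have := Fintype.ofFinite H'
  simp only [av_eq, ← Finset.mul_sum]
  rw [Finset.sum_comm]; ring

theorem av_bij {Γ' : Type*} [Group Γ'] [Finite Γ'] {H' : Subgroup Γ'} (σ : Γ' → Γ) (σ' : Γ → Γ')
    (h1 : ∀ x ∈ H', σ x ∈ H) (h2 : ∀ x ∈ H, σ' x ∈ H') (h3 : ∀ x ∈ H', σ' (σ x) = x)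
    (h4 : ∀ x ∈ H, σ (σ' x) = x) (F : Γ → ℂ) : av H' (fun x => F (σ x)) = av H F := by
  have := Fintype.ofFinite H
  have := Fintype.ofFinite H'
  let e : H' ≃ H := ⟨fun x => ⟨σ x, h1 x x.2⟩, fun x => ⟨σ' x, h2 x x.2⟩,
    fun x => Subtype.ext (h3 x x.2), fun x => Subtype.ext (h4 x x.2)⟩
  rw [av_eq, av_eq, Nat.card_congr e, ← e.sum_comp]; rfl

theorem av_mul {a : Γ} (ha : a ∈ H) (F : Γ → ℂ) : av H (fun x => F (a * x)) = av H F :=
  av_bij _ (fun x => a⁻¹ * x) (fun _ h => mul_mem ha h) (fun _ h => mul_mem (inv_mem ha) h)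
    (fun _ _ => by group) (fun _ _ => by group) F

theorem av_mul' {a : Γ} (ha : a ∈ H) (F : Γ → ℂ) : av H (fun x => F (x * a)) = av H F :=
  av_bij _ (fun x => x * a⁻¹) (fun _ h => mul_mem h ha) (fun _ h => mul_mem h (inv_mem ha))
    (fun _ _ => by group) (fun _ _ => by group) F

theorem av_inv (F : Γ → ℂ) : av H (fun x => F x⁻¹) = av H F :=
  av_bij _ (fun x => x⁻¹) (fun _ h => inv_mem h) (fun _ h => inv_mem h)
    (fun _ _ => by group) (fun _ _ => by group) F

theorem av_cj {t : Γ} (ht : t ∈ normalizer (H : Set Γ)) (F : Γ → ℂ) :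
    av H (fun x => F (t * x * t⁻¹)) = av H F :=
  av_bij _ (fun x => t⁻¹ * x * t) (fun x h => (mem_normalizer_iff.1 ht x).1 h)
    (fun x h => (mem_normalizer_iff''.1 ht x).1 h) (fun _ _ => by group) (fun _ _ => by group) F

theorem av_map {Γ' : Type*} [Group Γ'] [Finite Γ'] (φ : Γ' →* Γ) (H' : Subgroup Γ') (F : Γ → ℂ) :
    av (H'.map φ) F = av H' (fun x => F (φ x)) := by
  have := Fintype.ofFinite H'
  have := Fintype.ofFinite (H'.map φ)
  rw [av_eq_inner, av_eq_inner,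
    ← H6.classInner_comp_surjective (φ.subgroupMap H') (φ.subgroupMap_surjective H')]
  rfl

theorem av_top [Fintype Γ] (F : Γ → ℂ) : av ⊤ F = (Nat.card Γ : ℂ)⁻¹ * ∑ x, F x := by
  have := Fintype.ofFinite (⊤ : Subgroup Γ)
  rw [av_eq, Subgroup.card_top, ← (Subgroup.topEquiv (G := Γ)).toEquiv.sum_comp F]; rfl

theorem av_subgroupOf (h : L ≤ H) (F : Γ → ℂ) :
    av (L.subgroupOf H) (fun x => F x) = av L F := by
  conv_rhs => rw [← map_subgroupOf_eq_of_le h, av_map]
  rfl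

theorem av_prod {Γ' : Type*} [Group Γ'] [Finite Γ'] (H' : Subgroup Γ') (F : Γ → ℂ) (F' : Γ' → ℂ) :
    av (H.prod H') (fun x => F x.1 * F' x.2) = av H F * av H' F' := by
  have := Fintype.ofFinite H
  have := Fintype.ofFinite H'
  have := Fintype.ofFinite (H.prod H')
  rw [av_eq, av_eq, av_eq, Nat.card_congr (prodEquiv H H').toEquiv, Nat.card_prod,
    ← (prodEquiv H H').symm.toEquiv.sum_comp, Fintype.sum_prod_type, mul_mul_mul_comm,
    Finset.sum_mul_sum, Nat.cast_mul, mul_inv]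
  rfl

theorem av_of_mul (hL : L ≤ H) (hm : ∀ x ∈ H, ∃ l ∈ L, x * l⁻¹ ∈ N)
    (hF : ∀ n ∈ N, ∀ x ∈ H, F (n * x) = F x) : av H F = av L F := by
  have h1 : av L (fun l => av H fun x => F (x * l)) = av H F := by
    rw [av_congr (F' := fun _ => av H F) fun l hl => av_mul' (hL hl) F, av_const]
  rw [← h1, av_comm, av_congr (F' := fun _ => av L F), av_const]
  intro x hx
  obtain ⟨l, hl, hn⟩ := hm x hx
  rw [← av_mul hl F]
  refine av_congr fun y hy => ?_
  rw [← hF _ hn _ (hL (mul_mem hl hy))]; congr 1; group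

theorem av_av (hN : N ≤ H) (F : Γ → ℂ) : av H (fun x => av N fun n => F (n * x)) = av H F := by
  rw [av_comm, av_congr (F' := fun _ => av H F) fun n hn => av_mul (hN hn) F, av_const]

open Classical in
theorem av_ind (hL : L ≤ H) (F : Γ → ℂ) : av H (fun x => if x ∈ L then F x else 0) =
    (Nat.card L : ℂ) / Nat.card H * av L F := by
  have := Fintype.ofFinite Γ
  have k : ∀ (X : Subgroup Γ) (F : Γ → ℂ), ∑ x : X, F x = ∑ x, if x ∈ X then F x else 0 :=
    fun X F => by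
      rw [← Finset.sum_filter]
      exact (Finset.sum_subtype _ (by simp) F).symm
  rw [av_eq, av_eq, k H fun x => if x ∈ L then F x else 0, k L F]
  have := H6.card_ne_zero (G := L)
  field_simp
  refine Finset.sum_congr rfl fun x _ => ?_
  by_cases h : x ∈ L
  · simp [h, hL h]
  · simp [h]

theorem ip_congr {f' g' : Γ → ℂ} (h : ∀ x ∈ H, f x = f' x) (h' : ∀ x ∈ H, g x = g' x) :
    ip H f g = ip H f' g' := av_congr fun x hx => by rw [h x hx, h' x hx]

theorem conj_ip : conj (ip H f g) = ip H g f := by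
  rw [ip, ← av_conj]; exact av_congr fun x _ => by simp [mul_comm]

theorem Ch.congr (h : Ch H f) (e : ∀ x ∈ H, f x = g x) : Ch H g := by
  have : (fun x : H => g x) = fun x : H => f x := funext fun x => (e x x.2).symm
  unfold Ch; rwa [this]

theorem Irr.congr (h : Irr H f) (e : ∀ x ∈ H, f x = g x) : Irr H g := by
  have : (fun x : H => g x) = fun x : H => f x := funext fun x => (e x x.2).symm
  unfold Irr; rwa [this]

theorem Irr.ch (h : Irr H f) : Ch H f := H6.irr_isCharacter h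

theorem Ch.mono (h : Ch H f) (hL : L ≤ H) : Ch L f := H6.isCharacter_comp (inclusion hL) h

theorem Ch.cj (h : Ch H f) {a x : Γ} (ha : a ∈ H) (hx : x ∈ H) : f (a * x * a⁻¹) = f x :=
  H6.char_isClassFunction h ⟨x, hx⟩ ⟨a, ha⟩

theorem Ch.inv (h : Ch H f) {x : Γ} (hx : x ∈ H) : f x⁻¹ = conj (f x) := H6.char_inv h ⟨x, hx⟩

theorem Ch.mul (h : Ch H f) (h' : Ch H g) : Ch H fun x => f x * g x := H6.isCharacter_mul h h'

theorem Ch.conj (h : Ch H f) : Ch H fun x => conj (f x) := H6.isCharacter_conj h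

theorem Ch.ip_nat (h : Ch H f) (h' : Ch H g) : ∃ n : ℕ, ip H f g = n := by
  have := Fintype.ofFinite H
  rw [ip_eq]; exact H6.char_inner_nat h h'

theorem Ch.ip_comm (h : Ch H f) (h' : Ch H g) : ip H f g = ip H g f := by
  obtain ⟨n, hn⟩ := h.ip_nat h'
  rw [← conj_ip (f := f), hn, map_natCast]

theorem Ch.ip_int (h : Ch H f) (h' : Ch H g) : IsIntegral ℤ (ip H f g) := by
  obtain ⟨n, hn⟩ := h.ip_nat h'
  rw [hn]; exact_mod_cast isIntegral_algebraMap (x := (n : ℤ)) (A := ℂ)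

theorem Irr.ip_self (h : Irr H f) : ip H f f = 1 := by
  have := Fintype.ofFinite H
  rw [ip_eq]; exact H6.irr_inner_self h

theorem Ch.irr (h : Ch H f) (h1 : ip H f f = 1) : Irr H f := by
  have := Fintype.ofFinite H
  rw [ip_eq] at h1; exact H6.isIrr_of_char_of_inner_self h h1

theorem Irr.eq (h : Irr H f) (h' : Irr H g) (h1 : ip H f g ≠ 0) : ∀ x ∈ H, f x = g x := by
  have := Fintype.ofFinite H
  rw [ip_eq] at h1
  have e := H6.irr_eq_of_inner_ne_zero (G := H) h h' h1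
  exact fun x hx => congrFun e ⟨x, hx⟩

theorem Irr.one_ne (h : Irr H f) : f 1 ≠ 0 := H6.irr_one_ne_zero (G := H) h

theorem Irr.comp {Γ' : Type*} [Group Γ'] [Finite Γ'] {H' : Subgroup Γ'} (φ : Γ' →* Γ)
    (h : Irr (H'.map φ) f) : Irr H' fun x => f (φ x) :=
  H6.isIrrCharacter_comp_surjective (φ.subgroupMap H') (φ.subgroupMap_surjective H') h

theorem Irr.inv (h : Irr H f) : Irr H fun x => f x⁻¹ :=
  Irr.congr (f := fun x => conj (f x)) (H6.isIrrCharacter_conj h) fun _ hx => (h.ch.inv hx).symm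

theorem Irr.cj (h : Irr H f) {t : Γ} (ht : t ∈ normalizer (H : Set Γ)) :
    Irr H fun x => f (t * x * t⁻¹) := by
  have : H.map (MulAut.conj t).toMonoidHom = H := mem_normalizer_iff_map_conj_eq.1 ht
  exact Irr.comp (MulAut.conj t).toMonoidHom (this.symm ▸ h)

theorem irr_subgroupOf (hL : L ≤ H) :
    Irr (L.subgroupOf H) (fun x => f x) ↔ Irr L f :=
  ⟨fun h => isIrr_of_subgroupOf hL h, fun h => isIrr_subgroupOf hL h⟩

theorem ip_subgroupOf (hL : L ≤ H) :
    ip (L.subgroupOf H) (fun x => f x) (fun x => g x) = ip L f g :=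
  av_subgroupOf hL fun x => f x * conj (g x)

theorem exists_ext (φ : H → ℂ) : ∃ f : Γ → ℂ, φ = fun x : H => f x :=
  ⟨extendByZero H φ, funext fun x => (extendByZero_coe H φ x).symm⟩

theorem exists_ext' (φ : L.subgroupOf H → ℂ) :
    ∃ f : Γ → ℂ, φ = fun x : L.subgroupOf H => f x := by
  obtain ⟨f, rfl⟩ := exists_ext φ
  obtain ⟨f, rfl⟩ := exists_ext f
  exact ⟨f, rfl⟩

theorem Irr.prod {Γ' : Type*} [Group Γ'] [Finite Γ'] {H' : Subgroup Γ'} {f' : Γ' → ℂ}
    (h : Irr H f) (h' : Irr H' f') : Irr (H.prod H') fun x => f x.1 * f' x.2 :=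
  H6.isIrrCharacter_comp_equiv (prodEquiv H H') (H6.isIrrCharacter_prodMul h h')

theorem Irr.exists_prod {Γ' : Type*} [Group Γ'] [Finite Γ'] {H' : Subgroup Γ'} {F : Γ × Γ' → ℂ}
    (h : Irr (H.prod H') F) : ∃ f f', Irr H f ∧ Irr H' f' ∧
      ∀ x ∈ H, ∀ y ∈ H', F (x, y) = f x * f' y := by
  obtain ⟨φ, ψ, h1, h2, h3⟩ := (H6.isIrrCharacter_prod_iff _).1
    (H6.isIrrCharacter_comp_equiv (prodEquiv H H').symm h)
  obtain ⟨f, rfl⟩ := exists_ext φ
  obtain ⟨f', rfl⟩ := exists_ext ψ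
  exact ⟨f, f', h1, h2, fun x hx y hy => congrFun h3 (⟨x, hx⟩, ⟨y, hy⟩)⟩

theorem Ch.expand (h : Ch H f) {x : Γ} (hx : x ∈ H) : f x = ∑ γ : IrrCharacter H,
    ip H f (extendByZero H γ) * extendByZero H γ x := by
  have := Fintype.ofFinite H
  simp only [ip_eq, extendByZero_coe, extendByZero_of_mem H _ hx]
  exact H6.classFun_apply_eq_sum_irr (H6.char_isClassFunction h) ⟨x, hx⟩

theorem irr_ext (γ : IrrCharacter H) : Irr H (extendByZero H γ) := by
  unfold Irr; simp only [extendByZero_coe]; exact γ.2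

theorem Ch.exists_irr (h : Ch H f) (h1 : f 1 ≠ 0) : ∃ γ, Irr H γ ∧ ip H f γ ≠ 0 := by
  by_contra! h2
  exact h1 ((h.expand (one_mem _)).trans
    (Finset.sum_eq_zero fun γ _ => by rw [h2 _ (irr_ext γ), zero_mul]))

theorem Ch.mul_of_eq (h : Ch H f) {a : Γ} (ha : a ∈ H) (e : f a = f 1) {x : Γ} (hx : x ∈ H) :
    f (a * x) = f x := H6.char_mul_of_eq_one h (g := ⟨a, ha⟩) e ⟨x, hx⟩

theorem Ch.eq_of_ip (h : Ch H f) (hg : Irr H g) (h1 : ip H f g ≠ 0) {a : Γ} (ha : a ∈ H)
    (e : f a = f 1) : g a = g 1 := by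
  have := Fintype.ofFinite H
  rw [ip_eq] at h1
  exact apply_eq_of_constituent h hg h1 (g := ⟨a, ha⟩) e

theorem Irr.exists_mul (h : Irr H f) {z : Γ} (hz : z ∈ H) (hc : ∀ x ∈ H, x * z = z * x) :
    ∃ ω : ℂ, ω ^ orderOf z = 1 ∧ ∀ x ∈ H, f (z * x) = ω * f x := by
  obtain ⟨ω, h1⟩ := exists_mul_of_mem_center h (z := ⟨z, hz⟩)
    (mem_center_iff.2 fun x => Subtype.ext (hc x x.2))
  have h2 : ∀ x ∈ H, f (z * x) = ω * f x := fun x hx => h1 ⟨x, hx⟩
  have h3 : ∀ n : ℕ, f (z ^ n) = ω ^ n * f 1 := fun n => by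
    induction n with
    | zero => simp
    | succ n ih => rw [pow_succ', h2 _ (pow_mem hz n), ih]; ring
  refine ⟨ω, ?_, h2⟩
  have := h3 (orderOf z)
  rw [pow_orderOf_eq_one] at this
  exact mul_right_cancel₀ h.one_ne (by rw [← this, one_mul])

end H85
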