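import Mathlib
import Cfsg.Agent.Lib.Deg.Cliff
import Cfsg.Agent.Lib.Deg.FS
import Cfsg.Agent.Lib.Char.ExtMain

/-! Clifford theory along homomorphisms; counting lemmas; isomorphism of character triples. -/

set_option autoImplicit false
set_option linter.unusedSectionVars false
set_option linter.style.haveILetI false

namespace H85

open Cfsg H87
open scoped ComplexConjugate commutatorElement

universe u v w

section Gen

theorem exists_equiv_of_rel {A B : Type*} (R : A → B → Prop) (h1 : ∀ a, ∃ b, R a b)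
    (h2 : ∀ b, ∃ a, R a b) (h3 : ∀ a b b', R a b → R a b' → b = b')
    (h4 : ∀ a a' b, R a b → R a' b → a = a') : ∃ e : A ≃ B, ∀ a, R a (e a) := by
  choose f hf using h1
  refine ⟨Equiv.ofBijective f ⟨fun a a' h => h4 a a' (f a) (hf a) (h ▸ hf a'), fun b => ?_⟩, hf⟩
  obtain ⟨a, ha⟩ := h2 b
  exact ⟨a, h3 a _ _ (hf a) ha⟩

theorem card_eq_sum_fib {A D : Type*} [Finite A] [Finite D] (s : Setoid D) (R : A → D → Prop)
    (h1 : ∀ a, ∃ d, R a d) (h2 : ∀ a d d', R a d → (R a d' ↔ s d d')) :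
    Nat.card A = ∑ᶠ c : Quotient s, Nat.card {a // R a c.out} := by
  letI := Fintype.ofFinite (Quotient s)
  choose f hf using h1
  rw [finsum_eq_sum_of_fintype, ← Nat.card_sigma]
  refine Nat.card_congr ?_
  refine (Equiv.sigmaFiberEquiv (fun a => Quotient.mk s (f a))).symm.trans
    (Equiv.sigmaCongrRight fun c => Equiv.subtypeEquivRight fun a => ?_)
  rw [h2 a _ _ (hf a)]
  constructor
  · intro h
    exact Quotient.exact (h.trans c.out_eq.symm)
  · intro h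
    exact (Quotient.sound h).trans c.out_eq

/-- two finite sets fibred over the classes of one equivalence relation with fibres of equal
size have equal size. -/
theorem card_eq_of_fib {A B D : Type*} [Finite A] [Finite B] [Finite D] (s : Setoid D)
    (R : A → D → Prop) (R' : B → D → Prop)
    (h1 : ∀ a, ∃ d, R a d) (h2 : ∀ a d d', R a d → (R a d' ↔ s d d'))
    (h1' : ∀ a, ∃ d, R' a d) (h2' : ∀ a d d', R' a d → (R' a d' ↔ s d d'))
    (h : ∀ d, Nat.card {a // R a d} = Nat.card {b // R' b d}) : Nat.card A = Nat.card B := by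
  rw [card_eq_sum_fib s R h1 h2, card_eq_sum_fib s R' h1' h2']
  exact finsum_congr fun c => h _

end Gen

section Ov

variable {L X : Type*} [Group L] [Group X]

/-- `χ` lies over `ν` along `j`. -/
def Ov (j : L →* X) (χ : X → ℂ) (ν : L → ℂ) : Prop := ∑ᶠ l : L, χ (j l) * conj (ν l) ≠ 0

theorem ov_iff [Fintype L] {j : L →* X} {χ : X → ℂ} {ν : L → ℂ} :
    Ov j χ ν ↔ classInner (fun l => χ (j l)) ν ≠ 0 := by
  rw [Ov, finsum_eq_sum_of_fintype, H6.classInner_def, mul_ne_zero_iff]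
  exact ⟨fun h => ⟨inv_ne_zero H6.card_ne_zero, h⟩, fun h => h.2⟩

theorem real_iff {χ : X → ℂ} : IsReal χ ↔ (fun g => conj (χ g)) = χ := by
  rw [funext_iff]
  exact forall_congr' fun _ => Complex.conj_eq_iff_im.symm

theorem ov_subtype {H : Subgroup X} {χ : X → ℂ} {θ : H → ℂ} : Ov H.subtype χ θ ↔ Over H χ θ :=
  Iff.rfl

theorem ov_congr {Y : Type*} [Group Y] {j : L →* X} {j' : L →* Y} {χ : X → ℂ} {χ' : Y → ℂ}
    {ν : L → ℂ} (h : ∀ l, χ (j l) = χ' (j' l)) : Ov j χ ν ↔ Ov j' χ' ν := by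
  simp only [Ov, h]

theorem ov_comp_equiv {L' : Type*} [Group L'] (e : L' ≃ L) {j : L →* X} {j' : L' →* X}
    (hj : ∀ l, j' l = j (e l)) {χ : X → ℂ} {ν : L → ℂ} :
    Ov j' χ (fun l => ν (e l)) ↔ Ov j χ ν := by
  simp only [Ov, hj]
  rw [finsum_comp_equiv e (f := fun l => χ (j l) * conj (ν l))]

theorem ov_conj [Finite L] {j : L →* X} {χ : X → ℂ} {ν : L → ℂ} :
    Ov j (fun x => conj (χ x)) (fun l => conj (ν l)) ↔ Ov j χ ν := by
  letI := Fintype.ofFinite L
  rw [ov_iff, ov_iff, H7.classInner_conj_conj (fun l => χ (j l)) ν, ne_eq,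
    H7.classInner_eq_zero_comm]

theorem ov_of_eq_mul [Finite L] {j : L →* X} {χ : X → ℂ} {ν : L → ℂ} (hν : IsIrrCharacter L ν)
    {e : ℂ} (he : e ≠ 0) (h : ∀ l, χ (j l) = e * ν l) : Ov j χ ν :=
  finsum_ne_zero_of_eq_mul hν he h

theorem ov_of_eq [Finite L] {j : L →* X} {χ : X → ℂ} {ν : L → ℂ} (hν : IsIrrCharacter L ν)
    (h : ∀ l, χ (j l) = ν l) : Ov j χ ν :=
  ov_of_eq_mul hν one_ne_zero (by simpa using h)

theorem Ov.eq_of_eq_mul [Finite L] {j : L →* X} {χ : X → ℂ} {ν ν' : L → ℂ}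
    (hν : IsIrrCharacter L ν) (hν' : IsIrrCharacter L ν') {e : ℂ} (h : ∀ l, χ (j l) = e * ν l)
    (ho : Ov j χ ν') : ν' = ν := by
  letI := Fintype.ofFinite L
  rw [ov_iff] at ho
  have : (fun l => χ (j l)) = e • ν := funext h
  rw [this, H7.classInner_smul_left] at ho
  exact (H6.irr_eq_of_inner_ne_zero hν hν' (right_ne_zero_of_mul ho)).symm

theorem exists_under_hom [Finite L] [Finite X] (j : L →* X) {χ : X → ℂ}
    (hχ : IsIrrCharacter X χ) : ∃ ν, IsIrrCharacter L ν ∧ Ov j χ ν := by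
  letI := Fintype.ofFinite L
  simp only [ov_iff]
  refine H7.exists_irr_constituent (H7.isClassFunction_comp (H6.irr_isClassFunction hχ) j) ?_
  simpa using H6.irr_one_ne_zero hχ

/-- transitivity of lying over -/
theorem Ov.trans [Finite L] [Finite X] {M : Type*} [Group M] [Finite M] {j : L →* X}
    {a : L →* M} {b : M →* X} (hab : ∀ l, b (a l) = j l) {χ : X → ℂ} {μ : M → ℂ} {ν : L → ℂ}
    (h1 : Ov b χ μ) (h2 : Ov a μ ν) (hχ : IsCharacter X χ) (hμ : IsIrrCharacter M μ)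
    (hν : IsCharacter L ν) : Ov j χ ν := by
  letI := Fintype.ofFinite L
  letI := Fintype.ofFinite M
  rw [ov_iff] at *
  have := H7.inner_comp_ne_zero_of_constituent a (H6.isCharacter_comp b hχ) hμ h1 hν h2
  simpa only [hab] using this

theorem Ov.exists_mid [Finite L] [Finite X] {M : Type*} [Group M] [Finite M] {j : L →* X}
    {a : L →* M} {b : M →* X} (hab : ∀ l, b (a l) = j l) {χ : X → ℂ} {ν : L → ℂ}
    (h : Ov j χ ν) (hχ : IsClassFunction X χ) :
    ∃ μ, IsIrrCharacter M μ ∧ Ov b χ μ ∧ Ov a μ ν := by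
  letI := Fintype.ofFinite L
  letI := Fintype.ofFinite M
  simp only [ov_iff] at *
  exact H7.exists_irr_inner_comp_ne_zero a (H7.isClassFunction_comp hχ b)
    (by simpa only [hab] using h)

theorem Ov.deg_le [Finite L] {j : L →* X} {χ : X → ℂ} {ν : L → ℂ} (h : Ov j χ ν)
    (hχ : IsCharacter X χ) (hν : IsIrrCharacter L ν) : charDegree ν ≤ charDegree χ := by
  letI := Fintype.ofFinite L
  rw [ov_iff] at h
  simpa [deg_comp] using deg_le_of_inner (H6.isCharacter_comp j hχ) hν h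

theorem Ov.eq_of_deg_le [Finite L] {j : L →* X} {χ : X → ℂ} {ν : L → ℂ} (h : Ov j χ ν)
    (hχ : IsCharacter X χ) (hν : IsIrrCharacter L ν) (hle : charDegree χ ≤ charDegree ν)
    (l : L) : χ (j l) = ν l := by
  letI := Fintype.ofFinite L
  rw [ov_iff] at h
  exact congrFun (eq_of_inner_of_deg_le (H6.isCharacter_comp j hχ) hν h
    (by simpa [deg_comp] using hle)) l

/-- `ν' = ν ^ x`. -/
def InvBy (j : L →* X) (ν ν' : L → ℂ) (x : X) : Prop :=
  ∀ l l', j l' = x * j l * x⁻¹ → ν' l = ν l'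

/-- transport of a function on `L` to the range of `j`. -/
noncomputable def tr (j : L →* X) (hj : Function.Injective j) (ν : L → ℂ) : j.range → ℂ :=
  fun x => ν ((MonoidHom.ofInjective hj).symm x)

theorem mem_rng (j : L →* X) (l : L) : j l ∈ j.range := ⟨l, rfl⟩

variable {j : L →* X} (hj : Function.Injective j)

theorem tr_apply (ν : L → ℂ) (l : L) (h : j l ∈ j.range) : tr j hj ν ⟨j l, h⟩ = ν l := by
  have : (⟨j l, h⟩ : j.range) = MonoidHom.ofInjective hj l := rfl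
  rw [tr, this, MulEquiv.symm_apply_apply]

theorem tr_of_eq (ν : L → ℂ) (x : j.range) (l : L) (h : j l = x) : tr j hj ν x = ν l := by
  obtain ⟨x, hx⟩ := x
  subst h
  exact tr_apply hj ν l hx

theorem tr_inj {ν ν' : L → ℂ} (h : tr j hj ν = tr j hj ν') : ν = ν' := by
  funext l
  rw [← tr_apply hj ν l (mem_rng j l), h, tr_apply]

theorem tr_irr {ν : L → ℂ} (h : IsIrrCharacter L ν) : IsIrrCharacter j.range (tr j hj ν) :=
  H6.isIrrCharacter_comp_surjective (MonoidHom.ofInjective hj).symm.toMonoidHom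
    (MonoidHom.ofInjective hj).symm.surjective h

theorem tr_char {ν : L → ℂ} (h : IsCharacter L ν) : IsCharacter j.range (tr j hj ν) :=
  H6.isCharacter_comp (MonoidHom.ofInjective hj).symm.toMonoidHom h

theorem exists_tr {θ : j.range → ℂ} (h : IsIrrCharacter j.range θ) :
    ∃ ν, IsIrrCharacter L ν ∧ tr j hj ν = θ :=
  ⟨fun l => θ (MonoidHom.ofInjective hj l),
    H6.isIrrCharacter_comp_surjective (MonoidHom.ofInjective hj).toMonoidHom
      (MonoidHom.ofInjective hj).surjective h,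
    funext fun x => by simp only [tr, MulEquiv.apply_symm_apply]⟩

theorem deg_tr (ν : L → ℂ) : charDegree (tr j hj ν) = charDegree ν :=
  deg_congr (tr_of_eq hj ν 1 1 (map_one j))

theorem ov_tr {χ : X → ℂ} {ν : L → ℂ} : Over j.range χ (tr j hj ν) ↔ Ov j χ ν := by
  rw [← ov_subtype]
  exact ov_comp_equiv (MonoidHom.ofInjective hj).symm.toEquiv
    (fun x => (MonoidHom.apply_ofInjective_symm hj x).symm)

theorem invBy_iff [hn : j.range.Normal] {ν ν' : L → ℂ} {x : X} :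
    InvBy j ν ν' x ↔ tr j hj ν' = H7.conjChar x (tr j hj ν) := by
  constructor
  · intro h
    funext y
    obtain ⟨l, hl⟩ := y.2
    obtain ⟨l', hl'⟩ := hn.conj_mem _ y.2 x
    rw [H7.conjChar_apply, tr_of_eq hj ν' y l hl, tr_of_eq hj ν _ l' hl']
    exact h l l' (by rw [hl', hl])
  · intro h l l' hl
    have := congrFun h ⟨j l, mem_rng j l⟩
    rwa [H7.conjChar_apply, tr_apply, tr_of_eq hj ν _ l' hl] at this

/-- the inertia group. -/
noncomputable def inJ [j.range.Normal] (ν : L → ℂ) : Subgroup X := H7.inertia (tr j hj ν)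

theorem mem_inJ [j.range.Normal] {ν : L → ℂ} {x : X} : x ∈ inJ hj ν ↔ InvBy j ν ν x := by
  rw [invBy_iff hj, inJ, H7.mem_inertia, eq_comm]

theorem range_le_inJ [j.range.Normal] {ν : L → ℂ} (h : IsIrrCharacter L ν) :
    j.range ≤ inJ hj ν := H7.le_inertia (H6.irr_isClassFunction (tr_irr hj h))

theorem invBy_of_res {χ : X → ℂ} (hχ : IsClassFunction X χ) {ν : L → ℂ} {e : ℂ} (he : e ≠ 0)
    (h : ∀ l, χ (j l) = e * ν l) (x : X) : InvBy j ν ν x := by
  intro l l' hl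
  apply mul_left_cancel₀ he
  rw [← h, ← h, hl, hχ]

variable [Finite X] [Finite L]

include hj in
theorem exists_over_hom {ν : L → ℂ} (hν : IsIrrCharacter L ν) :
    ∃ χ, IsIrrCharacter X χ ∧ Ov j χ ν := by
  obtain ⟨χ, h1, h2⟩ := exists_over (tr_irr hj hν)
  exact ⟨χ, h1, (ov_tr hj).1 h2⟩

variable [hn : j.range.Normal]

include hj in
theorem Ov.exists_invBy {χ : X → ℂ} {ν ν' : L → ℂ} (h : Ov j χ ν) (h' : Ov j χ ν')
    (hχ : IsIrrCharacter X χ) (hν : IsIrrCharacter L ν) (hν' : IsIrrCharacter L ν') :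
    ∃ x, InvBy j ν ν' x := by
  obtain ⟨x, hx⟩ := ((ov_tr hj).2 h).exists_conj ((ov_tr hj).2 h') hχ (tr_irr hj hν)
    (tr_irr hj hν')
  exact ⟨x, (invBy_iff hj).2 hx⟩

include hj in
theorem Ov.of_invBy {χ : X → ℂ} {ν ν' : L → ℂ} (h : Ov j χ ν) (hχ : IsClassFunction X χ) {x : X}
    (hx : InvBy j ν ν' x) : Ov j χ ν' := by
  rw [← ov_tr hj, (invBy_iff hj).1 hx]
  exact ((ov_tr hj).2 h).conjChar hχ x

include hj in
theorem exists_invBy {ν : L → ℂ} (hν : IsIrrCharacter L ν) (x : X) :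
    ∃ ν', IsIrrCharacter L ν' ∧ InvBy j ν ν' x := by
  obtain ⟨ν', h1, h2⟩ := exists_tr hj (H7.isIrr_conjChar x (tr_irr hj hν))
  exact ⟨ν', h1, (invBy_iff hj).2 h2⟩

include hj in
theorem InvBy.unique {ν ν' ν'' : L → ℂ} {x : X} (h : InvBy j ν ν' x) (h' : InvBy j ν ν'' x) :
    ν' = ν'' := tr_inj hj (((invBy_iff hj).1 h).trans ((invBy_iff hj).1 h').symm)

omit hn in
theorem InvBy.symm {ν ν' : L → ℂ} {x : X} (h : InvBy j ν ν' x) : InvBy j ν' ν x⁻¹ := by
  intro l l' hl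
  exact (h l' l (by rw [hl]; group)).symm

theorem InvBy.trans {ν ν' ν'' : L → ℂ} {x y : X} (h : InvBy j ν ν' x) (h' : InvBy j ν' ν'' y) :
    InvBy j ν ν'' (x * y) := by
  intro l l' hl
  obtain ⟨m, hm⟩ := hn.conj_mem _ (mem_rng j l) y
  rw [h' l m hm, h m l' (by rw [hl, hm]; group)]

omit hn in
include hj in
theorem invBy_one (ν : L → ℂ) : InvBy j ν ν 1 := by
  intro l l' hl
  rw [hj (show j l' = j l by simpa using hl)]

include hj in
theorem Ov.clifford {χ : X → ℂ} {ν : L → ℂ} (h : Ov j χ ν) (hχ : IsIrrCharacter X χ)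
    (hν : IsIrrCharacter L ν) : ∃ e : ℕ, 0 < e ∧
      charDegree χ = e * (inJ hj ν).index * charDegree ν ∧
      e * (inJ hj ν).index ∣ j.range.index := by
  have := ((ov_tr hj).2 h).clifford hχ (tr_irr hj hν)
  rwa [deg_tr] at this

include hj in
theorem Ov.exists_deg_eq {χ : X → ℂ} {ν : L → ℂ} (h : Ov j χ ν) (hχ : IsIrrCharacter X χ)
    (hν : IsIrrCharacter L ν) : ∃ k, charDegree χ = k * charDegree ν ∧ k ∣ j.range.index := by
  obtain ⟨e, -, h1, h2⟩ := h.clifford hj hχ hν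
  exact ⟨_, h1, h2⟩

include hj in
theorem Ov.deg_dvd {χ : X → ℂ} {ν : L → ℂ} (h : Ov j χ ν) (hχ : IsIrrCharacter X χ)
    (hν : IsIrrCharacter L ν) : charDegree ν ∣ charDegree χ := by
  obtain ⟨k, h1, -⟩ := h.exists_deg_eq hj hχ hν
  exact Dvd.intro_left k h1.symm

include hj in
theorem Ov.res_eq {χ : X → ℂ} {ν : L → ℂ} (h : Ov j χ ν) (hχ : IsIrrCharacter X χ)
    (hν : IsIrrCharacter L ν) (hinv : ∀ x, InvBy j ν ν x) :
    ∃ e : ℕ, 0 < e ∧ charDegree χ = e * charDegree ν ∧ ∀ l, χ (j l) = e * ν l := by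
  obtain ⟨e, h1, h2, h3⟩ := ((ov_tr hj).2 h).res_eq_of_invariant hχ (tr_irr hj hν)
    (eq_top_iff.2 fun x _ => (mem_inJ hj).2 (hinv x))
  refine ⟨e, h1, by rwa [deg_tr] at h2, fun l => ?_⟩
  rw [← tr_apply hj ν l (mem_rng j l)]
  exact h3 ⟨j l, mem_rng j l⟩

include hj in
/-- The Clifford correspondence along homomorphisms. -/
theorem exists_cliff_equiv {ν : L → ℂ} (hν : IsIrrCharacter L ν) {T : Type*} [Group T] [Finite T]
    {t : T →* X} (ht : Function.Injective t) {a : L →* T} (ha : ∀ l, t (a l) = j l)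
    (hT : ∀ x, InvBy j ν ν x → x ∈ t.range) :
    ∃ e : {ψ : IrrCharacter T // Ov a ψ.1 ν} ≃ {χ : IrrCharacter X // Ov j χ.1 ν}, ∀ ψ,
      charDegree (e ψ).1.1 = t.range.index * charDegree ψ.1.1 ∧ Ov t (e ψ).1.1 ψ.1.1 ∧
        (IsReal ν → (IsReal ψ.1.1 ↔ IsReal (e ψ).1.1)) := by
  letI := Fintype.ofFinite X
  letI := Fintype.ofFinite j.range
  letI := Fintype.ofFinite t.range
  have hNT : j.range ≤ t.range := by
    rintro _ ⟨l, rfl⟩
    exact ⟨a l, ha l⟩
  have hI : H7.inertia (tr j hj ν) ≤ t.range := fun x hx => hT x ((mem_inJ hj).1 hx)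
  have key : ∀ ψ : T → ℂ, Ov a ψ ν ↔
      classInner (fun n : j.range => tr t ht ψ ⟨n, hNT n.2⟩) (tr j hj ν) ≠ 0 := by
    intro ψ
    refine Iff.trans ?_ (ov_iff (j := Subgroup.inclusion hNT))
    rw [← ov_comp_equiv (MonoidHom.ofInjective hj).toEquiv
      (j' := (Subgroup.inclusion hNT).comp (MonoidHom.ofInjective hj).toMonoidHom) (fun _ => rfl)]
    have : (fun l => tr j hj ν ((MonoidHom.ofInjective hj).toEquiv l)) = ν :=
      funext fun l => tr_apply hj ν l _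
    rw [this]
    exact ov_congr fun l => (tr_of_eq ht ψ _ (a l) (ha l)).symm
  have hinj : ∀ ψ ψ' : T → ℂ, IsIrrCharacter T ψ → IsIrrCharacter T ψ' → Ov a ψ ν → Ov a ψ' ν →
      indFun t.range (tr t ht ψ) = indFun t.range (tr t ht ψ') → ψ = ψ' :=
    fun ψ ψ' h1 h2 h3 h4 h5 => tr_inj ht (H7.clifford_corr_inj hNT (tr_irr hj hν) hI
      (tr_irr ht h1) (tr_irr ht h2) ((key ψ).1 h3) ((key ψ').1 h4) h5)
  obtain ⟨e, he⟩ := exists_equiv_of_rel
    (fun (ψ : {ψ : IrrCharacter T // Ov a ψ.1 ν}) (χ : {χ : IrrCharacter X // Ov j χ.1 ν}) =>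
      χ.1.1 = indFun t.range (tr t ht ψ.1.1))
    (fun ψ => ⟨⟨⟨_, H7.clifford_corr_isIrr hNT (tr_irr hj hν) hI (tr_irr ht ψ.1.2)
      ((key _).1 ψ.2)⟩, by
        rw [← ov_tr hj, over_iff]
        simp only
        rw [H7.clifford_corr_mult hNT (tr_irr hj hν) hI (tr_irr ht ψ.1.2) ((key _).1 ψ.2)]
        exact (key _).1 ψ.2⟩, rfl⟩)
    (fun χ => by
      obtain ⟨ψ, h1, h2, h3⟩ := H7.clifford_corr_surj hNT (tr_irr hj hν) hI χ.1.2
        (over_iff.1 ((ov_tr hj).2 χ.2))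
      obtain ⟨ψ, h4, rfl⟩ := exists_tr ht h1
      exact ⟨⟨⟨ψ, h4⟩, (key _).2 (h3 ▸ over_iff.1 ((ov_tr hj).2 χ.2))⟩, h2.symm⟩)
    (fun ψ χ χ' h h' => Subtype.ext (Subtype.ext (h.trans h'.symm)))
    (fun ψ ψ' χ h h' => Subtype.ext (Subtype.ext
      (hinj _ _ ψ.1.2 ψ'.1.2 ψ.2 ψ'.2 (h.symm.trans h'))))
  refine ⟨e, fun ψ => ⟨?_, ?_, fun hr => ?_⟩⟩
  · rw [he ψ, deg_indFun _ (tr_char ht (H6.irr_isCharacter ψ.1.2)), deg_tr]
  · rw [he ψ, ← ov_tr ht]
    exact over_indFun_self (tr_irr ht ψ.1.2)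
  · rw [he ψ, real_iff, real_iff]
    have h1 : (fun g => conj (indFun t.range (tr t ht ψ.1.1) g)) =
        indFun t.range (tr t ht fun x => conj (ψ.1.1 x)) := funext fun g => H7.conj_indFun _ _ g
    rw [h1]
    refine ⟨fun h => by rw [h], fun h => hinj _ _ (H6.isIrrCharacter_conj ψ.1.2) ψ.1.2 ?_ ψ.2 h⟩
    have := ov_conj.2 ψ.2
    rwa [real_iff.1 hr] at this

end Ov

section Infl

variable {X Y : Type*} [Group X] [Group Y] [Finite X] [Finite Y]

theorem eq_of_comp_surj {φ : X →* Y} (hφ : Function.Surjective φ) {χ ψ : Y → ℂ}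
    (h : ∀ x, χ (φ x) = ψ (φ x)) : χ = ψ := by
  funext y
  obtain ⟨x, rfl⟩ := hφ y
  exact h x

theorem ov_comp_surj {L L' : Type*} [Group L] [Group L'] [Finite L] [Finite L'] {φ : L' →* L}
    (hφ : Function.Surjective φ) {j : L →* X} {j' : L' →* Y} {χ : X → ℂ} {χ' : Y → ℂ}
    {ν : L → ℂ} {ν' : L' → ℂ} (h1 : ∀ l, χ' (j' l) = χ (j (φ l))) (h2 : ∀ l, ν' l = ν (φ l)) :
    Ov j' χ' ν' ↔ Ov j χ ν := by
  letI := Fintype.ofFinite L
  letI := Fintype.ofFinite L'
  rw [ov_iff, ov_iff, ← H7.classInner_comp_surjective φ hφ, funext h1, funext h2]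

end Infl

section Tri

variable {G : Type u} [Group G] {L Q : Type*} [Group L] [Group Q]

/-- `(Γ, ker σ, lam)` is a character triple with central `ker σ` isomorphic to `(G, L, ν)`. -/
structure IsTri (π : G →* Q) (j : L →* G) (ν : L → ℂ) {Γ : Type u} [Group Γ] (σ : Γ →* Q)
    (lam : σ.ker →* ℂˣ) : Prop where
  surj : Function.Surjective σ
  central : σ.ker ≤ Subgroup.center Γ
  faithful : Function.Injective lam
  equiv : ∀ (X : Type u) [Group X] [Finite X] (f : X →* G) (_ : Function.Injective f)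
    (a : L →* X) (_ : ∀ l, f (a l) = j l) (Y : Type u) [Group Y] [Finite Y] (g : Y →* Γ)
    (_ : Function.Injective g) (b : σ.ker →* Y) (_ : ∀ z, g (b z) = z)
    (_ : ∀ y : Γ, y ∈ g.range ↔ σ y ∈ (π.comp f).range),
    ∃ e : {χ : IrrCharacter X // Ov a χ.1 ν} ≃
        {β : IrrCharacter Y // Ov b β.1 (fun z => (lam z : ℂ))},
      ∀ χ, charDegree χ.1.1 = charDegree ν * charDegree (e χ).1.1

theorem exists_tri [Finite G] [Finite L] {π : G →* Q} (hπ : Function.Surjective π) {j : L →* G}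
    (hj : Function.Injective j) (hker : π.ker = j.range) {ν : L → ℂ} (hν : IsIrrCharacter L ν)
    (hinv : ∀ x, InvBy j ν ν x) :
    ∃ (Γ : Type u) (_ : Group Γ) (_ : Finite Γ) (σ : Γ →* Q) (lam : σ.ker →* ℂˣ),
      IsTri π j ν σ lam := by
  haveI hn : j.range.Normal := hker ▸ inferInstance
  have hϑ := tr_irr hj hν
  obtain ⟨Γ, _, _, ρ, τ, μ, h⟩ := H31.exists_centralExt j.range hϑ
    (fun g n => (congrFun ((invBy_iff hj).1 (hinv g)) n).symm)
  let N := j.range.comap ρ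
  have hN : N = j.range.comap ρ := rfl
  haveI hK : (μ.ker.map N.subtype).Normal := H31.normal_ker_map μ h.inv
  let K := μ.ker.map N.subtype
  have hKmem : ∀ x : Γ, x ∈ K ↔ ∃ hx : x ∈ N, μ ⟨x, hx⟩ = 1 := by
    intro x
    constructor
    · rintro ⟨y, hy, rfl⟩
      exact ⟨y.2, hy⟩
    · rintro ⟨hx, h1⟩
      exact ⟨⟨x, hx⟩, h1, rfl⟩
  have hNmem : ∀ x : Γ, x ∈ N ↔ π (ρ x) = 1 := fun x => by
    rw [hN, Subgroup.mem_comap, ← hker, MonoidHom.mem_ker]
  let σ : Γ ⧸ K →* Q := QuotientGroup.lift K (π.comp ρ)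
    (fun x hx => (hNmem x).1 ((hKmem x).1 hx).1)
  have hσ : ∀ x : Γ, σ (x : Γ ⧸ K) = π (ρ x) := fun x => rfl
  let s : N →* σ.ker := ((QuotientGroup.mk' K).comp N.subtype).codRestrict σ.ker
    (fun x => (hNmem x).1 x.2)
  have hs : ∀ x : N, (s x : Γ ⧸ K) = ((x : Γ) : Γ ⧸ K) := fun x => rfl
  have hss : Function.Surjective s := by
    rintro ⟨z, hz⟩
    obtain ⟨x, rfl⟩ := QuotientGroup.mk_surjective z
    exact ⟨⟨x, (hNmem x).2 hz⟩, rfl⟩
  have hsk : ∀ x : N, s x = 1 ↔ μ x = 1 := fun x => by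
    rw [Subtype.ext_iff, hs, OneMemClass.coe_one, QuotientGroup.eq_one_iff, hKmem]
    exact ⟨fun h => h.2, fun h => ⟨x.2, h⟩⟩
  let lam : σ.ker →* ℂˣ := s.liftOfSurjective hss ⟨μ, fun x hx => (hsk x).1 hx⟩
  have hlam : ∀ x, lam (s x) = μ x := fun x =>
    MonoidHom.liftOfRightInverse_comp_apply _ _ _ _ x
  refine ⟨Γ ⧸ K, inferInstance, inferInstance, σ, lam, ?_, ?_, ?_, ?_⟩
  · intro q
    obtain ⟨g, rfl⟩ := hπ q
    obtain ⟨x, rfl⟩ := h.surj g
    exact ⟨x, rfl⟩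
  · intro z hz
    obtain ⟨x, hx⟩ := hss ⟨z, hz⟩
    have hz' : z = ((x : Γ) : Γ ⧸ K) := (congrArg Subtype.val hx).symm
    rw [Subgroup.mem_center_iff]
    intro y
    obtain ⟨y, rfl⟩ := QuotientGroup.mk_surjective y
    rw [hz', ← QuotientGroup.mk_mul, ← QuotientGroup.mk_mul, QuotientGroup.eq, hKmem]
    have h1 : y⁻¹ * (x : Γ) * y⁻¹⁻¹ ∈ N := (Subgroup.Normal.comap hn ρ).conj_mem _ x.2 _
    have h2 : (y * (x : Γ))⁻¹ * (x * y) = (x⁻¹ * ⟨_, h1⟩ : N) := by simp [mul_assoc]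
    refine ⟨h2 ▸ (x⁻¹ * ⟨_, h1⟩ : N).2, ?_⟩
    have h3 : (⟨(y * (x : Γ))⁻¹ * (x * y), h2 ▸ (x⁻¹ * ⟨_, h1⟩ : N).2⟩ : N) = x⁻¹ * ⟨_, h1⟩ :=
      Subtype.ext h2
    rw [h3, map_mul, h.inv y⁻¹ x, map_inv, inv_mul_cancel]
  · rw [injective_iff_map_eq_one]
    intro z hz
    obtain ⟨x, rfl⟩ := hss z
    rw [hlam] at hz
    exact (hsk x).2 hz
  intro X _ _ f hf a ha Y _ _ g hg b hb hr
  letI := Fintype.ofFinite Γ
  let W := f.range.comap ρ
  letI := Fintype.ofFinite W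
  have hNW : N ≤ W := by
    rintro x ⟨l, hl⟩
    exact ⟨a l, (ha l).trans hl⟩
  let uu : W →* X := (MonoidHom.ofInjective hf).symm.toMonoidHom.comp (ρ.subgroupComap f.range)
  have hu : ∀ w, f (uu w) = ρ w := fun w => MonoidHom.apply_ofInjective_symm hf _
  have huu : Function.Surjective uu :=
    (MonoidHom.ofInjective hf).symm.surjective.comp (h.surjective_res f.range)
  have hWg : ∀ w : W, ((w : Γ) : Γ ⧸ K) ∈ g.range := fun w => by
    rw [hr]
    exact ⟨uu w, by rw [MonoidHom.comp_apply, hu, hσ]⟩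
  let vv : W →* Y := (MonoidHom.ofInjective hg).symm.toMonoidHom.comp
    (((QuotientGroup.mk' K).comp W.subtype).codRestrict g.range hWg)
  have hv : ∀ w, g (vv w) = ((w : Γ) : Γ ⧸ K) := fun w => MonoidHom.apply_ofInjective_symm hg _
  have hvv : Function.Surjective vv := by
    intro y
    obtain ⟨w, hw⟩ := QuotientGroup.mk_surjective (g y)
    obtain ⟨x, hx⟩ := (hr (g y)).1 ⟨y, rfl⟩
    rw [← hw, hσ, MonoidHom.comp_apply] at hx
    have : (f x)⁻¹ * ρ w ∈ j.range := by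
      rw [← hker, MonoidHom.mem_ker, map_mul, map_inv, hx, inv_mul_cancel]
    obtain ⟨l, hl⟩ := this
    refine ⟨⟨w, x * a l, by rw [map_mul, ha, hl]; group⟩, hg ?_⟩
    rw [hv, hw]
  let N' := N.subgroupOf W
  haveI hN' : N'.Normal := (Subgroup.Normal.comap hn ρ).subgroupOf W
  letI := Fintype.ofFinite N'
  let r : N' →* N := H7.subgroupOfHom N W
  have hr1 : ∀ x : N', ((r x : N) : Γ) = (x : W) := fun x => rfl
  have hrs : Function.Surjective r := fun x => ⟨⟨⟨x, hNW x.2⟩, x.2⟩, rfl⟩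
  have hμi : IsIrrCharacter N' (fun x => (μ (r x) : ℂ)) := H6.isIrrCharacter_hom (μ.comp r)
  have h0 : ((fun x : N' => (μ (r x) : ℂ)) * fun x : N' => τ (r x)) =
      fun x => tr j hj ν ⟨ρ (r x), (r x).2⟩ := by
    funext x
    rw [← h.eq, mul_comm]
    rfl
  have hprod : IsIrrCharacter N' ((fun x : N' => (μ (r x) : ℂ)) * fun x : N' => τ (r x)) := by
    rw [h0]
    exact H6.isIrrCharacter_comp_surjective r hrs (h.isIrr_comp hϑ)
  have hτW : IsCharacter W (fun w => τ w) := H6.isCharacter_restrict W (H6.irr_isCharacter h.irr)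
  have hμinv : ∀ (w : W) (n : N'), (μ (r ⟨w * n * w⁻¹, hN'.conj_mem (n : W) n.2 w⟩) : ℂ) =
      μ (r n) := fun w n => congrArg Units.val (h.inv w (r n))
  have hB := H31.gallagher_bijOn N' hμi hμinv hprod hτW (fun _ => rfl)
  -- the map `N' → L`
  let c : N' →* L := (MonoidHom.ofInjective hj).symm.toMonoidHom.comp
    ((ρ.subgroupComap j.range).comp r)
  have hc : ∀ x, j (c x) = ρ (x : W) := fun x => MonoidHom.apply_ofInjective_symm hj _
  have hcs : Function.Surjective c :=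
    (MonoidHom.ofInjective hj).symm.surjective.comp ((h.surjective_res j.range).comp hrs)
  have hac : ∀ x, a (c x) = uu x := fun x => hf (by rw [ha, hc, hu])
  have hbs : ∀ x, b (s (r x)) = vv x := fun x => hg (by rw [hb, hv]; rfl)
  have o1 : ∀ χ : X → ℂ, IsIrrCharacter X χ → (Ov a χ ν ↔ classInner (indFun N'
      ((fun x : N' => (μ (r x) : ℂ)) * fun x : N' => τ (r x))) (fun w => χ (uu w)) ≠ 0) := by
    intro χ hχ
    rw [H31.inner_indFun_ne_zero_iff _ _
      (H7.isClassFunction_comp (H6.irr_isClassFunction hχ) uu), h0]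
    refine Iff.trans ?_ (ov_iff (j := N'.subtype) (χ := fun w => χ (uu w)))
    exact (ov_comp_surj hcs (fun x => by rw [hac]; rfl) (fun x => rfl)).symm
  have o2 : ∀ β : Y → ℂ, IsIrrCharacter Y β → (Ov b β (fun z => (lam z : ℂ)) ↔
      classInner (indFun N' (fun x : N' => (μ (r x) : ℂ))) (fun w => β (vv w)) ≠ 0) := by
    intro β hβ
    rw [H31.inner_indFun_ne_zero_iff _ _
      (H7.isClassFunction_comp (H6.irr_isClassFunction hβ) vv)]
    refine Iff.trans ?_ (ov_iff (j := N'.subtype) (χ := fun w => β (vv w)))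
    exact (ov_comp_surj (φ := s.comp r) (hss.comp hrs) (j := b) (j' := N'.subtype) (χ := β)
      (χ' := fun w => β (vv w)) (ν := fun z => (lam z : ℂ)) (ν' := fun x => (μ (r x) : ℂ))
      (fun x => congrArg β (hbs x).symm)
      (fun x => by rw [MonoidHom.comp_apply, hlam])).symm
  obtain ⟨e, he⟩ := exists_equiv_of_rel
    (fun (χ : {χ : IrrCharacter X // Ov a χ.1 ν})
      (β : {β : IrrCharacter Y // Ov b β.1 (fun z => (lam z : ℂ))}) =>
      ∀ w, χ.1.1 (uu w) = β.1.1 (vv w) * τ w)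
    (fun χ => by
      obtain ⟨β, ⟨hβ, hβo⟩, hβτ⟩ := hB.surjOn (show _ ∈ _ from
        ⟨H6.isIrrCharacter_comp_surjective uu huu χ.1.2, (o1 _ χ.1.2).1 χ.2⟩)
      obtain ⟨k, -, -, hk⟩ := H31.exists_res_eq_of_invariant N' hμi hμinv hβ
        ((H31.inner_indFun_ne_zero_iff _ _ (H6.irr_isClassFunction hβ)).1 hβo)
      obtain ⟨β', hβ', hββ⟩ := H31.exists_irr_descend vv hvv hβ (fun z hz => by
        have h1 : (z : Γ) ∈ K := by rw [← QuotientGroup.eq_one_iff, ← hv, hz, map_one]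
        obtain ⟨h2, h3⟩ := (hKmem _).1 h1
        have h4 := hk ⟨z, h2⟩
        have h5 := hk 1
        have h6 : r ⟨z, h2⟩ = ⟨z, h2⟩ := rfl
        simp only [h6, h3, map_one, Units.val_one, OneMemClass.coe_one] at h4 h5
        rw [h4, h5])
      refine ⟨⟨⟨β', hβ'⟩, (o2 _ hβ').2 (by rw [funext hββ]; exact hβo)⟩, fun w => ?_⟩
      simp only
      rw [hββ]
      exact (congrFun hβτ w).symm)
    (fun β => by
      obtain ⟨h1, h2⟩ := hB.mapsTo (show _ ∈ _ from
        ⟨H6.isIrrCharacter_comp_surjective vv hvv β.1.2, (o2 _ β.1.2).1 β.2⟩)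
      obtain ⟨k, -, -, hk⟩ := H31.exists_res_eq_of_invariant N' hprod
        (fun w n => by
          simp only [Pi.mul_apply]
          rw [hμinv]
          congr 1
          exact H6.irr_isClassFunction h.irr _ _) h1
        ((H31.inner_indFun_ne_zero_iff _ _ (H6.irr_isClassFunction h1)).1 h2)
      obtain ⟨χ, hχ, hχβ⟩ := H31.exists_irr_descend uu huu h1 (fun z hz => by
        have h3 : ρ z = 1 := by rw [← hu, hz, map_one]
        have h4 : (z : Γ) ∈ N := by rw [hNmem, h3, map_one]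
        have h5 := hk ⟨z, h4⟩
        have h6 := hk 1
        rw [h0] at h5 h6
        simp only [OneMemClass.coe_one, map_one] at h5 h6
        refine h5.trans (Eq.trans ?_ h6.symm)
        congr 2
        exact Subtype.ext h3)
      exact ⟨⟨⟨χ, hχ⟩, (o1 _ hχ).2 (by rw [funext hχβ]; exact h2)⟩, hχβ⟩)
    (fun χ β β' h1 h2 => by
      have := hB.injOn (show _ ∈ _ from
        ⟨H6.isIrrCharacter_comp_surjective vv hvv β.1.2, (o2 _ β.1.2).1 β.2⟩)
        (show _ ∈ _ from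
        ⟨H6.isIrrCharacter_comp_surjective vv hvv β'.1.2, (o2 _ β'.1.2).1 β'.2⟩)
        (funext fun w => (h1 w).symm.trans (h2 w))
      exact Subtype.ext (Subtype.ext (eq_of_comp_surj hvv (congrFun this))))
    (fun χ χ' β h1 h2 => Subtype.ext (Subtype.ext (eq_of_comp_surj huu
      fun w => (h1 w).trans (h2 w).symm)))
  refine ⟨e, fun χ => ?_⟩
  have h1 := he χ 1
  simp only [map_one, OneMemClass.coe_one] at h1
  rw [h.tau_one, tr_of_eq hj ν 1 1 (map_one j), ← irr_deg_cast χ.1.2, ← irr_deg_cast (e χ).1.2,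
    ← irr_deg_cast hν, mul_comm] at h1
  exact_mod_cast h1

end Tri

end H85
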