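import Mathlib
import Cfsg.Agent.Lib.H85.Tri
import Cfsg.Agent.Lib.Glaub.PGroup
import Cfsg.Agent.Lib.Deg.FS3

/-! Gallagher's count of the characters over a given one by good classes. -/

set_option autoImplicit false
set_option linter.unusedSectionVars false
set_option linter.style.haveILetI false

namespace H85

open Cfsg H87
open scoped ComplexConjugate commutatorElement

universe u v w

/-- `ν` extends along `a`. -/
def Ext {L X : Type*} [Group L] [Group X] (a : L →* X) (ν : L → ℂ) : Prop :=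
  ∃ χ, IsIrrCharacter X χ ∧ ∀ l, χ (a l) = ν l

theorem sum_comp_surj {X Y : Type*} [Group X] [Group Y] [Fintype X] [Fintype Y] (f : X →* Y)
    (hf : Function.Surjective f) (F : Y → ℂ) :
    ∑ x, F (f x) = (Nat.card f.ker : ℂ) * ∑ y, F y := by
  have h1 := H7.classInner_comp_surjective f hf F (fun _ => 1)
  simp only [H7.classInner_def, map_one, mul_one] at h1
  have h2 : (Nat.card X : ℂ) = Nat.card f.ker * Nat.card Y := by
    rw [← Nat.cast_mul, ← Subgroup.card_mul_index f.ker, Subgroup.index_ker,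
      MonoidHom.range_eq_top.mpr hf, Subgroup.card_top]
  have h3 := H7.card_ne_zero' Y
  have h4 := H7.card_ne_zero' f.ker
  rw [h2] at h1
  field_simp at h1
  exact h1

theorem isCyclic_quot_of_hom {X C : Type*} [Group X] [Group C] [IsCyclic C] (f : X →* C)
    (N : Subgroup X) [N.Normal] (h : ∀ x, f x = 1 → x ∈ N) : IsCyclic (X ⧸ N) := by
  haveI : IsCyclic (X ⧸ f.ker) :=
    isCyclic_of_injective (QuotientGroup.kerLift f) (QuotientGroup.kerLift_injective f)
  refine isCyclic_of_surjective (QuotientGroup.map f.ker N (MonoidHom.id X) h) fun q => ?_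
  obtain ⟨x, rfl⟩ := QuotientGroup.mk_surjective q
  exact ⟨x, rfl⟩

section Central

variable {Γ Q : Type*} [Group Γ] [Group Q] {σ : Γ →* Q}

/-- the good elements of `Q` -/
def GoodC (σ : Γ →* Q) (lam : σ.ker →* ℂˣ) (a : Q) : Prop :=
  ∀ x g : Γ, σ x = a → ∀ h : ⁅x, g⁆ ∈ σ.ker, lam ⟨⁅x, g⁆, h⟩ = 1

theorem commutator_mem_ker_iff {x g : Γ} : ⁅x, g⁆ ∈ σ.ker ↔ Commute (σ x) (σ g) := by
  rw [MonoidHom.mem_ker, map_commutatorElement, commutatorElement_eq_one_iff_commute]

theorem commutator_eq_of_central (hc : σ.ker ≤ Subgroup.center Γ) {x x' : Γ} (h : σ x = σ x')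
    (g : Γ) : ⁅x, g⁆ = ⁅x', g⁆ := by
  have h1 : x'⁻¹ * x ∈ Subgroup.center Γ := hc (by
    rw [MonoidHom.mem_ker, map_mul, map_inv, h, inv_mul_cancel])
  rw [Subgroup.mem_center_iff] at h1
  have h2 : x = x' * (x'⁻¹ * x) := by group
  set z := x'⁻¹ * x
  rw [h2, commutatorElement_def, commutatorElement_def]
  calc x' * z * g * (x' * z)⁻¹ * g⁻¹ = x' * (z * g) * z⁻¹ * x'⁻¹ * g⁻¹ := by group
    _ = _ := by rw [← h1 g]; group

/-- `g ↦ lam ⁅x, g⁆` on the centraliser of `σ x`. -/
def commHomC (hc : σ.ker ≤ Subgroup.center Γ) (lam : σ.ker →* ℂˣ) (x : Γ) :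
    (Subgroup.centralizer {σ x}).comap σ →* ℂˣ where
  toFun g := lam ⟨⁅x, (g : Γ)⁆, commutator_mem_ker_iff.2
    (Subgroup.mem_centralizer_singleton_iff.1 g.2).symm⟩
  map_one' := by
    simp only [OneMemClass.coe_one, commutatorElement_one_right]
    exact map_one lam
  map_mul' g h := by
    refine Eq.trans ?_ (map_mul lam _ _)
    congr 1
    apply Subtype.ext
    have h1 := Subgroup.mem_center_iff.1 (hc (commutator_mem_ker_iff.2
      (Subgroup.mem_centralizer_singleton_iff.1 h.2).symm : ⁅x, (h : Γ)⁆ ∈ σ.ker)) g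
    simp only [Subgroup.coe_mul]
    rw [commutatorElement_mul_right_eq_mul_conj, mul_assoc _ (g : Γ), h1]
    group

variable [Finite Γ] [Finite Q]

theorem sum_central_mul (hc : σ.ker ≤ Subgroup.center Γ) (lam : σ.ker →* ℂˣ) [Fintype σ.ker]
    {β : Γ → ℂ} (hβ : IsIrrCharacter Γ β) (x : Γ) [Decidable (Ov σ.ker.subtype β fun z => lam z)] :
    ∑ z : σ.ker, conj (lam z : ℂ) * β (z * x) =
      if Ov σ.ker.subtype β (fun z => lam z) then Nat.card σ.ker * β x else 0 := by
  have h1 : ∀ z : σ.ker, β (z * x) = β z / β 1 * β x := by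
    intro z
    obtain ⟨ω, hω⟩ := exists_mul_of_mem_center hβ (hc z.2)
    have := hω 1
    rw [mul_one] at this
    rw [hω, this, mul_div_assoc, div_self (H6.irr_one_ne_zero hβ), mul_one]
  have h2 : ∑ z : σ.ker, conj (lam z : ℂ) * β (z * x) =
      (∑ z : σ.ker, β z * conj (lam z : ℂ)) * (β x / β 1) := by
    rw [Finset.sum_mul]
    exact Finset.sum_congr rfl fun z _ => by rw [h1]; ring
  rw [h2]
  split_ifs with h
  · haveI : σ.ker.subtype.range.Normal := by rw [Subgroup.range_subtype]; infer_instance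
    obtain ⟨e, -, -, he⟩ := h.res_eq σ.ker.subtype_injective hβ (H6.isIrrCharacter_hom lam)
      (fun y l l' hl => by
        have : l' = l := Subtype.ext (by
          simp only [Subgroup.coe_subtype] at hl
          rw [hl, Subgroup.mem_center_iff.1 (hc l.2) y, mul_inv_cancel_right])
        rw [this])
    have h3 : β 1 = e := by simpa using he 1
    have h4 : ∀ z : σ.ker, β z * conj (lam z : ℂ) = β 1 := fun z => by
      have := he z
      simp only [Subgroup.coe_subtype] at this
      rw [this, H6.conj_hom, mul_assoc, ← Units.val_mul, MonoidHom.inv_apply, mul_inv_cancel,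
        Units.val_one, mul_one, h3]
    simp only [h4, Finset.sum_const, Finset.card_univ, nsmul_eq_mul, Nat.card_eq_fintype_card]
    field_simp [H6.irr_one_ne_zero hβ]
  · rw [Ov, not_not, finsum_eq_sum_of_fintype] at h
    simp only [Subgroup.coe_subtype] at h
    rw [h, zero_mul]

theorem count_central (hs : Function.Surjective σ) (hc : σ.ker ≤ Subgroup.center Γ)
    (lam : σ.ker →* ℂˣ) :
    (Nat.card {β : IrrCharacter Γ // Ov σ.ker.subtype β.1 fun z => lam z} : ℂ) * Nat.card Q =
      ∑ᶠ a : {a : Q // GoodC σ lam a}, (Nat.card (Subgroup.centralizer {a.1}) : ℂ) := by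
  classical
  letI := Fintype.ofFinite Γ
  letI := Fintype.ofFinite Q
  letI := Fintype.ofFinite σ.ker
  have hZ0 : (Nat.card σ.ker : ℂ) ≠ 0 := H7.card_ne_zero' σ.ker
  have hΓ : (Nat.card Γ : ℂ) = Nat.card σ.ker * Nat.card Q := by
    rw [← Nat.cast_mul, ← Subgroup.card_mul_index σ.ker, Subgroup.index_ker,
      MonoidHom.range_eq_top.mpr hs, Subgroup.card_top]
  -- left side
  have hL : ∑ β : IrrCharacter Γ, ∑ x : Γ, (∑ z : σ.ker, conj (lam z : ℂ) * β.1 (z * x)) *
      conj (β.1 x) = Nat.card σ.ker * Nat.card Γ *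
        Nat.card {β : IrrCharacter Γ // Ov σ.ker.subtype β.1 fun z => lam z} := by
    rw [Nat.card_eq_fintype_card (α := {β : IrrCharacter Γ // _}), Fintype.card_subtype,
      ← Finset.sum_boole, Finset.mul_sum]
    refine Finset.sum_congr rfl fun β _ => ?_
    simp only [sum_central_mul hc lam β.2]
    split_ifs with h
    · simp only [mul_assoc, ← Finset.mul_sum, sum_mul_conj_self β.2, mul_one]
    · simp
  -- right side
  have hR : ∀ x : Γ, ∑ β : IrrCharacter Γ, (∑ z : σ.ker, conj (lam z : ℂ) * β.1 (z * x)) *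
      conj (β.1 x) = if GoodC σ lam (σ x) then
        (Nat.card σ.ker : ℂ) * Nat.card (Subgroup.centralizer {σ x}) else 0 := by
    intro x
    have e1 : ∑ β : IrrCharacter Γ, (∑ z : σ.ker, conj (lam z : ℂ) * β.1 (z * x)) * conj (β.1 x) =
        ∑ g : Γ, ∑ z : σ.ker, conj (lam z : ℂ) * if g * (z * x) * g⁻¹ = x then (1 : ℂ) else 0 := by
      simp only [Finset.sum_mul, mul_assoc]
      rw [Finset.sum_comm, Finset.sum_comm (s := Finset.univ (α := Γ))]
      refine Finset.sum_congr rfl fun z _ => ?_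
      rw [← Finset.mul_sum, ← Finset.mul_sum, H88.column_orthogonality_sum]
      simp only [mul_assoc]
    have e2 : ∀ g : Γ, ∑ z : σ.ker, conj (lam z : ℂ) * (if g * (z * x) * g⁻¹ = x then (1 : ℂ) else 0) =
        if h : g ∈ (Subgroup.centralizer {σ x}).comap σ then
          conj (commHomC hc lam x ⟨g, h⟩ : ℂ) else 0 := by
      intro g
      have e3 : ∀ z : σ.ker, g * (z * x) * g⁻¹ = x ↔ (z : Γ) = ⁅x, g⁆ := fun z => by
        rw [← mul_assoc, Subgroup.mem_center_iff.1 (hc z.2) g, commutatorElement_def]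
        constructor
        · intro h
          calc (z : Γ) = (z * g * x * g⁻¹) * g * x⁻¹ * g⁻¹ := by group
            _ = _ := by rw [h]
        · intro h
          rw [h]; group
      simp only [e3]
      split_ifs with h
      · have hm : ⁅x, g⁆ ∈ σ.ker := commutator_mem_ker_iff.2
          (Subgroup.mem_centralizer_singleton_iff.1 h).symm
        rw [Finset.sum_eq_single ⟨_, hm⟩]
        · simp only [if_true, mul_one]; rfl
        · intro z _ hz
          rw [if_neg (fun h' => hz (Subtype.ext h')), mul_zero]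
        · simp
      · refine Finset.sum_eq_zero fun z _ => ?_
        rw [if_neg, mul_zero]
        intro h'
        exact h (Subgroup.mem_centralizer_singleton_iff.2
          (commutator_mem_ker_iff.1 (h' ▸ z.2 : ⁅x, g⁆ ∈ σ.ker)).symm)
    rw [e1]
    simp only [e2]
    set C := (Subgroup.centralizer {σ x}).comap σ with hC
    have e4 : ∑ g : Γ, (if h : g ∈ C then conj (commHomC hc lam x ⟨g, h⟩ : ℂ) else 0) =
        conj (∑ g : C, (commHomC hc lam x g : ℂ)) := by
      rw [map_sum, ← H7.sum_extendByZero C]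
      refine Finset.sum_congr rfl fun g _ => ?_
      split_ifs with h
      · rw [H7.extendByZero_of_mem _ _ h]
      · rw [H7.extendByZero_of_not_mem _ _ h]
    rw [e4]
    split_ifs with h
    · have : ∀ g : C, commHomC hc lam x g = 1 := fun g => h x g rfl _
      simp only [this, Units.val_one, Finset.sum_const, Finset.card_univ, nsmul_eq_mul, mul_one,
        map_natCast]
      rw [← Nat.card_eq_fintype_card, ← Nat.cast_mul, hC]
      congr 1
      have h1 := (Subgroup.centralizer {σ x}).index_comap_of_surjective hs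
      have h2 := ((Subgroup.centralizer {σ x}).comap σ).card_mul_index
      have h3 := (Subgroup.centralizer {σ x}).card_mul_index
      have h4 : Nat.card Γ = Nat.card σ.ker * Nat.card Q := by exact_mod_cast hΓ
      rw [h1, h4, ← h3, ← mul_assoc] at h2
      exact Nat.eq_of_mul_eq_mul_right (Nat.pos_of_ne_zero Subgroup.index_ne_zero_of_finite) h2
    · rw [show ∑ g : C, (commHomC hc lam x g : ℂ) = 0 from
        sum_hom_units_eq_zero ((Units.coeHom ℂ).comp (commHomC hc lam x)) ?_, map_zero]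
      intro h1
      apply h
      intro x' g hx hm
      have hm' : ⁅x, g⁆ ∈ σ.ker := commutator_eq_of_central hc hx g ▸ hm
      have h2 := DFunLike.congr_fun h1 ⟨g, Subgroup.mem_centralizer_singleton_iff.2
          (commutator_mem_ker_iff.1 hm').symm⟩
      have h3 : (⟨⁅x', g⁆, hm⟩ : σ.ker) = ⟨⁅x, g⁆, hm'⟩ :=
        Subtype.ext (commutator_eq_of_central hc hx g)
      rw [h3]
      exact Units.ext h2
  rw [Finset.sum_comm] at hL
  simp only [hR] at hL
  rw [sum_comp_surj σ hs (fun a => if GoodC σ lam a then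
    (Nat.card σ.ker : ℂ) * Nat.card (Subgroup.centralizer {a}) else 0), hΓ] at hL
  rw [finsum_eq_sum_of_fintype, ← Finset.sum_subtype (Finset.univ.filter (GoodC σ lam))
    (by simp) (fun a => (Nat.card (Subgroup.centralizer {a}) : ℂ)), Finset.sum_filter]
  apply mul_left_cancel₀ hZ0
  apply mul_left_cancel₀ hZ0
  rw [Finset.mul_sum]
  simp only [mul_ite, mul_zero] at hL ⊢
  rw [hL]
  ring

theorem lam_commutator_iff (hc : σ.ker ≤ Subgroup.center Γ) (lam : σ.ker →* ℂˣ) {x g : Γ}
    (h : ⁅x, g⁆ ∈ σ.ker) {Y : Type*} [Group Y] [Finite Y] {i : Y →* Γ}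
    (hi : Function.Injective i) {b : σ.ker →* Y} (hb : ∀ z, i (b z) = z)
    (hr : ∀ y, y ∈ i.range ↔ σ y ∈ Subgroup.closure {σ x, σ g}) :
    lam ⟨⁅x, g⁆, h⟩ = 1 ↔
      ∃ β, IsIrrCharacter Y β ∧ Ov b β (fun z => lam z) ∧ charDegree β = 1 := by
  have hbi : Function.Injective b := fun z z' hz => Subtype.ext (by rw [← hb, hz, hb])
  have hbc : ∀ z y, y * b z = b z * y := fun z y => hi (by
    rw [map_mul, map_mul, hb, Subgroup.mem_center_iff.1 (hc z.2)])
  haveI : b.range.Normal := ⟨by
    rintro _ ⟨z, rfl⟩ y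
    exact ⟨z, by rw [hbc, mul_inv_cancel_right]⟩⟩
  obtain ⟨x', hx'⟩ := (hr x).2 (Subgroup.subset_closure (by simp))
  obtain ⟨g', hg'⟩ := (hr g).2 (Subgroup.subset_closure (by simp))
  have hxg : b ⟨⁅x, g⁆, h⟩ = ⁅x', g'⁆ := hi (by rw [hb, map_commutatorElement, hx', hg'])
  have hres : ∀ β, IsIrrCharacter Y β → Ov b β (fun z => lam z) →
      ∀ z, β (b z) = β 1 * lam z := by
    intro β hβ ho
    obtain ⟨e, -, -, he⟩ := ho.res_eq hbi hβ (H6.isIrrCharacter_hom lam) (fun y l l' hl => by
      rw [hbc, mul_inv_cancel_right] at hl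
      rw [hbi hl])
    have h3 : β 1 = e := by simpa using he 1
    intro z
    rw [he, h3]
  constructor
  · intro h1
    obtain ⟨β, hβ, ho⟩ := exists_over_hom hbi (H6.isIrrCharacter_hom lam)
    refine ⟨β, hβ, ho, deg_eq_one_of_commutator_le hβ ?_⟩
    set K := H6.charKer β
    have hK : ⁅x', g'⁆ ∈ K := by
      rw [H6.mem_charKer (H6.irr_isCharacter hβ), ← hxg, hres β hβ ho, h1, Units.val_one, mul_one]
    have gen : ∀ S : Subgroup Y, b.range ≤ S → x' ∈ S → g' ∈ S → ∀ y, y ∈ S := by
      intro S h1 h2 h3 y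
      have h4 : Subgroup.closure {σ x, σ g} ≤ (S.map i).map σ := by
        rw [Subgroup.closure_le]
        rintro _ (rfl | rfl)
        · exact ⟨x, ⟨x', h2, hx'⟩, rfl⟩
        · exact ⟨g, ⟨g', h3, hg'⟩, rfl⟩
      obtain ⟨_, ⟨s, hs, rfl⟩, hs'⟩ := h4 ((hr _).1 ⟨y, rfl⟩)
      have h5 : (i s)⁻¹ * i y ∈ σ.ker := by
        rw [MonoidHom.mem_ker, map_mul, map_inv, hs', inv_mul_cancel]
      have h6 : y = s * b ⟨_, h5⟩ := hi (by rw [map_mul, hb]; group)
      rw [h6]
      exact S.mul_mem hs (h1 ⟨_, rfl⟩)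
    let ψ := QuotientGroup.mk' K
    have c1 : ψ x' * ψ g' = ψ g' * ψ x' := by
      rw [← commutatorElement_eq_one_iff_mul_comm, ← map_commutatorElement]
      exact (QuotientGroup.eq_one_iff _).2 hK
    have c2 : ∀ t y : Y, (t = x' ∨ t = g') → ψ y * ψ t = ψ t * ψ y := by
      intro t y ht
      refine Subgroup.mem_centralizer_singleton_iff.1
        (gen ((Subgroup.centralizer {ψ t}).comap ψ) ?_ ?_ ?_ y)
      · rintro _ ⟨z, rfl⟩
        rw [Subgroup.mem_comap, Subgroup.mem_centralizer_singleton_iff, ← map_mul, ← hbc, map_mul]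
      · rw [Subgroup.mem_comap, Subgroup.mem_centralizer_singleton_iff]
        rcases ht with rfl | rfl
        · rfl
        · exact c1
      · rw [Subgroup.mem_comap, Subgroup.mem_centralizer_singleton_iff]
        rcases ht with rfl | rfl
        · exact c1.symm
        · rfl
    have c3 : ∀ y t : Y, ψ t * ψ y = ψ y * ψ t := by
      intro y t
      refine Subgroup.mem_centralizer_singleton_iff.1
        (gen ((Subgroup.centralizer {ψ y}).comap ψ) ?_ ?_ ?_ t)
      · rintro _ ⟨z, rfl⟩
        rw [Subgroup.mem_comap, Subgroup.mem_centralizer_singleton_iff, ← map_mul, ← hbc, map_mul]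
      · rw [Subgroup.mem_comap, Subgroup.mem_centralizer_singleton_iff]
        exact (c2 _ _ (Or.inl rfl)).symm
      · rw [Subgroup.mem_comap, Subgroup.mem_centralizer_singleton_iff]
        exact (c2 _ _ (Or.inr rfl)).symm
    rw [commutator_def, Subgroup.commutator_le]
    intro s _ t _
    rw [← QuotientGroup.eq_one_iff, ← QuotientGroup.mk'_apply, map_commutatorElement,
      commutatorElement_eq_one_iff_mul_comm]
    exact c3 _ _
  · rintro ⟨β, hβ, ho, h1⟩
    have h2 := (H6.mem_charKer (H6.irr_isCharacter hβ)).1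
      (commutator_le_charKer_of_deg_one (H6.irr_isCharacter hβ) h1
        (Subgroup.commutator_mem_commutator (Subgroup.mem_top x') (Subgroup.mem_top g')))
    rw [← hxg, hres β hβ ho] at h2
    exact Units.ext (mul_left_cancel₀ (H6.irr_one_ne_zero hβ) (h2.trans (mul_one _).symm))

end Central

section General

variable {G : Type u} [Group G] [Finite G] {L Q : Type*} [Group L] [Finite L] [Group Q] [Finite Q]

/-- `ν` extends to the preimage of `A`. -/
def ExtA (π : G →* Q) (j : L →* G) (ν : L → ℂ) (A : Subgroup Q) : Prop :=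
  ∃ χ : A.comap π → ℂ, IsIrrCharacter (A.comap π) χ ∧
    ∀ l (h : j l ∈ A.comap π), χ ⟨j l, h⟩ = ν l

theorem ext_iff_deg {X : Type*} [Group X] [Finite X] {a : L →* X} {ν : L → ℂ}
    (hν : IsIrrCharacter L ν) :
    Ext a ν ↔ ∃ χ, IsIrrCharacter X χ ∧ Ov a χ ν ∧ charDegree χ = charDegree ν := by
  constructor
  · rintro ⟨χ, h1, h2⟩
    exact ⟨χ, h1, ov_of_eq hν h2, deg_congr (by rw [← h2, map_one])⟩
  · rintro ⟨χ, h1, h2, h3⟩
    exact ⟨χ, h1, h2.eq_of_deg_le (H6.irr_isCharacter h1) hν h3.le⟩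

theorem IsTri.extA_iff {π : G →* Q} {j : L →* G} (hker : π.ker = j.range) {ν : L → ℂ}
    (hν : IsIrrCharacter L ν) {Γ : Type u} [Group Γ] [Finite Γ] {σ : Γ →* Q} {lam : σ.ker →* ℂˣ}
    (hπ : Function.Surjective π) (h : IsTri π j ν σ lam) {x g : Γ} (hc : ⁅x, g⁆ ∈ σ.ker) :
    lam ⟨⁅x, g⁆, hc⟩ = 1 ↔ ExtA π j ν (Subgroup.closure {σ x, σ g}) := by
  set A := Subgroup.closure {σ x, σ g}
  have hj : ∀ l, j l ∈ A.comap π := fun l => by
    have : j l ∈ π.ker := hker ▸ mem_rng j l
    rw [Subgroup.mem_comap, MonoidHom.mem_ker.1 this]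
    exact A.one_mem
  have hb : σ.ker ≤ A.comap σ := fun z hz => by
    rw [Subgroup.mem_comap, MonoidHom.mem_ker.1 hz]
    exact A.one_mem
  obtain ⟨e, he⟩ := h.equiv (A.comap π) (A.comap π).subtype (A.comap π).subtype_injective
    (j.codRestrict _ hj) (fun _ => rfl) (A.comap σ) (A.comap σ).subtype
    (A.comap σ).subtype_injective (Subgroup.inclusion hb) (fun _ => rfl) (fun y => by
      rw [Subgroup.range_subtype, Subgroup.mem_comap, MonoidHom.range_comp, Subgroup.range_subtype,
        Subgroup.map_comap_eq_self_of_surjective hπ])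
  rw [lam_commutator_iff h.central lam hc (A.comap σ).subtype_injective
    (b := Subgroup.inclusion hb) (fun _ => rfl) (fun y => by rw [Subgroup.range_subtype]; rfl)]
  have : ExtA π j ν A ↔ Ext (j.codRestrict _ hj) ν :=
    exists_congr fun χ => and_congr_right fun _ => ⟨fun h l => h l _, fun h l _ => h l⟩
  rw [this, ext_iff_deg hν]
  have hpos := deg_pos hν
  constructor
  · rintro ⟨β, h1, h2, h3⟩
    obtain ⟨χ, hχ⟩ := e.surjective ⟨⟨β, h1⟩, h2⟩
    have := he χ
    rw [hχ] at this
    exact ⟨χ.1.1, χ.1.2, χ.2, by rw [this, h3, mul_one]⟩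
  · rintro ⟨χ, h1, h2, h3⟩
    have := he ⟨⟨χ, h1⟩, h2⟩
    refine ⟨_, (e ⟨⟨χ, h1⟩, h2⟩).1.2, (e ⟨⟨χ, h1⟩, h2⟩).2, ?_⟩
    simp only [h3] at this
    exact (Nat.eq_of_mul_eq_mul_left hpos (this.symm.trans (mul_one _).symm))

theorem count_inv {π : G →* Q} (hπ : Function.Surjective π) {j : L →* G}
    (hj : Function.Injective j) (hker : π.ker = j.range) {ν : L → ℂ} (hν : IsIrrCharacter L ν)
    (hinv : ∀ x, InvBy j ν ν x) :
    (Nat.card {χ : IrrCharacter G // Ov j χ.1 ν} : ℂ) * Nat.card Q =
      ∑ᶠ a : {a : Q // ∀ c, Commute a c → ExtA π j ν (Subgroup.closure {a, c})},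
        (Nat.card (Subgroup.centralizer {a.1}) : ℂ) := by
  obtain ⟨Γ, _, _, σ, lam, h⟩ := exists_tri hπ hj hker hν hinv
  obtain ⟨e, -⟩ := h.equiv G (MonoidHom.id G) Function.injective_id j (fun _ => rfl) Γ
    (MonoidHom.id Γ) Function.injective_id σ.ker.subtype (fun _ => rfl) (fun y => by
      simp [MonoidHom.range_eq_top.2 hπ])
  rw [Nat.card_congr e, count_central h.surj h.central lam]
  have key : ∀ a, GoodC σ lam a ↔ ∀ c, Commute a c → ExtA π j ν (Subgroup.closure {a, c}) := by
    intro a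
    constructor
    · intro h1 c hc
      obtain ⟨x, rfl⟩ := h.surj a
      obtain ⟨g, rfl⟩ := h.surj c
      exact (h.extA_iff hker hν hπ (commutator_mem_ker_iff.2 hc)).1 (h1 x g rfl _)
    · rintro h1 x g rfl hc
      exact (h.extA_iff hker hν hπ hc).2 (h1 _ (commutator_mem_ker_iff.1 hc))
  exact finsum_comp_equiv (Equiv.subtypeEquivRight key)
    (f := fun a => (Nat.card (Subgroup.centralizer {a.1}) : ℂ))

theorem extA_congr {X : Type*} [Group X] [Finite X] {π : G →* Q} {j : L →* G} {ν : L → ℂ}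
    {A : Subgroup Q} {f : X →* G} (hf : Function.Injective f) (hr : f.range = A.comap π)
    {a : L →* X} (ha : ∀ l, f (a l) = j l) : ExtA π j ν A ↔ Ext a ν := by
  have hm : ∀ x, f x ∈ A.comap π := fun x => hr ▸ mem_rng f x
  let e : X ≃* A.comap π := MulEquiv.ofBijective (f.codRestrict _ hm) ⟨fun x y h =>
    hf (congrArg Subtype.val h), fun y => by
      obtain ⟨x, hx⟩ : y.1 ∈ f.range := by rw [hr]; exact y.2
      exact ⟨x, Subtype.ext hx⟩⟩
  have he : ∀ l (h : j l ∈ A.comap π), e (a l) = ⟨j l, h⟩ := fun l h => Subtype.ext (ha l)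
  constructor
  · rintro ⟨χ, h1, h2⟩
    refine ⟨fun x => χ (e x), H6.isIrrCharacter_comp_surjective e.toMonoidHom e.surjective h1,
      fun l => ?_⟩
    simp only
    rw [he l (ha l ▸ hm _), h2]
  · rintro ⟨χ, h1, h2⟩
    refine ⟨fun x => χ (e.symm x), H6.isIrrCharacter_comp_surjective e.symm.toMonoidHom
      e.symm.surjective h1, fun l h => ?_⟩
    simp only
    rw [← he, e.symm_apply_apply, h2]

theorem invBy_iff_extA {π : G →* Q} {j : L →* G} (hj : Function.Injective j)
    (hker : π.ker = j.range) {ν : L → ℂ} (hν : IsIrrCharacter L ν) (x : G) :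
    InvBy j ν ν x ↔ ExtA π j ν (Subgroup.closure {π x, π x}) := by
  haveI hn : j.range.Normal := hker ▸ inferInstance
  set A := Subgroup.closure {π x, π x} with hA
  have hjA : ∀ l, j l ∈ A.comap π := fun l => by
    have : j l ∈ π.ker := hker ▸ mem_rng j l
    rw [Subgroup.mem_comap, MonoidHom.mem_ker.1 this]
    exact A.one_mem
  constructor
  · intro h
    have hle : j.range ≤ A.comap π := by
      rintro _ ⟨l, rfl⟩
      exact hjA l
    have hA' : A = Subgroup.zpowers (π x) := by
      rw [hA, Set.pair_eq_singleton, Subgroup.zpowers_eq_closure]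
    have hT : A.comap π ≤ inJ hj ν := by
      intro y hy
      rw [Subgroup.mem_comap, hA'] at hy
      obtain ⟨k, hk⟩ := hy
      have h1 : (x ^ k)⁻¹ * y ∈ j.range := by
        rw [← hker, MonoidHom.mem_ker, map_mul, map_inv, map_zpow, ← hk, inv_mul_cancel]
      have h2 : y = x ^ k * ((x ^ k)⁻¹ * y) := by group
      rw [h2]
      exact mul_mem (zpow_mem ((mem_inJ hj).2 h) k) (range_le_inJ hj hν h1)
    have hcyc : IsCyclic (A.comap π ⧸ j.range.subgroupOf (A.comap π)) := by
      haveI : IsCyclic A := hA' ▸ inferInstance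
      refine isCyclic_quot_of_hom (π.subgroupComap A) _ fun y hy => ?_
      rw [Subgroup.mem_subgroupOf, ← hker]
      exact congrArg Subtype.val hy
    obtain ⟨ψ, h1, h2⟩ := H31.extends_le_of_isCyclic hle hcyc (tr_irr hj hν) hT
    exact ⟨ψ, h1, fun l _ => (h2 ⟨j l, mem_rng j l⟩).trans (tr_apply hj ν l _)⟩
  · rintro ⟨χ, h1, h2⟩ l l' hl
    have hx : x ∈ A.comap π := Subgroup.subset_closure (by simp)
    have h3 := H6.irr_isClassFunction h1 ⟨j l, hjA l⟩ ⟨x, hx⟩
    have h4 : (⟨x, hx⟩ * ⟨j l, hjA l⟩ * ⟨x, hx⟩⁻¹ : A.comap π) = ⟨j l', hjA l'⟩ :=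
      Subtype.ext hl.symm
    rw [h4, h2, h2] at h3
    exact h3.symm

/-- Two characters over the same quotient group `Q` that extend to the preimages of the same
two-generated abelian subgroups have equally many irreducible characters above them. -/
theorem count_eq_of_extA {G' : Type v} [Group G'] [Finite G'] {L' : Type*} [Group L'] [Finite L']
    {π : G →* Q} (hπ : Function.Surjective π) {j : L →* G}
    (hj : Function.Injective j) (hker : π.ker = j.range) {ν : L → ℂ} (hν : IsIrrCharacter L ν)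
    {π' : G' →* Q} (hπ' : Function.Surjective π') {j' : L' →* G'}
    (hj' : Function.Injective j') (hker' : π'.ker = j'.range) {ν' : L' → ℂ}
    (hν' : IsIrrCharacter L' ν')
    (h : ∀ a c, Commute a c → (ExtA π j ν (Subgroup.closure {a, c}) ↔
      ExtA π' j' ν' (Subgroup.closure {a, c}))) :
    Nat.card {χ : IrrCharacter G // Ov j χ.1 ν} =
      Nat.card {χ : IrrCharacter G' // Ov j' χ.1 ν'} := by
  haveI hn : j.range.Normal := hker ▸ inferInstance
  haveI hn' : j'.range.Normal := hker' ▸ inferInstance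
  set T := (inJ hj ν).map π with hT
  have hTm : ∀ x, π x ∈ T ↔ InvBy j ν ν x := fun x => by
    rw [← mem_inJ hj, ← Subgroup.mem_comap, hT, Subgroup.comap_map_eq_self
      (hker ▸ range_le_inJ hj hν)]
  have hTm' : ∀ x, π' x ∈ T ↔ InvBy j' ν' ν' x := fun x => by
    obtain ⟨y, hy⟩ := hπ (π' x)
    rw [invBy_iff_extA hj' hker' hν', ← h _ _ (Commute.refl _), ← hy, hTm,
      invBy_iff_extA hj hker hν]
  have hjT : ∀ l, j l ∈ T.comap π := fun l => (hTm _).2 ((mem_inJ hj).1
    (range_le_inJ hj hν (mem_rng j l)))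
  have hjT' : ∀ l, j' l ∈ T.comap π' := fun l => (hTm' _).2 ((mem_inJ hj').1
    (range_le_inJ hj' hν' (mem_rng j' l)))
  obtain ⟨e, -⟩ := exists_cliff_equiv hj hν (T.comap π).subtype_injective
    (a := j.codRestrict _ hjT) (fun _ => rfl) (fun x hx => ⟨⟨x, (hTm x).2 hx⟩, rfl⟩)
  obtain ⟨e', -⟩ := exists_cliff_equiv hj' hν' (T.comap π').subtype_injective
    (a := j'.codRestrict _ hjT') (fun _ => rfl) (fun x hx => ⟨⟨x, (hTm' x).2 hx⟩, rfl⟩)
  rw [← Nat.card_congr e, ← Nat.card_congr e']
  have c1 := count_inv (π := π.subgroupComap T) (π.subgroupComap_surjective_of_surjective T hπ)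
    (j := j.codRestrict _ hjT) (fun a b hab => hj (congrArg Subtype.val hab)) (by
      ext x
      rw [MonoidHom.mem_ker, Subtype.ext_iff]
      refine Iff.trans (show _ ↔ (x : G) ∈ j.range from hker ▸ Iff.rfl) ?_
      exact exists_congr fun l => ⟨fun h => Subtype.ext h, fun h => congrArg Subtype.val h⟩) hν
    (fun x l l' hl => (hTm x).1 x.2 l l' (congrArg Subtype.val hl))
  have c2 := count_inv (π := π'.subgroupComap T) (π'.subgroupComap_surjective_of_surjective T hπ')
    (j := j'.codRestrict _ hjT') (fun a b hab => hj' (congrArg Subtype.val hab)) (by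
      ext x
      rw [MonoidHom.mem_ker, Subtype.ext_iff]
      refine Iff.trans (show _ ↔ (x : G') ∈ j'.range from hker' ▸ Iff.rfl) ?_
      exact exists_congr fun l => ⟨fun h => Subtype.ext h, fun h => congrArg Subtype.val h⟩) hν'
    (fun x l l' hl => (hTm' x).1 x.2 l l' (congrArg Subtype.val hl))
  have t1 : ∀ a c : T, ExtA (π.subgroupComap T) (j.codRestrict _ hjT) ν
      (Subgroup.closure {a, c}) ↔ ExtA π j ν (Subgroup.closure {a.1, c.1}) := by
    intro a c
    have hm : ∀ l, j.codRestrict _ hjT l ∈ (Subgroup.closure {a, c}).comap (π.subgroupComap T) :=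
      fun l => by
        have : π.subgroupComap T (j.codRestrict _ hjT l) = 1 :=
          Subtype.ext (show j l ∈ π.ker from hker ▸ mem_rng j l)
        rw [Subgroup.mem_comap, this]
        exact one_mem _
    rw [extA_congr (Subgroup.subtype_injective _) (Subgroup.range_subtype _)
      (a := (j.codRestrict _ hjT).codRestrict _ hm) (fun _ => rfl)]
    refine (extA_congr (f := (T.comap π).subtype.comp (Subgroup.subtype _))
      ((Subgroup.subtype_injective _).comp (Subgroup.subtype_injective _)) ?_ (fun _ => rfl)).symm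
    have : Subgroup.closure {a.1, c.1} = (Subgroup.closure {a, c}).map T.subtype := by
      rw [MonoidHom.map_closure, Set.image_pair]; rfl
    rw [this, MonoidHom.range_comp, Subgroup.range_subtype]
    ext x
    constructor
    · rintro ⟨y, hy, rfl⟩
      exact ⟨_, hy, rfl⟩
    · rintro ⟨y, hy, hx⟩
      refine ⟨⟨x, show π x ∈ T from hx ▸ y.2⟩, ?_, rfl⟩
      have : y = π.subgroupComap T ⟨x, show π x ∈ T from hx ▸ y.2⟩ := Subtype.ext hx
      rwa [this] at hy
  have t2 : ∀ a c : T, ExtA (π'.subgroupComap T) (j'.codRestrict _ hjT') ν'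
      (Subgroup.closure {a, c}) ↔ ExtA π' j' ν' (Subgroup.closure {a.1, c.1}) := by
    intro a c
    have hm : ∀ l, j'.codRestrict _ hjT' l ∈
        (Subgroup.closure {a, c}).comap (π'.subgroupComap T) :=
      fun l => by
        have : π'.subgroupComap T (j'.codRestrict _ hjT' l) = 1 :=
          Subtype.ext (show j' l ∈ π'.ker from hker' ▸ mem_rng j' l)
        rw [Subgroup.mem_comap, this]
        exact one_mem _
    rw [extA_congr (Subgroup.subtype_injective _) (Subgroup.range_subtype _)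
      (a := (j'.codRestrict _ hjT').codRestrict _ hm) (fun _ => rfl)]
    refine (extA_congr (f := (T.comap π').subtype.comp (Subgroup.subtype _))
      ((Subgroup.subtype_injective _).comp (Subgroup.subtype_injective _)) ?_ (fun _ => rfl)).symm
    have : Subgroup.closure {a.1, c.1} = (Subgroup.closure {a, c}).map T.subtype := by
      rw [MonoidHom.map_closure, Set.image_pair]; rfl
    rw [this, MonoidHom.range_comp, Subgroup.range_subtype]
    ext x
    constructor
    · rintro ⟨y, hy, rfl⟩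
      exact ⟨_, hy, rfl⟩
    · rintro ⟨y, hy, hx⟩
      refine ⟨⟨x, show π' x ∈ T from hx ▸ y.2⟩, ?_, rfl⟩
      have : y = π'.subgroupComap T ⟨x, show π' x ∈ T from hx ▸ y.2⟩ := Subtype.ext hx
      rwa [this] at hy
  have key2 : ∀ a : T, (∀ c, Commute a c → ExtA (π.subgroupComap T) (j.codRestrict _ hjT) ν
      (Subgroup.closure {a, c})) ↔ ∀ c, Commute a c → ExtA (π'.subgroupComap T)
        (j'.codRestrict _ hjT') ν' (Subgroup.closure {a, c}) := fun a =>
    forall_congr' fun c => forall_congr' fun hc => by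
      rw [t1, t2]
      exact h _ _ (congrArg Subtype.val hc)
  rw [← finsum_comp_equiv (Equiv.subtypeEquivRight key2)
    (f := fun a => (Nat.card (Subgroup.centralizer {a.1}) : ℂ))] at c2
  exact_mod_cast mul_right_cancel₀ (H7.card_ne_zero' T) (c1.trans c2.symm)

end General

end H85
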