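import Mathlib
import Cfsg.Agent.Lib.H85.Good
import Cfsg.Agent.Lib.Glaub.Solvable

/-! The Glauberman correspondence along homomorphisms. -/

set_option autoImplicit false
set_option linter.unusedSectionVars false
set_option linter.style.haveILetI false

namespace H85

open Cfsg H87
open scoped ComplexConjugate commutatorElement

universe u v w

section Cor

variable {p : ℕ} {E : Type*} [Group E] [Finite E]

/-- the multiplicity of `β` in `φ` is prime to `p`. -/
def Cor (p : ℕ) {E : Type*} [Group E] [Finite E] (φ β : E → ℂ) : Prop :=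
  ¬ p ∣ @H88.mult E _ (Fintype.ofFinite E) φ β

theorem cor_iff [i : Fintype E] {φ β : E → ℂ} : Cor p φ β ↔ ¬ p ∣ H88.mult φ β := by
  rw [Cor, Subsingleton.elim (Fintype.ofFinite E) i]

theorem Cor.ov {D : Type*} [Group D] {ι : E →* D} {θ : D → ℂ} {β : E → ℂ}
    (h : Cor p (fun e => θ (ι e)) β) (hθ : IsCharacter D θ) (hβ : IsCharacter E β) : Ov ι θ β := by
  letI := Fintype.ofFinite E
  rw [cor_iff] at h
  rw [ov_iff, ← H88.mult_ne_zero_iff (H6.isCharacter_comp ι hθ) hβ]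
  intro h0
  exact h (h0 ▸ dvd_zero p)

theorem cor_self [hp : Fact p.Prime] {β : E → ℂ} (hβ : IsIrrCharacter E β) : Cor p β β := by
  letI := Fintype.ofFinite E
  rw [cor_iff, H88.mult_eq_of_eq (m := 1) (by rw [H6.irr_inner_self hβ, Nat.cast_one])]
  exact hp.out.one_lt.ne' ∘ Nat.dvd_one.1

theorem cor_comp_equiv {E' : Type*} [Group E'] [Finite E'] (e : E' ≃ E) {φ β : E → ℂ} :
    Cor p (fun x => φ (e x)) (fun x => β (e x)) ↔ Cor p φ β := by
  letI := Fintype.ofFinite E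
  letI := Fintype.ofFinite E'
  rw [cor_iff, cor_iff, H88.mult_comp_equiv]

theorem cor_mul_hom {φ β : E → ℂ} (mu : E →* ℂˣ) :
    Cor p (fun x => φ x * mu x) (fun x => β x * mu x) ↔ Cor p φ β := by
  letI := Fintype.ofFinite E
  rw [cor_iff, cor_iff, H88.mult, H88.mult, H7.classInner_mul_left]
  have : (fun g => conj (mu g : ℂ) * (β g * mu g)) = β := by
    funext x
    rw [H6.conj_hom, mul_left_comm, ← Units.val_mul, MonoidHom.inv_apply, inv_mul_cancel,
      Units.val_one, mul_one]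
  rw [this]

theorem Cor.split [hp : Fact p.Prime] {F : Type*} [Group F] [Finite F] (ι : E →* F) {φ : F → ℂ}
    {β : E → ℂ} (hφ : IsCharacter F φ) (hβ : IsCharacter E β)
    (h : Cor p (fun e => φ (ι e)) β) :
    ∃ γ, IsIrrCharacter F γ ∧ Cor p φ γ ∧ Cor p (fun e => γ (ι e)) β := by
  letI := Fintype.ofFinite E
  letI := Fintype.ofFinite F
  simp only [cor_iff] at *
  rw [H88.mult_comp_eq_sum ι hφ hβ] at h
  by_contra hc
  refine h (Finset.dvd_sum fun γ _ => ?_)
  by_contra h1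
  exact hc ⟨γ.1, γ.2, fun h2 => h1 (h2.mul_right _), fun h2 => h1 (h2.mul_left _)⟩

theorem Cor.join [hp : Fact p.Prime] {F : Type*} [Group F] [Finite F] (ι : E →* F) {φ γ : F → ℂ}
    {β : E → ℂ} (hφ : IsCharacter F φ) (hβ : IsCharacter E β) (hγ : IsIrrCharacter F γ)
    (h1 : Cor p φ γ) (hu : ∀ γ', IsIrrCharacter F γ' → Cor p φ γ' → γ' = γ)
    (h2 : Cor p (fun e => γ (ι e)) β) : Cor p (fun e => φ (ι e)) β := by
  letI := Fintype.ofFinite E
  letI := Fintype.ofFinite F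
  letI := Classical.decEq (IrrCharacter F)
  simp only [cor_iff] at *
  rw [H88.mult_comp_eq_sum ι hφ hβ, ← Finset.add_sum_erase _ _ (Finset.mem_univ ⟨γ, hγ⟩),
    Nat.dvd_add_left (Finset.dvd_sum fun γ' hγ' => ?_)]
  · exact fun h => (hp.out.dvd_mul.1 h).elim h1 h2
  · refine Dvd.dvd.mul_right ?_ _
    by_contra h
    exact Finset.ne_of_mem_erase hγ' (Subtype.ext (hu _ γ'.2 h))

theorem Cor.invBy {D X : Type*} [Group D] [Group X] {u : D →* X} {ι : E →* D} {v : E →* X}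
    (hv : ∀ e, v e = u (ι e)) (hi : Function.Injective v) {x : X}
    (hx : ∀ e, ∃ e', v e' = x * v e * x⁻¹) {θ θ' : D → ℂ} {β β' : E → ℂ}
    (h : Cor p (fun e => θ (ι e)) β) (h1 : InvBy u θ θ' x) (h2 : InvBy v β β' x) :
    Cor p (fun e => θ' (ι e)) β' := by
  choose φ hφ using hx
  have hinj : Function.Injective φ := fun e e' he => hi (by
    have := hφ e
    rw [he, hφ e'] at this
    simpa using this.symm)
  let e := Equiv.ofBijective φ (Finite.injective_iff_bijective.1 hinj)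
  rw [← cor_comp_equiv e] at h
  have e1 : (fun y => θ' (ι y)) = fun y => θ (ι (e y)) :=
    funext fun y => h1 _ _ (by rw [← hv, ← hv]; exact hφ y)
  have e2 : β' = fun y => β (e y) := funext fun y => h2 _ _ (hφ y)
  rw [e1, e2]
  exact h

end Cor

section InvBy

variable {L X : Type*} [Group L] [Group X] {j : L →* X}

theorem InvBy.symm' {ν ν' : L → ℂ} {x : X} (h : InvBy j ν ν' x) : InvBy j ν' ν x⁻¹ := by
  intro l l' hl
  exact (h l' l (by rw [hl]; group)).symm

theorem InvBy.trans' {ν ν' ν'' : L → ℂ} {x y : X} (hy : ∀ l, ∃ m, j m = y * j l * y⁻¹)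
    (h : InvBy j ν ν' x) (h' : InvBy j ν' ν'' y) : InvBy j ν ν'' (x * y) := by
  intro l l' hl
  obtain ⟨m, hm⟩ := hy l
  rw [h' l m hm, h m l' (by rw [hl, hm]; group)]

theorem InvBy.unique' {ν ν' ν'' : L → ℂ} {x : X} (hx : ∀ l, ∃ m, j m = x * j l * x⁻¹)
    (h : InvBy j ν ν' x) (h' : InvBy j ν ν'' x) : ν' = ν'' := by
  funext l
  obtain ⟨m, hm⟩ := hx l
  rw [h l m hm, h' l m hm]

theorem exists_invBy' [Finite L] (hj : Function.Injective j) {ν : L → ℂ}
    (hν : IsIrrCharacter L ν) {x : X} (hx : ∀ l, ∃ m, j m = x * j l * x⁻¹) :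
    ∃ ν', IsIrrCharacter L ν' ∧ InvBy j ν ν' x := by
  choose φ hφ using hx
  let e : L →* L := MonoidHom.mk' φ fun a b => hj (by simp only [map_mul, hφ]; group)
  have hinj : Function.Injective e := fun a b he => hj (by
    have := hφ a
    rw [show φ a = φ b from he, hφ b] at this
    simpa using this.symm)
  refine ⟨fun l => ν (e l), H6.isIrrCharacter_comp_surjective e
    (Finite.injective_iff_surjective.1 hinj) hν, fun l l' hl => ?_⟩
  rw [hj (hl.trans (hφ l).symm)]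
  rfl

theorem invBy_comp {Γ : Type*} [Group Γ] {f : X →* Γ} (hf : Function.Injective f) {g : L →* Γ}
    (hg : ∀ l, g l = f (j l)) {ν ν' : L → ℂ} {x : X} : InvBy g ν ν' (f x) ↔ InvBy j ν ν' x := by
  refine forall_congr' fun l => forall_congr' fun l' => ?_
  rw [hg, hg, ← map_inv, ← map_mul, ← map_mul, hf.eq_iff]

theorem invBy_res {M : Type*} [Group M] {a : L →* M} {b : M →* X} (hab : ∀ l, b (a l) = j l)
    {μ μ' : M → ℂ} {x : X} (h : InvBy b μ μ' x) :
    InvBy j (fun l => μ (a l)) (fun l => μ' (a l)) x :=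
  fun l l' hl => h _ _ (by rw [hab, hab, hl])

end InvBy

section Gl

variable {p : ℕ} {Γ D E : Type*} [Group Γ] [Group D] [Group E]

/-- `P` normalises the `p'`-group `g D`, and `ι E` is the group of fixed points. -/
structure GlH (p : ℕ) (P : Subgroup Γ) (g : D →* Γ) (ι : E →* D) : Prop where
  pg : IsPGroup p P
  nd : ¬ p ∣ Nat.card D
  g_inj : Function.Injective g
  inj : Function.Injective ι
  norm : ∀ s ∈ P, ∀ d, ∃ d', g d' = s * g d * s⁻¹
  fix : ∀ d, d ∈ ι.range ↔ g d ∈ Subgroup.centralizer (P : Set Γ)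

/-- `θ` is invariant under `P`. -/
def PInv (P : Subgroup Γ) (g : D →* Γ) (θ : D → ℂ) : Prop := ∀ s ∈ P, InvBy g θ θ s

variable {P : Subgroup Γ} {g : D →* Γ} {ι : E →* D}

/-- the conjugation action of `P` on `D`. -/
@[reducible] noncomputable def homAct (hg : Function.Injective g)
    (hn : ∀ s ∈ P, ∀ d, ∃ d', g d' = s * g d * s⁻¹) : MulDistribMulAction P D where
  smul s d := (hn s s.2 d).choose
  one_smul d := hg (by
    refine ((hn _ (1 : P).2 d).choose_spec).trans ?_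
    simp)
  mul_smul s t d := hg (by
    refine ((hn _ (s * t).2 d).choose_spec).trans
      (Eq.trans ?_ ((hn _ s.2 (hn _ t.2 d).choose).choose_spec).symm)
    rw [(hn _ t.2 d).choose_spec]
    simp [mul_assoc])
  smul_mul s d d' := hg (by
    refine ((hn _ s.2 (d * d')).choose_spec).trans ?_
    refine Eq.trans ?_ (map_mul g _ _).symm
    refine Eq.trans ?_ (congrArg₂ (· * ·) (hn _ s.2 d).choose_spec (hn _ s.2 d').choose_spec).symm
    simp [mul_assoc])
  smul_one s := hg (by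
    refine ((hn _ s.2 1).choose_spec).trans ?_
    simp)

theorem homAct_spec (hg : Function.Injective g)
    (hn : ∀ s ∈ P, ∀ d, ∃ d', g d' = s * g d * s⁻¹) (s : P) (d : D) :
    letI := homAct hg hn
    g (s • d) = s * g d * (s : Γ)⁻¹ := (hn s s.2 d).choose_spec

theorem homAct_inv (hg : Function.Injective g)
    (hn : ∀ s ∈ P, ∀ d, ∃ d', g d' = s * g d * s⁻¹) (θ : D → ℂ) :
    letI := homAct hg hn
    H88.Inv P θ ↔ PInv P g θ := by
  letI := homAct hg hn
  constructor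
  · intro h s hs d d' hd
    rw [hg (hd.trans (homAct_spec hg hn ⟨s, hs⟩ d).symm), h]
  · intro h s d
    exact (h s s.2 d _ (homAct_spec hg hn s d)).symm

theorem GlH.setup (h : GlH p P g ι) :
    letI := homAct h.g_inj h.norm
    H88.GlSetup p P ι := by
  letI := homAct h.g_inj h.norm
  refine ⟨h.pg, h.nd, h.inj, fun d => (h.fix d).trans ?_⟩
  rw [Subgroup.mem_centralizer_iff]
  constructor
  · intro h1 s
    apply h.g_inj
    rw [homAct_spec h.g_inj h.norm s d, h1 s s.2, mul_inv_cancel_right]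
  · intro h1 s hs
    have := homAct_spec h.g_inj h.norm ⟨s, hs⟩ d
    rw [h1] at this
    exact (eq_mul_inv_iff_mul_eq.1 this).symm

variable [Finite D] [Finite E] [hp : Fact p.Prime]

theorem GlH.exists_right (h : GlH p P g ι) {θ : D → ℂ} (hθ : IsIrrCharacter D θ)
    (hi : PInv P g θ) : ∃ β, IsIrrCharacter E β ∧ Cor p (fun e => θ (ι e)) β := by
  letI := homAct h.g_inj h.norm
  letI := Fintype.ofFinite D
  letI := Fintype.ofFinite E
  obtain ⟨β, hβ⟩ := h.setup.exists_corr_right ⟨θ, hθ⟩ ((homAct_inv _ _ _).2 hi)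
  exact ⟨β.1, β.2, cor_iff.2 hβ⟩

theorem GlH.exists_left (h : GlH p P g ι) {β : E → ℂ} (hβ : IsIrrCharacter E β) :
    ∃ θ, IsIrrCharacter D θ ∧ PInv P g θ ∧ Cor p (fun e => θ (ι e)) β := by
  letI := homAct h.g_inj h.norm
  letI := Fintype.ofFinite D
  letI := Fintype.ofFinite E
  obtain ⟨θ, h1, h2⟩ := h.setup.exists_corr_left ⟨β, hβ⟩
  exact ⟨θ.1, θ.2, (homAct_inv _ _ _).1 h1, cor_iff.2 h2⟩

theorem GlH.unique_right (h : GlH p P g ι) {θ : D → ℂ} (hθ : IsIrrCharacter D θ)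
    (hi : PInv P g θ) {β γ : E → ℂ} (hβ : IsIrrCharacter E β) (hγ : IsIrrCharacter E γ)
    (h1 : Cor p (fun e => θ (ι e)) β) (h2 : Cor p (fun e => θ (ι e)) γ) : β = γ := by
  letI := homAct h.g_inj h.norm
  letI := Fintype.ofFinite D
  letI := Fintype.ofFinite E
  exact congrArg Subtype.val (h.setup.corr_unique_right ⟨θ, hθ⟩ ((homAct_inv _ _ _).2 hi)
    ⟨β, hβ⟩ ⟨γ, hγ⟩ (cor_iff.1 h1) (cor_iff.1 h2))

theorem GlH.unique_left (h : GlH p P g ι) {θ η : D → ℂ} (hθ : IsIrrCharacter D θ)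
    (hη : IsIrrCharacter D η) (hi : PInv P g θ) (hi' : PInv P g η) {β : E → ℂ}
    (hβ : IsIrrCharacter E β)
    (h1 : Cor p (fun e => θ (ι e)) β) (h2 : Cor p (fun e => η (ι e)) β) : θ = η := by
  letI := homAct h.g_inj h.norm
  letI := Fintype.ofFinite D
  letI := Fintype.ofFinite E
  exact congrArg Subtype.val (h.setup.corr_unique_left ⟨θ, hθ⟩ ⟨η, hη⟩ ((homAct_inv _ _ _).2 hi)
    ((homAct_inv _ _ _).2 hi') ⟨β, hβ⟩ (cor_iff.1 h1) (cor_iff.1 h2))

omit [Finite D] [Finite E] hp in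
theorem GlH.norm_fix (h : GlH p P g ι) {x : Γ} (hx : x ∈ Subgroup.normalizer (P : Set Γ))
    (hD : ∀ d, ∃ d', g d' = x * g d * x⁻¹) (e : E) :
    ∃ e', g (ι e') = x * g (ι e) * x⁻¹ := by
  obtain ⟨d, hd⟩ := hD (ι e)
  have h1 := (h.fix _).1 (mem_rng ι e)
  obtain ⟨e', he'⟩ := (h.fix d).2 (by
    rw [Subgroup.mem_centralizer_iff] at h1 ⊢
    intro s hs
    have := h1 _ ((Subgroup.mem_normalizer_iff''.1 hx s).1 hs)
    rw [hd]
    calc s * (x * g (ι e) * x⁻¹) = x * (x⁻¹ * s * x * g (ι e)) * x⁻¹ := by group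
      _ = _ := by rw [this]; group)
  exact ⟨e', by rw [he', hd]⟩

omit [Finite D] [Finite E] hp in
theorem PInv.invBy {x : Γ} (hx : x ∈ Subgroup.normalizer (P : Set Γ))
    (hn : ∀ s ∈ P, ∀ d, ∃ d', g d' = s * g d * s⁻¹)
    (hD : ∀ d, ∃ d', g d' = x * g d * x⁻¹) {θ θ' : D → ℂ} (h : PInv P g θ)
    (h' : InvBy g θ θ' x) : PInv P g θ' := by
  intro s hs
  have h1 := (Subgroup.mem_normalizer_iff.1 hx s).1 hs
  have h2 := InvBy.trans' hD (InvBy.trans' (hn _ h1) h'.symm' (h _ h1)) h'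
  rwa [show x⁻¹ * (x * s * x⁻¹) * x = s by group] at h2

/-- the correspondence commutes with conjugation by elements normalising `P` and `D`. -/
theorem GlH.invBy_iff (h : GlH p P g ι) {x : Γ} (hx : x ∈ Subgroup.normalizer (P : Set Γ))
    (hD : ∀ d, ∃ d', g d' = x * g d * x⁻¹) {θ θ' : D → ℂ} (hθ : IsIrrCharacter D θ)
    (hθ' : IsIrrCharacter D θ') (hi : PInv P g θ) (hi' : PInv P g θ') {β β' : E → ℂ}
    (hβ : IsIrrCharacter E β) (hβ' : IsIrrCharacter E β') (h1 : Cor p (fun e => θ (ι e)) β)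
    (h2 : Cor p (fun e => θ' (ι e)) β') : InvBy g θ θ' x ↔ InvBy (g.comp ι) β β' x := by
  have hv : Function.Injective (g.comp ι) := h.g_inj.comp h.inj
  have hE := h.norm_fix hx hD
  constructor
  · intro h3
    obtain ⟨γ, hγ, h4⟩ := exists_invBy' hv hβ hE
    rwa [h.unique_right hθ' hi' hβ' hγ h2 (h1.invBy (fun _ => rfl) hv hE h3 h4)]
  · intro h3
    obtain ⟨η, hη, h4⟩ := exists_invBy' h.g_inj hθ hD
    rwa [h.unique_left hθ' hη hi' (hi.invBy hx h.norm hD h4) hβ' h2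
      (h1.invBy (fun _ => rfl) hv hE h4 h3)]

end Gl

end H85
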