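import Mathlib
import Cfsg.Agent.Lib.H85.GlH
import Cfsg.Agent.Lib.Char.GoingDown
import Cfsg.Agent.Lib.Glaub.Over
import Cfsg.Agent.Lib.Core.CoprimeNorm

/-! The Okuyama-Wajima lemma. -/

set_option autoImplicit false
set_option linter.unusedSectionVars false
set_option linter.style.haveILetI false

namespace H85

open Cfsg H87
open scoped ComplexConjugate commutatorElement

universe u v w

section Aux

variable {L X : Type*} [Group L] [Group X] [Finite L] [Finite X] {j : L →* X}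

theorem eq_one_of_pgroup {Γ : Type*} [Group Γ] {p : ℕ} [hp : Fact p.Prime] {P : Subgroup Γ}
    (hP : IsPGroup p P) (hX : ¬ p ∣ Nat.card X) {f : X →* Γ} (hf : Function.Injective f) {x : X}
    (hx : f x ∈ P) : x = 1 := by
  obtain ⟨k, hk⟩ := hP ⟨f x, hx⟩
  have h1 : x ^ p ^ k = 1 := hf (by rw [map_pow, map_one]; exact congrArg Subtype.val hk)
  rw [← orderOf_eq_one_iff]
  exact Nat.eq_one_of_dvd_coprimes (Nat.Coprime.pow_left k ((Nat.Prime.coprime_iff_not_dvd
    hp.out).2 hX)) (orderOf_dvd_of_pow_eq_one h1) (orderOf_dvd_natCard x)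

theorem map_mem_commutator {Y : Type*} [Group Y] (i : Y →* X) {y : Y} (hy : y ∈ commutator Y) :
    i y ∈ commutator X := by
  have : (commutator Y).map i ≤ commutator X := by
    rw [commutator_def, Subgroup.map_commutator]
    exact Subgroup.commutator_mono le_top le_top
  exact this ⟨y, hy, rfl⟩

theorem mem_normalizer_centralizer {Γ : Type*} [Group Γ] {P : Subgroup Γ} {x : Γ}
    (hx : x ∈ Subgroup.normalizer (P : Set Γ)) :
    x ∈ Subgroup.normalizer (Subgroup.centralizer (P : Set Γ) : Set Γ) :=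
  Subgroup.le_normalizer_of_normal_subgroupOf (Subgroup.centralizer_le_normalizer _) hx

theorem exists_lift_hom {A B M : Type*} [Group A] [Group B] [Group M] {s : A →* B}
    (hs : Function.Surjective s) (mu : A →* M) (h : ∀ x, s x = 1 → mu x = 1) :
    ∃ l : B →* M, ∀ x, l (s x) = mu x :=
  ⟨s.liftOfSurjective hs ⟨mu, h⟩, fun x => MonoidHom.liftOfRightInverse_comp_apply s _
    (Function.rightInverse_surjInv hs) ⟨mu, h⟩ x⟩

theorem ext_of_isCyclic (hj : Function.Injective j) [j.range.Normal] (hc : IsCyclic (X ⧸ j.range))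
    {ν : L → ℂ} (hν : IsIrrCharacter L ν) (hinv : ∀ x, InvBy j ν ν x) : Ext j ν := by
  obtain ⟨χ, h1, h2⟩ := H31.extends_of_isCyclic j.range hc (tr_irr hj hν)
    (fun g n => (congrFun ((invBy_iff hj).1 (hinv g)) n).symm)
  exact ⟨χ, h1, fun l => (h2 ⟨j l, mem_rng j l⟩).trans (tr_apply hj ν l _)⟩

theorem irr_res_range (hj : Function.Injective j) {χ : X → ℂ}
    (h : IsIrrCharacter L fun l => χ (j l)) : IsIrrCharacter j.range fun x => χ x := by
  have : (fun x : j.range => χ x) = tr j hj fun l => χ (j l) := by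
    funext x
    obtain ⟨l, hl⟩ := x.2
    rw [tr_of_eq hj _ x l hl, hl]
  rw [this]
  exact tr_irr hj h

theorem irr_res_of_range (hj : Function.Injective j) {χ : X → ℂ}
    (h : IsIrrCharacter j.range fun x => χ x) : IsIrrCharacter L fun l => χ (j l) :=
  H6.isIrrCharacter_comp_surjective (MonoidHom.ofInjective hj).toMonoidHom
    (MonoidHom.ofInjective hj).surjective h

theorem irr_res_iff (hj : Function.Injective j) (hc : commutator X ≤ j.range) {χ : X → ℂ}
    (hχ : IsIrrCharacter X χ) : IsIrrCharacter L (fun l => χ (j l)) ↔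
      ∀ lam : X →* ℂˣ, (∀ l, lam (j l) = 1) → (∀ x, χ x * lam x = χ x) → lam = 1 := by
  haveI : j.range.Normal := Subgroup.Normal.of_commutator_le _ hc
  constructor
  · intro h lam h1 h2
    apply H6.hom_coe_injective
    refine H31.gallagher_inj j.range (H6.irr_isCharacter hχ) (irr_res_range hj h)
      (H6.isIrrCharacter_hom lam) ?_ (H6.isIrrCharacter_hom 1) (fun _ _ => rfl) ?_
    · rintro _ ⟨l, rfl⟩
      show (lam (j l) : ℂ) = lam 1
      rw [h1, map_one]
    · funext x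
      simp only [Pi.mul_apply, MonoidHom.one_apply, Units.val_one, one_mul]
      rw [mul_comm, h2]
  · intro h
    exact irr_res_of_range hj (H31.isIrr_res_of_forall_hom j.range hc hχ fun lam h1 h2 =>
      h lam (fun l => h1 _ (mem_rng j l)) h2)

theorem Ext.irr_res {M : Type*} [Group M] [Finite M] {a : L →* M} {b : M →* X}
    (hab : ∀ l, b (a l) = j l) {χ : X → ℂ} (hχ : IsCharacter X χ)
    (h : IsIrrCharacter L fun l => χ (j l)) : IsIrrCharacter M fun m => χ (b m) :=
  H7.isIrr_of_isIrr_comp a (H6.isCharacter_comp b hχ) (by simpa only [hab] using h)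

theorem Ext.res {M : Type*} [Group M] [Finite M] {a : L →* M} {b : M →* X}
    (hab : ∀ l, b (a l) = j l) {ν : L → ℂ} (hν : IsIrrCharacter L ν) (h : Ext j ν) : Ext a ν := by
  obtain ⟨χ, h1, h2⟩ := h
  exact ⟨fun m => χ (b m), Ext.irr_res hab (H6.irr_isCharacter h1) (by rw [funext h2]; exact hν),
    fun l => by simp only [hab, h2]⟩

theorem Ext.trans {M : Type*} [Group M] {a : L →* M} {b : M →* X}
    (hab : ∀ l, b (a l) = j l) {ν : L → ℂ} {μ : M → ℂ} (h1 : ∀ l, μ (a l) = ν l) (h : Ext b μ) :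
    Ext j ν := by
  obtain ⟨χ, h2, h3⟩ := h
  exact ⟨χ, h2, fun l => by rw [← hab, h3, h1]⟩

theorem Ext.invBy {ν : L → ℂ} (h : Ext j ν) (x : X) : InvBy j ν ν x := by
  obtain ⟨χ, h1, h2⟩ := h
  exact invBy_of_res (H6.irr_isClassFunction h1) one_ne_zero (by simpa using h2) x

end Aux

variable {p : ℕ}

/-- the configuration of the Okuyama-Wajima lemma. -/
structure OWD (p : ℕ) {Γ X K Y C : Type*} [Group Γ] [Group X] [Group K] [Group Y] [Group C]
    (P : Subgroup Γ) (f : X →* Γ) (a : K →* X) (i : Y →* X) (b : C →* Y) (c : C →* K) : Prop where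
  pg : IsPGroup p P
  nd : ¬ p ∣ Nat.card X
  f_inj : Function.Injective f
  a_inj : Function.Injective a
  i_inj : Function.Injective i
  c_inj : Function.Injective c
  comm : commutator X ≤ a.range
  norm : ∀ s ∈ P, ∀ k, ∃ k', f (a k') = s * f (a k) * s⁻¹
  rng : ∀ x, x ∈ i.range ↔ f x ∈ Subgroup.normalizer (P : Set Γ)
  sup : ∀ x, ∃ k y, x = a k * i y
  sq : ∀ z, i (b z) = a (c z)
  cap : ∀ k, a k ∈ i.range → k ∈ c.range

section Base

variable {Γ X K Y C : Type*} [Group Γ] [Group X] [Group K] [Group Y] [Group C]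
  [Finite X] [Finite K] [Finite Y] [Finite C] [hp : Fact p.Prime]
  {P : Subgroup Γ} {f : X →* Γ} {a : K →* X} {i : Y →* X} {b : C →* Y} {c : C →* K}

theorem OWD.cent (h : OWD p P f a i b c) {k : K} (hk : a k ∈ i.range) :
    f (a k) ∈ Subgroup.centralizer (P : Set Γ) := by
  rw [Subgroup.mem_centralizer_iff]
  intro s hs
  obtain ⟨k', hk'⟩ := h.norm s hs k
  have h1 : f (a (k' * k⁻¹)) ∈ P := by
    rw [map_mul, map_mul, hk', map_inv, map_inv, mul_assoc, mul_assoc, ← mul_assoc (f (a k))]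
    exact P.mul_mem hs ((Subgroup.mem_normalizer_iff.1 ((h.rng _).1 hk) _).1 (P.inv_mem hs))
  have h2 := eq_one_of_pgroup h.pg h.nd h.f_inj h1
  rw [map_mul, map_inv, mul_inv_eq_one] at h2
  rw [h2] at hk'
  exact (eq_mul_inv_iff_mul_eq.1 hk').symm

theorem OWD.glH (h : OWD p P f a i b c) : GlH p P (f.comp a) c where
  pg := h.pg
  nd := fun hd => h.nd (hd.trans (Subgroup.card_dvd_of_injective a h.a_inj))
  g_inj := h.f_inj.comp h.a_inj
  inj := h.c_inj
  norm := h.norm
  fix := fun k => ⟨by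
    rintro ⟨z, rfl⟩
    exact h.cent ⟨b z, h.sq z⟩, fun hk => h.cap k ((h.rng _).2
      (Subgroup.centralizer_le_normalizer _ hk))⟩

theorem OWD.b_inj (h : OWD p P f a i b c) : Function.Injective b := fun z z' hz =>
  h.c_inj (h.a_inj (by rw [← h.sq, hz, h.sq]))

theorem OWD.base [Finite P] (h : OWD p P f a i b c)
    (hcyc : ∃ y0 : Y, ∀ y, ∃ n : ℤ, f (i (y0 ^ n * y)) ∈ Subgroup.centralizer (P : Set Γ))
    {θ : K → ℂ} (hθ : IsIrrCharacter K θ) (hθi : PInv P (f.comp a) θ) {β : C → ℂ}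
    (hβ : IsIrrCharacter C β) (hc : Cor p (fun z => θ (c z)) β) : Ext a θ ↔ Ext b β := by
  haveI hKn : a.range.Normal := Subgroup.Normal.of_commutator_le _ h.comm
  let Y0 : Subgroup Y := (Subgroup.centralizer (P : Set Γ)).comap (f.comp i)
  let X0 : Subgroup X := a.range ⊔ Y0.map i
  have hX0 : ∀ x, x ∈ X0 ↔ ∃ k, ∃ y ∈ Y0, x = a k * i y := by
    intro x
    rw [Subgroup.mem_sup_of_normal_left]
    constructor
    · rintro ⟨_, ⟨k, rfl⟩, _, ⟨y, hy, rfl⟩, rfl⟩
      exact ⟨k, y, hy, rfl⟩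
    · rintro ⟨k, y, hy, rfl⟩
      exact ⟨_, ⟨k, rfl⟩, _, ⟨y, hy, rfl⟩, rfl⟩
  haveI hX0n : X0.Normal := Subgroup.Normal.of_commutator_le _ (h.comm.trans le_sup_left)
  have hbY : ∀ z, b z ∈ Y0 := fun z => by
    show f (i (b z)) ∈ Subgroup.centralizer (P : Set Γ)
    rw [h.sq]
    exact h.cent ⟨b z, h.sq z⟩
  have hcommY : commutator Y ≤ b.range := by
    intro y hy
    obtain ⟨k, hk⟩ := h.comm (map_mem_commutator i hy)
    obtain ⟨z, rfl⟩ := h.cap k ⟨y, hk.symm⟩
    exact ⟨z, h.i_inj ((h.sq z).trans hk)⟩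
  haveI hY0n : Y0.Normal := Subgroup.Normal.of_commutator_le _ (hcommY.trans (by
    rintro _ ⟨z, rfl⟩; exact hbY z))
  let a0 : K →* X0 := a.codRestrict X0 fun k => (le_sup_left : a.range ≤ X0) (mem_rng a k)
  let b0 : C →* Y0 := b.codRestrict Y0 hbY
  let i0 : Y0 →* X0 := (i.comp Y0.subtype).codRestrict X0 fun y =>
    (le_sup_right : Y0.map i ≤ X0) ⟨y, y.2, rfl⟩
  have ha0 : Function.Injective a0 := fun x y hxy => h.a_inj (congrArg Subtype.val hxy)
  have hb0 : Function.Injective b0 := fun x y hxy => h.b_inj (congrArg Subtype.val hxy)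
  have hi0 : Function.Injective i0 := fun x y hxy =>
    Subtype.ext (h.i_inj (congrArg Subtype.val hxy))
  have hsq0 : ∀ z, i0 (b0 z) = a0 (c z) := fun z => Subtype.ext (h.sq z)
  have hsup0 : ∀ x : X0, ∃ k y, x = a0 k * i0 y := fun x => by
    obtain ⟨k, y, hy, hx⟩ := (hX0 x).1 x.2
    exact ⟨k, ⟨y, hy⟩, Subtype.ext hx⟩
  let g : X0 →* Γ := f.comp X0.subtype
  have hgn : ∀ s ∈ P, ∀ x : X0, ∃ k, g (a0 k * x) = s * g x * s⁻¹ := by
    intro s hs x
    obtain ⟨k, y, rfl⟩ := hsup0 x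
    obtain ⟨k', hk'⟩ := h.norm s hs k
    refine ⟨k' * k⁻¹, ?_⟩
    have h1 : s * g (i0 y) = g (i0 y) * s := Subgroup.mem_centralizer_iff.1 y.2 s hs
    have h2 : g (a0 k') = s * g (a0 k) * s⁻¹ := hk'
    rw [map_mul a0, map_inv, mul_assoc, inv_mul_cancel_left, map_mul, map_mul, h2]
    calc s * g (a0 k) * s⁻¹ * g (i0 y) = s * g (a0 k) * s⁻¹ * (g (i0 y) * s) * s⁻¹ := by group
      _ = _ := by rw [← h1]; group
  have G0 : GlH p P g i0 :=
    { pg := h.pg
      nd := fun hd => h.nd (hd.trans X0.card_subgroup_dvd_card)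
      g_inj := h.f_inj.comp X0.subtype_injective
      inj := hi0
      norm := fun s hs x => (hgn s hs x).elim fun k hk => ⟨_, hk⟩
      fix := fun x => ⟨by
        rintro ⟨y, rfl⟩
        exact y.2, fun hx => by
          obtain ⟨y, hy⟩ := (h.rng x).2 (Subgroup.centralizer_le_normalizer _ hx)
          refine ⟨⟨y, ?_⟩, Subtype.ext hy⟩
          show f (i y) ∈ Subgroup.centralizer (P : Set Γ)
          rw [hy]
          exact hx⟩ }
  have GK := h.glH
  have hcX0 : commutator X0 ≤ a0.range := by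
    intro x hx
    obtain ⟨k, hk⟩ := h.comm (map_mem_commutator X0.subtype hx)
    exact ⟨k, Subtype.ext hk⟩
  have hcY0 : commutator Y0 ≤ b0.range := by
    intro x hx
    obtain ⟨k, hk⟩ := hcommY (map_mem_commutator Y0.subtype hx)
    exact ⟨k, Subtype.ext hk⟩
  haveI : a0.range.Normal := Subgroup.Normal.of_commutator_le _ hcX0
  -- linear characters trivial on `K` are invariant
  have hlin : ∀ (χ : X0 → ℂ) (lam : X0 →* ℂˣ), (∀ k, lam (a0 k) = 1) → PInv P g χ →
      PInv P g fun x => χ x * lam x := by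
    intro χ lam h1 h2 s hs x x' hx
    obtain ⟨k, hk⟩ := hgn s hs x
    simp only
    rw [h2 s hs x x' hx, G0.g_inj (hx.trans hk.symm), map_mul lam, h1, one_mul]
  have key : ∀ (χ : X0 → ℂ) (ψ : Y0 → ℂ), IsIrrCharacter X0 χ → PInv P g χ → IsIrrCharacter Y0 ψ →
      Cor p (fun y => χ (i0 y)) ψ → (IsIrrCharacter K (fun k => χ (a0 k)) ↔
        IsIrrCharacter C (fun z => ψ (b0 z))) := by
    intro χ ψ hχ hχi hψ hcor
    rw [irr_res_iff ha0 hcX0 hχ, irr_res_iff hb0 hcY0 hψ]
    have hm : ∀ lam : X0 →* ℂˣ, (∀ k, lam (a0 k) = 1) → ((∀ x, χ x * lam x = χ x) ↔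
        ∀ y, ψ y * lam (i0 y) = ψ y) := by
      intro lam h1
      have h2 := (cor_mul_hom (lam.comp i0)).2 hcor
      rw [← funext_iff, ← funext_iff]
      constructor
      · intro h3
        refine G0.unique_right hχ hχi (H6.isIrrCharacter_mul_hom hψ (lam.comp i0)) hψ ?_ hcor
        rw [← h3]
        exact h2
      · intro h3
        refine G0.unique_left (H6.isIrrCharacter_mul_hom hχ lam) hχ (hlin χ lam h1 hχi) hχi hψ
          ?_ hcor
        rw [← h3]
        exact h2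
    constructor
    · intro h1 mu h2 h3
      let s : Y0 →* X0 ⧸ a0.range := (QuotientGroup.mk' _).comp i0
      have hs : Function.Surjective s := by
        intro q
        obtain ⟨x, rfl⟩ := QuotientGroup.mk_surjective q
        obtain ⟨k, y, rfl⟩ := hsup0 x
        refine ⟨y, ?_⟩
        rw [QuotientGroup.mk_mul, (QuotientGroup.eq_one_iff _).2 (mem_rng a0 k), one_mul]
        rfl
      obtain ⟨lam0, hl0⟩ := exists_lift_hom hs mu fun y hy => by
        obtain ⟨k, hk⟩ := (QuotientGroup.eq_one_iff (i0 y)).1 hy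
        obtain ⟨z, rfl⟩ := h.cap k ⟨y, (congrArg Subtype.val hk).symm⟩
        rw [hi0 (hk.symm.trans (hsq0 z).symm), h2]
      let lam : X0 →* ℂˣ := lam0.comp (QuotientGroup.mk' _)
      have hl : ∀ y, lam (i0 y) = mu y := hl0
      have hl1 : ∀ k, lam (a0 k) = 1 := fun k => by
        show lam0 ((a0 k : X0) : X0 ⧸ a0.range) = 1
        rw [(QuotientGroup.eq_one_iff _).2 (mem_rng a0 k), map_one]
      have := h1 lam hl1 ((hm lam hl1).2 fun y => by rw [hl, h3])
      ext y
      rw [← hl, this]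
      rfl
    · intro h1 lam h2 h3
      have h4 := h1 (lam.comp i0) (fun z => by rw [MonoidHom.comp_apply, hsq0, h2])
        ((hm lam h2).1 h3)
      ext x
      obtain ⟨k, y, rfl⟩ := hsup0 x
      rw [map_mul, h2, one_mul, ← MonoidHom.comp_apply, h4]
      rfl
  have hYn : ∀ y : Y, f (i y) ∈ Subgroup.normalizer (P : Set Γ) := fun y =>
    (h.rng _).1 (mem_rng i y)
  have hXn : ∀ (y : X) (x : X0), ∃ x', g x' = f y * g x * (f y)⁻¹ := fun y x =>
    ⟨⟨y * x * y⁻¹, hX0n.conj_mem _ x.2 y⟩, by simp [g]⟩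
  have hinv : ∀ (χ : X0 → ℂ) (ψ : Y0 → ℂ), IsIrrCharacter X0 χ → PInv P g χ → IsIrrCharacter Y0 ψ →
      Cor p (fun y => χ (i0 y)) ψ → ∀ y, (InvBy X0.subtype χ χ (i y) ↔ InvBy Y0.subtype ψ ψ y) := by
    intro χ ψ hχ hχi hψ hcor y
    rw [← invBy_comp h.f_inj (g := g) (fun _ => rfl),
      G0.invBy_iff (hYn y) (hXn _) hχ hχ hχi hχi hψ hψ hcor hcor]
    exact invBy_comp (f := f.comp i) (h.f_inj.comp h.i_inj) (fun _ => rfl)
  obtain ⟨y0, hy0⟩ := hcyc
  haveI : Y0.subtype.range.Normal := by rw [Subgroup.range_subtype]; exact hY0n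
  haveI : X0.subtype.range.Normal := by rw [Subgroup.range_subtype]; exact hX0n
  have cY : IsCyclic (Y ⧸ Y0.subtype.range) := ⟨⟨(y0 : Y ⧸ Y0.subtype.range), fun q => by
    obtain ⟨y, rfl⟩ := QuotientGroup.mk_surjective q
    obtain ⟨n, hn⟩ := hy0 y
    refine ⟨-n, ?_⟩
    show (y0 : Y ⧸ Y0.subtype.range) ^ (-n) = y
    rw [← QuotientGroup.mk_zpow, QuotientGroup.eq, zpow_neg, inv_inv]
    exact ⟨⟨_, hn⟩, rfl⟩⟩⟩
  have cX : IsCyclic (X ⧸ X0.subtype.range) := by
    refine isCyclic_of_surjective (QuotientGroup.map Y0.subtype.range X0.subtype.range i ?_) ?_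
    · rintro _ ⟨y, rfl⟩
      exact ⟨i0 y, rfl⟩
    · intro q
      obtain ⟨x, rfl⟩ := QuotientGroup.mk_surjective q
      obtain ⟨k, y, rfl⟩ := h.sup x
      refine ⟨y, ?_⟩
      rw [QuotientGroup.mk_mul,
        (QuotientGroup.eq_one_iff (a k)).2 (mem_rng X0.subtype (a0 k)), one_mul]
      rfl
  constructor
  · rintro ⟨χ, hχ, hχθ⟩
    have h1 : IsIrrCharacter K fun k => χ (a k) := by rw [funext hχθ]; exact hθ
    have hχ0 : IsIrrCharacter X0 fun x => χ x :=
      Ext.irr_res (a := a0) (b := X0.subtype) (fun _ => rfl) (H6.irr_isCharacter hχ) h1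
    have hχi : PInv P g fun x => χ x := by
      letI := homAct G0.g_inj G0.norm
      letI := Fintype.ofFinite X0
      letI := Fintype.ofFinite a0.range
      have hKA : ∀ (s : P), ∀ k ∈ a0.range, s • k ∈ a0.range := by
        rintro s _ ⟨k, rfl⟩
        obtain ⟨k', hk'⟩ := h.norm s s.2 k
        exact ⟨k', G0.g_inj (hk'.trans (homAct_spec G0.g_inj G0.norm s (a0 k)).symm)⟩
      obtain ⟨n, hn⟩ := IsPGroup.iff_card.1 h.pg
      obtain ⟨η, hη, hηo⟩ := H88.exists_inv_over_of_comm (A := P) a0.range hcX0 hKA (by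
        rw [hn]
        exact (Nat.Coprime.pow_left n ((Nat.Prime.coprime_iff_not_dvd hp.out).2
          fun hd => G0.nd (hd.trans a0.range.index_dvd_card))).symm)
        (irr_res_range ha0 (χ := fun x : X0 => χ x) h1) (by
          rintro s ⟨_, k, rfl⟩
          obtain ⟨k', hk'⟩ := h.norm s s.2 k
          have : s • a0 k = a0 k' :=
            G0.g_inj ((homAct_spec G0.g_inj G0.norm s (a0 k)).trans hk'.symm)
          simp only [this]
          exact (hχθ k').trans ((hθi s s.2 k k' hk').symm.trans (hχθ k).symm))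
      obtain ⟨lam, hlam⟩ := H88.exists_hom_of_inner_res a0.range hcX0 η.2 hχ0 hηo
      rw [hlam]
      exact hlin η.1 (lam.comp (QuotientGroup.mk' _)) (fun k => by
        rw [MonoidHom.comp_apply, QuotientGroup.mk'_apply,
          (QuotientGroup.eq_one_iff _).2 (mem_rng a0 k), map_one])
        ((homAct_inv _ _ _).1 hη)
    obtain ⟨ψ, hψ, hcor⟩ := G0.exists_right hχ0 hχi
    have h2 := (key _ ψ hχ0 hχi hψ hcor).1 h1
    obtain ⟨γ, hγ, h3, h4⟩ := Cor.split b0 (H6.isCharacter_comp i0 (H6.irr_isCharacter hχ0))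
      (H6.irr_isCharacter hβ) (p := p) (by
        simp only [hsq0]
        rw [← funext hχθ] at hc
        exact hc)
    rw [G0.unique_right hχ0 hχi hγ hψ h3 hcor] at h4
    have h5 : β = fun z => ψ (b0 z) := Ov.eq_of_eq_mul (j := b0) h2 hβ (e := 1) (by simp)
      (h4.ov (H6.irr_isCharacter hψ) (H6.irr_isCharacter hβ))
    refine Ext.trans (a := b0) (b := Y0.subtype) (fun _ => rfl) (fun z => (congrFun h5 z).symm)
      (ext_of_isCyclic Y0.subtype_injective cY hψ fun y => (hinv _ ψ hχ0 hχi hψ hcor y).1 ?_)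
    exact invBy_of_res (H6.irr_isClassFunction hχ) one_ne_zero (by simp) _
  · rintro ⟨ψ, hψ, hψβ⟩
    have h1 : IsIrrCharacter C fun z => ψ (b z) := by rw [funext hψβ]; exact hβ
    have hψ0 : IsIrrCharacter Y0 fun x => ψ x :=
      Ext.irr_res (a := b0) (b := Y0.subtype) (fun _ => rfl) (H6.irr_isCharacter hψ) h1
    obtain ⟨χ, hχ, hχi, hcor⟩ := G0.exists_left hψ0
    have h2 := (key χ _ hχ hχi hψ0 hcor).2 h1
    have h5 : Cor p (fun z => (fun x : Y0 => ψ x) (b0 z)) β := by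
      have : (fun z => (fun x : Y0 => ψ x) (b0 z)) = β := funext hψβ
      rw [this]
      exact cor_self hβ
    have h3 := Cor.join (p := p) b0 (φ := fun y => χ (i0 y)) (γ := fun x : Y0 => ψ x) (β := β)
      (H6.isCharacter_comp i0 (H6.irr_isCharacter hχ)) (H6.irr_isCharacter hβ) hψ0
        hcor (fun γ hγ h4 => G0.unique_right hχ hχi hγ hψ0 h4 hcor) h5
    simp only [hsq0] at h3
    have h4 : (fun k => χ (a0 k)) = θ := GK.unique_left h2 hθ
      (fun s hs => invBy_res (a := a0) (b := g) (fun _ => rfl) (hχi s hs)) hθi hβ h3 hc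
    refine Ext.trans (a := a0) (b := X0.subtype) (fun _ => rfl) (congrFun h4)
      (ext_of_isCyclic X0.subtype_injective cX hχ fun x => ?_)
    obtain ⟨k, y, rfl⟩ := h.sup x
    refine InvBy.trans ((mem_inJ X0.subtype_injective).1
      (range_le_inJ X0.subtype_injective hχ ⟨a0 k, rfl⟩)) ((hinv χ _ hχ hχi hψ0 hcor y).2 ?_)
    exact invBy_of_res (H6.irr_isClassFunction hψ) one_ne_zero (by simp) _

theorem OWD.cyc [Finite P] (h : OWD p P f a i b c)
    (hQ : ∀ Q : Subgroup Γ, Q ≤ P → P ≤ Subgroup.normalizer (Q : Set Γ) →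
      (∀ y, f (i y) ∈ Subgroup.normalizer (Q : Set Γ)) → Q = ⊥ ∨ Q = P) :
    ∃ y0 : Y, ∀ y, ∃ n : ℤ, f (i (y0 ^ n * y)) ∈ Subgroup.centralizer (P : Set Γ) := by
  by_cases hP : P = ⊥
  · refine ⟨1, fun y => ⟨0, fun s hs => ?_⟩⟩
    rw [hP, SetLike.mem_coe, Subgroup.mem_bot] at hs
    rw [hs, one_mul, mul_one]
  haveI : Nontrivial P := (Subgroup.nontrivial_iff_ne_bot P).2 hP
  have hYn : ∀ y : Y, f (i y) ∈ Subgroup.normalizer (P : Set Γ) := fun y =>
    (h.rng _).1 (mem_rng i y)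
  have hcn : ∀ x ∈ Subgroup.normalizer (P : Set Γ),
      x ∈ Subgroup.normalizer ((P ⊓ Subgroup.centralizer (P : Set Γ) : Subgroup Γ) : Set Γ) :=
    fun x hx => Subgroup.inf_normalizer_le_normalizer_inf
      ⟨hx, mem_normalizer_centralizer hx⟩
  have hab : P ≤ Subgroup.centralizer (P : Set Γ) := by
    rcases hQ (P ⊓ Subgroup.centralizer (P : Set Γ)) inf_le_left
      (fun s hs => hcn s (Subgroup.le_normalizer hs)) (fun y => hcn _ (hYn y)) with h1 | h1
    · exfalso
      haveI := h.pg.center_nontrivial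
      obtain ⟨⟨z, hz⟩, hz1⟩ := exists_ne (1 : Subgroup.center P)
      have : (z : Γ) ∈ P ⊓ Subgroup.centralizer (P : Set Γ) := ⟨z.2, fun s hs =>
        congrArg Subtype.val (Subgroup.mem_center_iff.1 hz ⟨s, hs⟩)⟩
      rw [h1, Subgroup.mem_bot] at this
      exact hz1 (Subtype.ext (Subtype.ext this))
    · rw [← h1]; exact inf_le_right.trans (by rw [h1])
  haveI : IsMulCommutative P := ⟨⟨fun s t => Subtype.ext (hab t.2 s s.2)⟩⟩
  let φ : Y →* MulAut P := P.normalizerMonoidHom.comp ((f.comp i).codRestrict _ hYn)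
  have hφ : ∀ y (s : P), (φ y s : Γ) = f (i y) * s * (f (i y))⁻¹ := fun _ _ => rfl
  have hker : ∀ y, φ y = 1 ↔ f (i y) ∈ Subgroup.centralizer (P : Set Γ) := fun y => by
    rw [Subgroup.mem_centralizer_iff]
    constructor
    · intro h1 s hs
      have := hφ y ⟨s, hs⟩
      rw [h1] at this
      exact eq_mul_inv_iff_mul_eq.1 this
    · intro h1
      ext s
      rw [hφ, ← h1 s s.2, mul_inv_cancel_right]
      rfl
  have hcomm : ∀ y y' : Y, φ ⁅y, y'⁆ = 1 := fun y y' => by
    rw [hker]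
    obtain ⟨k, hk⟩ := h.comm (Subgroup.commutator_mem_commutator (Subgroup.mem_top (i y))
      (Subgroup.mem_top (i y')))
    rw [← map_commutatorElement] at hk
    rw [← hk]
    exact h.cent ⟨_, hk.symm⟩
  haveI : IsMulCommutative φ.range := ⟨⟨by
    rintro ⟨_, y, rfl⟩ ⟨_, y', rfl⟩
    apply Subtype.ext
    show φ y * φ y' = φ y' * φ y
    rw [← commutatorElement_eq_one_iff_mul_comm, ← map_commutatorElement, hcomm]⟩⟩
  haveI : Finite φ.range := Finite.of_surjective _ φ.rangeRestrict_surjective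
  have hcy : IsCyclic φ.range := by
    letI : CommGroup P := { (inferInstance : Group P) with mul_comm := mul_comm' }
    refine H2.isCyclic_of_fpf_of_comm (V := P) φ.range.subtype ?_
    rintro ⟨_, y, rfl⟩ hy v hv
    have hv' : f (i y) * v * (f (i y))⁻¹ = v := (hφ y v).symm.trans (congrArg Subtype.val hv)
    refine (hQ (P ⊓ Subgroup.centralizer {f (i y)}) inf_le_left ?_ ?_).elim (fun h1 => ?_)
      (fun h1 => ?_)
    rotate_left 2
    · have : (v : Γ) ∈ P ⊓ Subgroup.centralizer {f (i y)} := ⟨v.2,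
        Subgroup.mem_centralizer_singleton_iff.2 (mul_inv_eq_iff_eq_mul.1 hv').symm⟩
      rw [h1, Subgroup.mem_bot] at this
      exact Subtype.ext this
    · exfalso
      refine hy (Subtype.ext ((hker y).2 fun s hs => ?_))
      exact Subgroup.mem_centralizer_singleton_iff.1 (h1.ge hs).2
    · rw [Subgroup.le_normalizer_iff]
      intro s hs t ht
      rwa [hab ht.1 s hs, mul_inv_cancel_right]
    · intro y'
      haveI : Finite (P ⊓ Subgroup.centralizer {f (i y)} : Subgroup Γ) :=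
        Finite.of_injective _ (Subgroup.inclusion_injective inf_le_left)
      refine Subgroup.mem_normalizer_fintype fun t ht => ⟨(Subgroup.mem_normalizer_iff.1
        (hYn y') t).1 ht.1, Subgroup.mem_centralizer_singleton_iff.2 ?_⟩
      have h1 := Subgroup.mem_centralizer_singleton_iff.1 ht.2
      have h2 : φ y * φ y' = φ y' * φ y := by
        rw [← commutatorElement_eq_one_iff_mul_comm, ← map_commutatorElement, hcomm]
      have h3 := congrArg (fun e : MulAut P => (e ⟨t, ht.1⟩ : Γ)) h2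
      simp only [MulAut.mul_apply, hφ] at h3
      rw [← h1, mul_inv_cancel_right] at h3
      exact (mul_inv_eq_iff_eq_mul.1 h3).symm
  obtain ⟨⟨_, y0, rfl⟩, hy0⟩ := hcy.exists_generator
  refine ⟨y0, fun y => ?_⟩
  obtain ⟨n, hn⟩ := hy0 ⟨φ y, y, rfl⟩
  refine ⟨-n, (hker _).1 ?_⟩
  have : φ y0 ^ n = φ y := congrArg Subtype.val hn
  rw [map_mul, map_zpow, zpow_neg, this, inv_mul_cancel]

end Base

theorem ow_aux [hp : Fact p.Prime] (n : ℕ) : ∀ {Γ X K Y C : Type u} [Group Γ] [Group X] [Group K]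
    [Group Y] [Group C] [Finite Γ] [Finite X] [Finite K] [Finite Y] [Finite C] {P : Subgroup Γ}
    {f : X →* Γ} {a : K →* X} {i : Y →* X} {b : C →* Y} {c : C →* K}, Nat.card P = n →
    OWD p P f a i b c → ∀ {θ : K → ℂ} {β : C → ℂ}, IsIrrCharacter K θ → PInv P (f.comp a) θ →
    IsIrrCharacter C β → Cor p (fun z => θ (c z)) β → (Ext a θ ↔ Ext b β) := by
  induction n using Nat.strong_induction_on with
  | _ n ih =>
  intro Γ X K Y C _ _ _ _ _ _ _ _ _ _ P f a i b c hn h θ β hθ hθi hβ hc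
  by_cases hQ : ∀ Q : Subgroup Γ, Q ≤ P → P ≤ Subgroup.normalizer (Q : Set Γ) →
      (∀ y, f (i y) ∈ Subgroup.normalizer (Q : Set Γ)) → Q = ⊥ ∨ Q = P
  · exact h.base (h.cyc hQ) hθ hθi hβ hc
  push Not at hQ
  obtain ⟨Q, hQP, hPQ, hYQ, hQ1, hQ2⟩ := hQ
  let NQ := Subgroup.normalizer (Q : Set Γ)
  let Y1 : Subgroup X := NQ.comap f
  let D : Subgroup K := Y1.comap a
  let b1 : D →* Y1 := a.subgroupComap Y1
  have h1 : OWD p Q f a Y1.subtype b1 D.subtype :=
    { pg := h.pg.to_le hQP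
      nd := h.nd
      f_inj := h.f_inj
      a_inj := h.a_inj
      i_inj := Y1.subtype_injective
      c_inj := D.subtype_injective
      comm := h.comm
      norm := fun s hs => h.norm s (hQP hs)
      rng := fun x => by rw [Subgroup.range_subtype]; rfl
      sup := fun x => by
        obtain ⟨k, y, hx⟩ := h.sup x
        exact ⟨k, ⟨i y, hYQ y⟩, hx⟩
      sq := fun _ => rfl
      cap := fun k hk => by
        rw [Subgroup.range_subtype] at hk ⊢
        exact hk }
  have hcD : ∀ z, c z ∈ D := fun z => by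
    show f (a (c z)) ∈ NQ
    rw [← h.sq]
    exact hYQ _
  let c1 : C →* D := c.codRestrict D hcD
  let i1 : Y →* Y1 := i.codRestrict Y1 hYQ
  let Q' := Q.subgroupOf NQ
  haveI : Q'.Normal := Subgroup.normal_in_normalizer
  let m : NQ →* NQ ⧸ Q' := QuotientGroup.mk' Q'
  let f1 : Y1 →* NQ ⧸ Q' := m.comp (f.subgroupComap NQ)
  let P1 : Subgroup (NQ ⧸ Q') := (P.subgroupOf NQ).map m
  have hnd : ¬ p ∣ Nat.card Y1 := fun hd => h.nd (hd.trans Y1.card_subgroup_dvd_card)
  have hf1 : Function.Injective f1 := by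
    rw [injective_iff_map_eq_one]
    intro x hx
    exact eq_one_of_pgroup h1.pg hnd (f := f.comp Y1.subtype) (h.f_inj.comp Y1.subtype_injective)
      ((QuotientGroup.eq_one_iff (N := Q') _).1 hx)
  have hnorm : ∀ (s : NQ), (s : Γ) ∈ P → ∀ d : D, ∃ d' : D,
      f (a d') = s * f (a d) * (s : Γ)⁻¹ ∧ f1 (b1 d') = m s * f1 (b1 d) * (m s)⁻¹ := by
    intro s hs d
    obtain ⟨k, hk⟩ := h.norm s hs d
    have hk' : k ∈ D := by
      show f (a k) ∈ NQ
      rw [hk]
      exact NQ.mul_mem (NQ.mul_mem s.2 d.2) (NQ.inv_mem s.2)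
    refine ⟨⟨k, hk'⟩, hk, ?_⟩
    rw [← map_inv]
    refine Eq.trans (congrArg m (Subtype.ext hk : _ = s * f.subgroupComap NQ (b1 d) * s⁻¹)) ?_
    rw [map_mul, map_mul]
    rfl
  have h2 : OWD p P1 f1 b1 i1 b c1 :=
    { pg := (h.pg.comap_subtype (K := NQ)).map m
      nd := hnd
      f_inj := hf1
      a_inj := fun x y hxy => Subtype.ext (h.a_inj (congrArg Subtype.val hxy))
      i_inj := fun x y hxy => h.i_inj (congrArg Subtype.val hxy)
      c_inj := fun x y hxy => h.c_inj (congrArg Subtype.val hxy)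
      comm := fun x hx => by
        obtain ⟨k, hk⟩ := h.comm (map_mem_commutator Y1.subtype hx)
        exact ⟨⟨k, show a k ∈ Y1 from hk ▸ x.2⟩, Subtype.ext hk⟩
      norm := by
        rintro _ ⟨s, hs, rfl⟩ d
        obtain ⟨d', -, hd⟩ := hnorm s hs d
        exact ⟨d', hd⟩
      rng := fun x => by
        have e1 : x ∈ i1.range ↔ (x : X) ∈ i.range :=
          exists_congr fun y => ⟨fun h => congrArg Subtype.val h, fun h => Subtype.ext h⟩
        have e2 : P1.comap m = P.subgroupOf NQ := Subgroup.comap_map_eq_self (by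
          rw [QuotientGroup.ker_mk']
          exact Subgroup.subgroupOf_mono _ hQP)
        rw [e1, h.rng]
        show _ ↔ f.subgroupComap NQ x ∈ (Subgroup.normalizer (P1 : Set (NQ ⧸ Q'))).comap m
        rw [Subgroup.comap_normalizer_eq_of_surjective _ (QuotientGroup.mk'_surjective Q'), e2,
          ← Subgroup.subgroupOf_normalizer_eq hPQ]
        rfl
      sup := fun x => by
        obtain ⟨k, y, hx⟩ := h.sup x
        have hk : k ∈ D := by
          show a k ∈ Y1
          rw [eq_mul_inv_of_mul_eq hx.symm]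
          exact Y1.mul_mem x.2 (Y1.inv_mem (hYQ y))
        exact ⟨⟨k, hk⟩, y, Subtype.ext hx⟩
      sq := fun z => Subtype.ext (h.sq z)
      cap := by
        rintro d ⟨y, hy⟩
        obtain ⟨z, hz⟩ := h.cap d ⟨y, congrArg Subtype.val hy⟩
        exact ⟨z, Subtype.ext hz⟩ }
  obtain ⟨γ, hγ, h3, h4⟩ := Cor.split c1 (H6.isCharacter_restrict D (H6.irr_isCharacter hθ))
    (H6.irr_isCharacter hβ) (p := p) hc
  have hθQ : PInv Q (f.comp a) θ := fun s hs => hθi s (hQP hs)
  have hγi : PInv P1 (f1.comp b1) γ := by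
    rintro _ ⟨s, hs, rfl⟩ d d' hd
    obtain ⟨d'', e1, e2⟩ := hnorm s hs d
    have e3 : d' = d'' := h2.a_inj (hf1 (hd.trans e2.symm))
    rw [e3]
    exact (h1.glH.invBy_iff s.2 (h.norm s hs) hθ hθ hθQ hθQ hγ hγ h3 h3).1 (hθi s hs) d d'' e1
  have l1 : Nat.card Q < n := hn ▸ lt_of_le_of_ne (Subgroup.card_le_of_le hQP)
    fun he => hQ2 (Subgroup.eq_of_le_of_card_ge hQP he.ge)
  have l2 : Nat.card P1 < n := by
    rw [← hn, ← Nat.card_congr (Subgroup.subgroupOfEquivOfLe hPQ).toEquiv]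
    refine lt_of_le_of_ne (Nat.le_of_dvd Nat.card_pos (Subgroup.card_map_dvd _ _)) fun he => hQ1 ?_
    rw [eq_bot_iff]
    intro s hs
    have e1 := Function.Surjective.bijective_of_nat_card_le
      (m.subgroupMap_surjective (P.subgroupOf NQ)) he.ge
    have e2 : (⟨⟨s, Subgroup.le_normalizer hs⟩, hQP hs⟩ : P.subgroupOf NQ) = 1 := e1.1 (by
      rw [map_one]
      exact Subtype.ext ((QuotientGroup.eq_one_iff _).2 hs))
    exact congrArg (fun x : P.subgroupOf NQ => ((x : NQ) : Γ)) e2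
  exact (ih _ l1 rfl h1 hθ hθQ hγ h3).trans (ih _ l2 rfl h2 hγ hγi hβ h4)

/-- The Okuyama-Wajima lemma. -/
theorem OWD.ext_iff [hp : Fact p.Prime] {Γ X K Y C : Type u} [Group Γ] [Group X] [Group K]
    [Group Y] [Group C] [Finite Γ] [Finite X] [Finite K] [Finite Y] [Finite C] {P : Subgroup Γ}
    {f : X →* Γ} {a : K →* X} {i : Y →* X} {b : C →* Y} {c : C →* K}
    (h : OWD p P f a i b c) {θ : K → ℂ} {β : C → ℂ} (hθ : IsIrrCharacter K θ)
    (hθi : PInv P (f.comp a) θ) (hβ : IsIrrCharacter C β) (hc : Cor p (fun z => θ (c z)) β) :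
    Ext a θ ↔ Ext b β := ow_aux _ rfl h hθ hθi hβ hc

end H85
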