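import Mathlib
import Cfsg.Agent.Lib.H85.OW
import Cfsg.Agent.Lib.Char.Chief

/-! Characters of `p'`-degree of a group `M = K S` with a normal `p`-complement `K`. -/

set_option autoImplicit false
set_option linter.unusedSectionVars false
set_option linter.style.haveILetI false

namespace H85

open Cfsg H87
open scoped ComplexConjugate commutatorElement

universe u v w

variable {p : ℕ} {K S M : Type*} [Group K] [Group S] [Group M]

/-- `M = K S` with `K` a normal `p'`-subgroup and `S` a `p`-subgroup. -/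
structure Shp (p : ℕ) (a : K →* M) (s : S →* M) : Prop where
  a_inj : Function.Injective a
  s_inj : Function.Injective s
  normal : a.range.Normal
  nd : ¬ p ∣ Nat.card K
  pg : IsPGroup p S
  sup : ∀ x, ∃ k t, x = a k * s t

/-- `η` restricts to `θ` and its determinant on `S` is `μ ^ θ(1)`. -/
def Typ (a : K →* M) (s : S →* M) (η : M → ℂ) (θ : K → ℂ) (μ : S →* ℂˣ) : Prop :=
  (∀ k, η (a k) = θ k) ∧ ∀ t, H31.detHom η (s t) = μ t ^ charDegree θ

variable [Finite K] [Finite S] [Finite M] [hp : Fact p.Prime] {a : K →* M} {s : S →* M}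

theorem exists_inv_pow (hS : IsPGroup p S) {d : ℕ} (hd : ¬ p ∣ d) :
    ∃ d' : ℕ, ∀ (mu : S →* ℂˣ) (t : S), mu t ^ (d * d') = mu t := by
  obtain ⟨n, hn⟩ := IsPGroup.iff_card.1 hS
  have hc : Nat.Coprime d (Nat.card S) := by
    rw [hn]
    exact (Nat.Coprime.pow_left n ((Nat.Prime.coprime_iff_not_dvd hp.out).2 hd)).symm
  obtain ⟨d', hd'⟩ := Nat.exists_mul_mod_eq_of_coprime 1 hc Nat.card_pos.ne'
  refine ⟨d', fun mu t => ?_⟩
  rw [← map_pow, ← pow_mod_natCard, hd'.2, pow_mod_natCard, pow_one]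

theorem Shp.surj (h : Shp p a s) : haveI := h.normal
    Function.Surjective ((QuotientGroup.mk' a.range).comp s) := by
  haveI := h.normal
  intro q
  obtain ⟨x, rfl⟩ := QuotientGroup.mk_surjective q
  obtain ⟨k, t, rfl⟩ := h.sup x
  refine ⟨t, ?_⟩
  rw [QuotientGroup.mk_mul, (QuotientGroup.eq_one_iff _).2 (mem_rng a k), one_mul]
  rfl

theorem Shp.index (h : Shp p a s) : ∃ n, a.range.index = p ^ n := by
  haveI := h.normal
  exact IsPGroup.iff_card.1 (h.pg.of_surjective _ h.surj)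

theorem Shp.coprime (h : Shp p a s) {d : ℕ} (hd : ¬ p ∣ d) : Nat.Coprime a.range.index d := by
  obtain ⟨n, hn⟩ := h.index
  rw [hn]
  exact Nat.Coprime.pow_left n ((Nat.Prime.coprime_iff_not_dvd hp.out).2 hd)

theorem Shp.exists_hom (h : Shp p a s) (mu : S →* ℂˣ) :
    ∃ B : M →* ℂˣ, (∀ k, B (a k) = 1) ∧ ∀ t, B (s t) = mu t := by
  haveI := h.normal
  obtain ⟨l, hl⟩ := exists_lift_hom h.surj mu fun t ht => by
    obtain ⟨k, hk⟩ := (QuotientGroup.eq_one_iff (s t)).1 ht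
    have h1 := eq_one_of_pgroup ((h.pg.to_subgroup ⊤).map s) h.nd h.a_inj
      (x := k) ⟨t, trivial, hk.symm⟩
    rw [h1, map_one] at hk
    rw [h.s_inj (hk.symm.trans (map_one s).symm), map_one]
  refine ⟨l.comp (QuotientGroup.mk' _), fun k => ?_, hl⟩
  rw [MonoidHom.comp_apply, QuotientGroup.mk'_apply, (QuotientGroup.eq_one_iff _).2 (mem_rng a k),
    map_one]

theorem Shp.hom_ext (h : Shp p a s) {B B' : M →* ℂˣ} (h1 : ∀ k, B (a k) = B' (a k))
    (h2 : ∀ t, B (s t) = B' (s t)) : B = B' := by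
  refine MonoidHom.ext fun x => ?_
  obtain ⟨k, t, rfl⟩ := h.sup x
  rw [map_mul, map_mul, h1, h2]

theorem Shp.not_dvd_deg (h : Shp p a s) {θ : K → ℂ} (hθ : IsIrrCharacter K θ) :
    ¬ p ∣ charDegree θ := fun hd => h.nd (hd.trans (deg_dvd_card hθ))

theorem Shp.mem_range (h : Shp p a s) {x : M} {m : ℕ} (hm : ¬ p ∣ m) (hx : x ^ m = 1) :
    x ∈ a.range := by
  haveI := h.normal
  rw [← QuotientGroup.eq_one_iff, ← orderOf_eq_one_iff]
  refine Nat.eq_one_of_dvd_coprimes (h.coprime hm) (orderOf_dvd_natCard _)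
    (orderOf_dvd_of_pow_eq_one ?_)
  rw [← QuotientGroup.mk_pow, hx, QuotientGroup.mk_one]

theorem Typ.deg {η : M → ℂ} {θ : K → ℂ} {μ : S →* ℂˣ} (h : Typ a s η θ μ) :
    charDegree η = charDegree θ := deg_congr (by rw [← h.1, map_one])

theorem Shp.ext (h : Shp p a s) {θ : K → ℂ} (hθ : IsIrrCharacter K θ)
    (hinv : ∀ x, InvBy a θ θ x) : Ext a θ := by
  haveI := h.normal
  obtain ⟨η, h1, h2⟩ := H31.extends_of_coprime a.range (h.coprime (by
    rw [← Nat.card_congr (MonoidHom.ofInjective h.a_inj).toEquiv]; exact h.nd))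
    (tr_irr h.a_inj hθ) (fun g n => (congrFun ((invBy_iff h.a_inj).1 (hinv g)) n).symm)
  exact ⟨η, h1, fun l => (h2 ⟨a l, mem_rng a l⟩).trans (tr_apply h.a_inj θ l _)⟩

theorem Shp.exists_typ (h : Shp p a s) {θ : K → ℂ} (hθ : IsIrrCharacter K θ)
    (hinv : ∀ x, InvBy a θ θ x) (μ : S →* ℂˣ) : ∃ η, IsIrrCharacter M η ∧ Typ a s η θ μ := by
  obtain ⟨η, h1, h2⟩ := h.ext hθ hinv
  obtain ⟨d', hd'⟩ := exists_inv_pow h.pg (h.not_dvd_deg hθ)
  obtain ⟨B, hB1, hB2⟩ := h.exists_hom (μ * (((H31.detHom η).comp s) ^ d')⁻¹)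
  have h3 : η 1 = charDegree θ := by rw [irr_deg_cast hθ, ← h2, map_one]
  refine ⟨fun x => B x * η x, ?_, fun k => by simp only [hB1, h2, Units.val_one, one_mul],
    fun t => ?_⟩
  · simpa only [mul_comm] using H6.isIrrCharacter_mul_hom h1 B
  · rw [H31.detHom_hom_mul (H6.irr_isCharacter h1) h3, hB2]
    have := hd' ((H31.detHom η).comp s) t
    simp only [MonoidHom.mul_apply, MonoidHom.inv_apply, MonoidHom.pow_apply, mul_pow, inv_pow,
      ← pow_mul, MonoidHom.comp_apply] at this ⊢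
    rw [mul_comm d', this, inv_mul_cancel_right]

theorem exists_hom_of_ext {L X : Type*} [Group L] [Group X] [Finite L] [Finite X] {j : L →* X}
    (hj : Function.Injective j) [j.range.Normal] {θ : L → ℂ} (hθ : IsIrrCharacter L θ)
    {χ ψ : X → ℂ} (hχ : IsCharacter X χ) (hψ : IsCharacter X ψ) (h1 : ∀ l, χ (j l) = θ l)
    (h2 : ∀ l, ψ (j l) = θ l) : ∃ B : X →* ℂˣ, (∀ l, B (j l) = 1) ∧ ∀ x, ψ x = B x * χ x := by
  obtain ⟨B, h3, h4⟩ := H31.exists_hom_of_two_extensions j.range (tr_irr hj hθ) hχ hψ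
    (fun n => by obtain ⟨l, hl⟩ := n.2; rw [tr_of_eq hj θ n l hl, ← hl, h1])
    (fun n => by obtain ⟨l, hl⟩ := n.2; rw [tr_of_eq hj θ n l hl, ← hl, h2])
  exact ⟨B, fun l => h3 _ (mem_rng j l), h4⟩

theorem Shp.typ_unique (h : Shp p a s) {θ : K → ℂ} (hθ : IsIrrCharacter K θ) {μ : S →* ℂˣ}
    {η η' : M → ℂ} (hη : IsCharacter M η) (hη' : IsCharacter M η') (h1 : Typ a s η θ μ)
    (h2 : Typ a s η' θ μ) : η = η' := by
  haveI := h.normal
  obtain ⟨B, h3, h4⟩ := exists_hom_of_ext h.a_inj hθ hη hη' h1.1 h2.1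
  obtain ⟨d', hd'⟩ := exists_inv_pow h.pg (h.not_dvd_deg hθ)
  have h5 : η 1 = charDegree θ := by rw [irr_deg_cast hθ, ← h1.1, map_one]
  have h6 : B = 1 := h.hom_ext h3 fun t => by
    have := h2.2 t
    rw [funext h4, H31.detHom_hom_mul hη h5, h1.2, mul_eq_right] at this
    have h7 := hd' (B.comp s) t
    rw [pow_mul, MonoidHom.comp_apply, this, one_pow] at h7
    exact h7.symm
  funext x
  rw [h4, h6, MonoidHom.one_apply, Units.val_one, one_mul]

theorem Shp.typ_unique' (h : Shp p a s) {θ θ' : K → ℂ} (hθ : IsIrrCharacter K θ)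
    {μ μ' : S →* ℂˣ} {η : M → ℂ} (h1 : Typ a s η θ μ) (h2 : Typ a s η θ' μ') :
    θ = θ' ∧ μ = μ' := by
  have e : θ = θ' := funext fun k => (h1.1 k).symm.trans (h2.1 k)
  subst e
  obtain ⟨d', hd'⟩ := exists_inv_pow h.pg (h.not_dvd_deg hθ)
  refine ⟨rfl, MonoidHom.ext fun t => ?_⟩
  rw [← hd' μ t, ← hd' μ' t, pow_mul, pow_mul, ← h1.2, ← h2.2]

theorem Shp.exists_typ_of (h : Shp p a s) {η : M → ℂ} (hη : IsIrrCharacter M η)
    (hd : ¬ p ∣ charDegree η) : ∃ θ μ, IsIrrCharacter K θ ∧ Typ a s η θ μ := by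
  haveI := h.normal
  obtain ⟨d', hd'⟩ := exists_inv_pow h.pg hd
  refine ⟨fun k => η (a k), ((H31.detHom η).comp s) ^ d',
    irr_res_of_range h.a_inj (χ := η) (H87.isIrr_res_of_coprime _ hη (h.coprime hd).symm), fun _ => rfl,
    fun t => ?_⟩
  rw [deg_comp, MonoidHom.pow_apply, ← pow_mul, mul_comm, hd']
  rfl

section Amb

variable {X : Type*} [Group X] {m : M →* X}

theorem InvBy.det (hm : Function.Injective m) {x : X} (hx : ∀ l, ∃ l', m l' = x * m l * x⁻¹)
    {η η' : M → ℂ} (hη : IsCharacter M η) (h : InvBy m η η' x) {l l' : M}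
    (hl : m l' = x * m l * x⁻¹) : H31.detHom η' l = H31.detHom η l' := by
  choose φ hφ using hx
  let e : M →* M := MonoidHom.mk' φ fun a b => hm (by simp only [map_mul, hφ]; group)
  have : η' = fun l => η (e l) := funext fun l => h _ _ (hφ l)
  rw [this, H31.detHom_comp e hη, hm (hl.trans (hφ l).symm)]
  rfl

theorem Shp.invBy_iff (h : Shp p a s) (hm : Function.Injective m) {x : X}
    {ma : K →* X} (hma : ∀ k, m (a k) = ma k) {ms : S →* X} (hms : ∀ t, m (s t) = ms t)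
    (hK : ∀ k, ∃ k', ma k' = x * ma k * x⁻¹) (hS : ∀ t, ∃ t', ms t' = x * ms t * x⁻¹)
    {η η' : M → ℂ} (hη : IsIrrCharacter M η) (hη' : IsIrrCharacter M η') {θ θ' : K → ℂ}
    (hθ : IsIrrCharacter K θ) (hθ' : IsIrrCharacter K θ') {μ μ' : S →* ℂˣ} (h1 : Typ a s η θ μ)
    (h2 : Typ a s η' θ' μ') : InvBy m η η' x ↔
      InvBy ma θ θ' x ∧ ∀ t t', ms t' = x * ms t * x⁻¹ → μ' t = μ t' := by
  have hM : ∀ l, ∃ l', m l' = x * m l * x⁻¹ := fun l => by
    obtain ⟨k, t, rfl⟩ := h.sup l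
    obtain ⟨k', hk⟩ := hK k
    obtain ⟨t', ht⟩ := hS t
    exact ⟨a k' * s t', by rw [map_mul, map_mul, hma, hma, hms, hms, hk, ht]; group⟩
  have fwd : ∀ {η' : M → ℂ} {θ' : K → ℂ} {μ' : S →* ℂˣ}, Typ a s η' θ' μ' → InvBy m η η' x →
      InvBy ma θ θ' x ∧ ∀ t t', ms t' = x * ms t * x⁻¹ → μ' t = μ t' := by
    intro η' θ' μ' h2 h3
    refine ⟨fun k k' hk => by rw [← h1.1, ← h2.1]; exact h3 _ _ (by rw [hma, hma, hk]),
      fun t t' ht => ?_⟩
    have h4 := h3.det hm hM (H6.irr_isCharacter hη) (l := s t) (l' := s t') (by rw [hms, hms, ht])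
    have h5 : charDegree θ' = charDegree θ := by
      rw [← h1.deg, ← h2.deg]
      exact deg_congr (h3 1 1 (by simp))
    obtain ⟨d', hd'⟩ := exists_inv_pow h.pg (h.not_dvd_deg hθ)
    rw [h1.2, h2.2, h5] at h4
    rw [← hd' μ' t, ← hd' μ t', pow_mul, pow_mul, h4]
  refine ⟨fwd h2, fun ⟨h3, h4⟩ => ?_⟩
  obtain ⟨η'', h5, h6⟩ := exists_invBy' hm hη hM
  obtain ⟨θ'', μ'', h7, h8⟩ := h.exists_typ_of h5 (by
    rw [deg_congr (h6 1 1 (by simp)), h1.deg]; exact h.not_dvd_deg hθ)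
  obtain ⟨h9, h10⟩ := fwd h8 h6
  have e1 : θ'' = θ' := h9.unique' hK h3
  have e2 : μ'' = μ' := MonoidHom.ext fun t => by
    obtain ⟨t', ht⟩ := hS t
    rw [h10 t t' ht, h4 t t' ht]
  subst e1 e2
  rwa [h.typ_unique hθ' (H6.irr_isCharacter hη') (H6.irr_isCharacter h5) h2 h8]

end Amb

theorem index_dvd_relIndex {U : Type*} [Group U] [Finite U] {K0 M0 X0 : Subgroup U} [M0.Normal]
    (h1 : K0 ≤ M0) (h2 : K0 ≤ X0) (h3 : X0 ⊔ M0 = ⊤) : X0.index ∣ K0.relIndex M0 := by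
  have e1 := Subgroup.relIndex_mul_index h1
  have e2 := Subgroup.relIndex_mul_index h2
  have e3 : M0.index = M0.relIndex X0 := by
    rw [← Subgroup.relIndex_sup_right, h3, Subgroup.relIndex_top_right]
  obtain ⟨t, ht⟩ := Subgroup.relIndex_dvd_of_le_left X0 h1
  refine ⟨t, Nat.eq_of_mul_eq_mul_right (Nat.pos_of_ne_zero
    (M0.index_ne_zero_of_finite)) ?_⟩
  rw [e1, ← e2, ht, e3]
  ring

theorem relIndex_range {L Y X : Type*} [Group L] [Group Y] [Group X] {a : L →* Y} {u : Y →* X}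
    (hu : Function.Injective u) {j : L →* X} (h : ∀ l, u (a l) = j l) :
    j.range.relIndex u.range = a.range.index := by
  have : j.range = a.range.map u := by
    rw [← MonoidHom.range_comp]
    congr 1
    exact (MonoidHom.ext h).symm
  rw [this, MonoidHom.range_eq_map u, Subgroup.relIndex_map_map_of_injective _ _ hu,
    Subgroup.relIndex_top_right]

theorem Shp.ext_iff (h : Shp p a s) {U X : Type*} [Group U] [Finite U] [Group X] [Finite X]
    {u : M →* U} (hu : Function.Injective u) [u.range.Normal] (hi : ¬ p ∣ u.range.index)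
    {aU : K →* U} (haU : ∀ k, u (a k) = aU k) [aU.range.Normal] {x : X →* U}
    (hx : Function.Injective x) {aX : K →* X} (haX : ∀ k, x (aX k) = aU k)
    (hsup : x.range ⊔ u.range = ⊤) {η : M → ℂ} (hη : IsIrrCharacter M η) {θ : K → ℂ}
    (hθ : IsIrrCharacter K θ) (hηθ : ∀ k, η (a k) = θ k) :
    Ext u η ↔ (∀ y, InvBy u η η y) ∧ Ext aX θ := by
  haveI := h.normal
  have haUi : Function.Injective aU := fun k k' hk => h.a_inj (hu (by rw [haU, haU, hk]))
  refine ⟨fun h1 => ⟨h1.invBy, Ext.res haX hθ (Ext.trans haU hηθ h1)⟩, fun ⟨h1, h2⟩ => ?_⟩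
  have hθi : ∀ y, InvBy aU θ θ y := fun y => by
    rw [← funext hηθ]
    exact invBy_res haU (h1 y)
  have hle1 : aU.range ≤ u.range := by rintro _ ⟨k, rfl⟩; exact ⟨_, haU k⟩
  have hle2 : aU.range ≤ x.range := by rintro _ ⟨k, rfl⟩; exact ⟨_, haX k⟩
  obtain ⟨ψ, hψ, hψθ⟩ : Ext aU θ := by
    obtain ⟨ξ, hξ, hξθ⟩ := h2
    obtain ⟨χ, h3, h4⟩ := H31.extends_of_forall_prime aU.range (tr_irr haUi hθ)
      (fun g n => (congrFun ((H85.invBy_iff haUi).1 (hθi g)) n).symm) (fun q hq _ => by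
        by_cases hqp : q = p
        · refine ⟨u.range, hle1, tr u hu η, hqp ▸ hi, tr_char hu (H6.irr_isCharacter hη), ?_⟩
          intro n
          obtain ⟨k, hk⟩ := n.2
          rw [tr_of_eq haUi θ n k hk, tr_of_eq hu η _ (a k) ((haU k).trans hk), hηθ]
        · refine ⟨x.range, hle2, tr x hx ξ, fun hd => ?_, tr_char hx (H6.irr_isCharacter hξ), ?_⟩
          · have h5 := hd.trans (index_dvd_relIndex hle1 hle2 hsup)
            obtain ⟨n, hn⟩ := h.index
            rw [relIndex_range hu haU, hn] at h5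
            exact hqp ((Nat.prime_dvd_prime_iff_eq hq hp.out).1 (hq.dvd_of_dvd_pow h5))
          · intro n
            obtain ⟨k, hk⟩ := n.2
            rw [tr_of_eq haUi θ n k hk, tr_of_eq hx ξ _ (aX k) ((haX k).trans hk), hξθ])
    exact ⟨χ, h3, fun l => (h4 ⟨aU l, mem_rng aU l⟩).trans (tr_apply haUi θ l _)⟩
  have hη1 : IsCharacter M fun l => ψ (u l) := H6.isCharacter_comp u (H6.irr_isCharacter hψ)
  obtain ⟨B, hB1, hB2⟩ := exists_hom_of_ext h.a_inj hθ hη1 (H6.irr_isCharacter hη)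
    (fun k => by simp only [haU, hψθ]) hηθ
  have hirr : IsIrrCharacter K fun k => ψ (u (a k)) := by
    simp only [haU, hψθ]; exact hθ
  have hBi : ∀ (y : U) (l l' : M), u l' = y * u l * y⁻¹ → B l' = B l := by
    intro y
    have hM : ∀ l, ∃ l', u l' = y * u l * y⁻¹ := fun l =>
      (inferInstance : u.range.Normal).conj_mem _ (mem_rng u l) y
    choose φ hφ using hM
    let e : M →* M := MonoidHom.mk' φ fun a b => hu (by simp only [map_mul, hφ]; group)
    have e1 : B.comp e = B := by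
      apply H6.hom_coe_injective
      refine H31.gallagher_inj a.range hη1 (irr_res_range h.a_inj (χ := fun l => ψ (u l)) hirr)
        (H6.isIrrCharacter_hom _) ?_ (H6.isIrrCharacter_hom _) ?_ ?_
      · rintro _ ⟨k, rfl⟩
        obtain ⟨k', hk'⟩ := (inferInstance : aU.range.Normal).conj_mem _ (mem_rng aU k) y
        have : e (a k) = a k' := hu ((hφ _).trans (by rw [haU, haU, hk']))
        show ((B.comp e) (a k) : ℂ) = (B.comp e) 1
        rw [MonoidHom.comp_apply, this, hB1, map_one]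
      · rintro _ ⟨k, rfl⟩
        show (B (a k) : ℂ) = B 1
        rw [hB1, map_one]
      · funext l
        show (B (φ l) : ℂ) * ψ (u l) = B l * ψ (u l)
        rw [← hB2, h1 y l (φ l) (hφ l), hB2, hφ, H6.irr_isClassFunction hψ]
    intro l l' hl
    rw [hu (hl.trans (hφ l).symm)]
    exact DFunLike.congr_fun e1 l
  let B' : u.range →* ℂˣ := B.comp (MonoidHom.ofInjective hu).symm.toMonoidHom
  have hB' : ∀ (n : u.range) l, u l = n → B' n = B l := fun n l hl => by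
    have : n = MonoidHom.ofInjective hu l := Subtype.ext hl.symm
    rw [this]
    show B ((MonoidHom.ofInjective hu).symm _) = _
    rw [MulEquiv.symm_apply_apply]
  obtain ⟨F, hF, -⟩ := H31.exists_hom_ext_of_coprime B' (fun g n => by
    obtain ⟨l, hl⟩ := n.2
    obtain ⟨l', hl'⟩ := (inferInstance : u.range.Normal).conj_mem _ n.2 g
    rw [hB' n l hl, hB' _ l' hl']
    exact hBi g l l' (by rw [hl', hl])) (by
      obtain ⟨n, hn⟩ := h.index
      refine Nat.Coprime.coprime_dvd_right ?_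
        (Nat.Coprime.pow_left n ((Nat.Prime.coprime_iff_not_dvd hp.out).2 hi)).symm
      rw [H31.orderOf_hom_dvd_iff]
      intro g
      rw [← hn]
      exact H31.hom_pow_index_eq_one B (by rintro _ ⟨k, rfl⟩; exact hB1 k) _)
  refine ⟨fun y => ψ y * F y, H6.isIrrCharacter_mul_hom hψ F, fun l => ?_⟩
  have := hF ⟨u l, mem_rng u l⟩
  rw [hB' _ l rfl] at this
  simp only at this ⊢
  rw [this, hB2, mul_comm]

section Cent

variable {Z X : Type*} [Group Z] [Finite Z] [Group X] [Finite X]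

theorem hom_ext_of_parts (p : ℕ) [hp : Fact p.Prime] {f g : Z →* ℂˣ}
    (h1 : ∀ (z : Z) (k : ℕ), z ^ p ^ k = 1 → f z = g z)
    (h2 : ∀ (z : Z) (m : ℕ), ¬ p ∣ m → z ^ m = 1 → f z = g z) : f = g := by
  obtain ⟨k, m, hm, hc⟩ := Nat.exists_eq_pow_mul_and_not_dvd (Nat.card_pos (α := Z)).ne' p
    hp.out.ne_one
  refine MonoidHom.ext fun z => ?_
  have e1 := h1 (z ^ m) k (by rw [← pow_mul, mul_comm, ← hc, pow_card_eq_one'])
  have e2 := h2 (z ^ p ^ k) m hm (by rw [← pow_mul, ← hc, pow_card_eq_one'])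
  rw [← mul_inv_eq_one, ← orderOf_eq_one_iff]
  refine Nat.eq_one_of_dvd_coprimes (Nat.Coprime.pow_left k
    ((Nat.Prime.coprime_iff_not_dvd hp.out).2 hm)) (orderOf_dvd_of_pow_eq_one ?_)
    (orderOf_dvd_of_pow_eq_one ?_)
  · rw [mul_pow, inv_pow, ← map_pow, ← map_pow, e2, mul_inv_cancel]
  · rw [mul_pow, inv_pow, ← map_pow, ← map_pow, e1, mul_inv_cancel]

theorem ov_central_iff {z : Z →* X} (hz : ∀ w, z w ∈ Subgroup.center X) {χ : X → ℂ}
    (hχ : IsIrrCharacter X χ) (lam : Z →* ℂˣ) :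
    Ov z χ (fun w => lam w) ↔ ∀ w, χ (z w) = χ 1 * lam w := by
  refine ⟨fun h => ?_, ov_of_eq_mul (H6.isIrrCharacter_hom lam) (H6.irr_one_ne_zero hχ)⟩
  have h1 : ∀ w x, χ (z w * x) = χ (z w) / χ 1 * χ x := by
    intro w x
    obtain ⟨ω, hω⟩ := exists_mul_of_mem_center hχ (hz w)
    have := hω 1
    rw [mul_one] at this
    rw [hω, this, mul_div_assoc, div_self (H6.irr_one_ne_zero hχ), mul_one]
  have h0 := H6.irr_one_ne_zero hχ
  let ω : Z →* ℂ :=
    { toFun := fun w => χ (z w) / χ 1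
      map_one' := by rw [map_one, div_self h0]
      map_mul' := fun w w' => by rw [map_mul, h1]; ring }
  have h2 : ∀ w, χ (z w) = χ 1 * ω.toHomUnits w := fun w => by
    show χ (z w) = χ 1 * (χ (z w) / χ 1)
    field_simp
  have := Ov.eq_of_eq_mul (H6.isIrrCharacter_hom ω.toHomUnits) (H6.isIrrCharacter_hom lam) h2 h
  intro w
  rw [h2, congrFun this w]

theorem exists_central_hom {z : Z →* X} (hz : ∀ w, z w ∈ Subgroup.center X) {χ : X → ℂ}
    (hχ : IsIrrCharacter X χ) : ∃ lam : Z →* ℂˣ, ∀ w, χ (z w) = χ 1 * lam w := by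
  have h1 : ∀ w x, χ (z w * x) = χ (z w) / χ 1 * χ x := by
    intro w x
    obtain ⟨ω, hω⟩ := exists_mul_of_mem_center hχ (hz w)
    have := hω 1
    rw [mul_one] at this
    rw [hω, this, mul_div_assoc, div_self (H6.irr_one_ne_zero hχ), mul_one]
  have h0 := H6.irr_one_ne_zero hχ
  let ω : Z →* ℂ :=
    { toFun := fun w => χ (z w) / χ 1
      map_one' := by rw [map_one, div_self h0]
      map_mul' := fun w w' => by rw [map_mul, h1]; ring }
  refine ⟨ω.toHomUnits, fun w => ?_⟩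
  show χ (z w) = χ 1 * (χ (z w) / χ 1)
  field_simp

theorem norm_hom_one (lam : Z →* ℂˣ) (w : Z) : ‖(lam w : ℂ)‖ = 1 := H31.norm_hom_eq_one lam w

theorem Ov.scalar {L : Type*} [Group L] [Finite L] {j : L →* X} {χ : X → ℂ} {ν : L → ℂ}
    (h : Ov j χ ν) (hχ : IsCharacter X χ) (hν : IsIrrCharacter L ν) {l : L} {c : ℂ}
    (hc : ‖c‖ = 1) (hl : χ (j l) = χ 1 * c) : ν l = ν 1 * c := by
  letI := Fintype.ofFinite L
  exact H31.scalar_of_constituent (H6.isCharacter_comp j hχ) hν (ov_iff.1 h) hc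
    (by simpa using hl)

theorem det_of_scalar {χ : X → ℂ} (hχ : IsCharacter X χ) {x : X} {c : ℂˣ} (hc : ‖(c : ℂ)‖ = 1)
    (h : χ x = χ 1 * c) : H31.detHom χ x = c ^ charDegree χ := by
  obtain ⟨d, ρ, rfl⟩ := hχ
  have h1 : ρ.character 1 = (Module.finrank ℂ (Fin d → ℂ) : ℂ) := ρ.char_one
  obtain ⟨ω, hω⟩ := (H6.norm_character_eq_iff ρ x).1 (by
    rw [h, norm_mul, hc, mul_one, h1, Complex.norm_natCast])
  apply Units.ext
  rw [H31.detHom_character, H31.repDet_apply, hω, LinearMap.det_smul, LinearMap.det_id, mul_one,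
    deg_character, Units.val_pow_eq_pow_val]
  by_cases hd : Module.finrank ℂ (Fin d → ℂ) = 0
  · rw [hd, pow_zero, pow_zero]
  congr 1
  have h2 : ρ.character x = ω * Module.finrank ℂ (Fin d → ℂ) := by
    rw [Representation.character, hω, map_smul, LinearMap.trace_id, smul_eq_mul]
  rw [h2, h1, mul_comm] at h
  exact mul_left_cancel₀ (Nat.cast_ne_zero.2 hd) h

end Cent

end H85
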