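import Mathlib
import Cfsg.Agent.Lib.H85.Typ
import Cfsg.Agent.Lib.Deg.FS4

/-! Counting characters through an intermediate normal subgroup, reality, restriction lemma. -/

set_option autoImplicit false
set_option linter.unusedSectionVars false
set_option linter.style.haveILetI false

namespace H85

open Cfsg H87
open scoped ComplexConjugate commutatorElement

universe u v w

theorem exists_factor {A B X : Type*} [Group A] [Group B] [Group X] {i : B →* X}
    (hi : Function.Injective i) (f : A →* X) (h : ∀ a, f a ∈ i.range) :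
    ∃ g : A →* B, ∀ a, i (g a) = f a := by
  choose g hg using h
  exact ⟨MonoidHom.mk' g fun a b => hi (by simp only [map_mul, hg]), hg⟩

theorem card_eq_of_mid {G N M M' : Type*} [Group G] [Group N] [Group M] [Group M'] [Finite G]
    [Finite N] [Finite M] [Finite M'] {m : M →* G} (hm : Function.Injective m) [m.range.Normal]
    {m' : M' →* N} (hm' : Function.Injective m') [m'.range.Normal]
    (Rel : (M → ℂ) → (M' → ℂ) → Prop) (PA : (G → ℂ) → Prop) (PB : (N → ℂ) → Prop)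
    (hA : ∀ χ, IsIrrCharacter G χ → PA χ →
      ∃ η η', IsIrrCharacter M η ∧ IsIrrCharacter M' η' ∧ Rel η η' ∧ Ov m χ η)
    (hB : ∀ ψ, IsIrrCharacter N ψ → PB ψ →
      ∃ η η', IsIrrCharacter M η ∧ IsIrrCharacter M' η' ∧ Rel η η' ∧ Ov m' ψ η')
    (hr : ∀ η₁ η₁' η₂ η₂', IsIrrCharacter M η₁ → IsIrrCharacter M' η₁' → IsIrrCharacter M η₂ →
      IsIrrCharacter M' η₂' → Rel η₁ η₁' → Rel η₂ η₂' →
      ((∃ x, InvBy m η₁ η₂ x) ↔ ∃ y, InvBy m' η₁' η₂' y))
    (hf : ∀ η η', IsIrrCharacter M η → IsIrrCharacter M' η' → Rel η η' →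
      Nat.card {χ : IrrCharacter G // PA χ.1 ∧ Ov m χ.1 η} =
        Nat.card {ψ : IrrCharacter N // PB ψ.1 ∧ Ov m' ψ.1 η'}) :
    Nat.card {χ : IrrCharacter G // PA χ.1} = Nat.card {ψ : IrrCharacter N // PB ψ.1} := by
  let D := {d : IrrCharacter M × IrrCharacter M' // Rel d.1.1 d.2.1}
  let s : Setoid D :=
    { r := fun d d' => ∃ x, InvBy m d.1.1.1 d'.1.1.1 x
      iseqv := ⟨fun d => ⟨1, invBy_one hm _⟩, fun ⟨x, h⟩ => ⟨_, h.symm⟩,
        fun ⟨x, h⟩ ⟨y, h'⟩ => ⟨_, h.trans h'⟩⟩ }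
  refine card_eq_of_fib s (fun (χ : {χ : IrrCharacter G // PA χ.1}) d => Ov m χ.1.1 d.1.1.1)
    (fun (ψ : {ψ : IrrCharacter N // PB ψ.1}) d => Ov m' ψ.1.1 d.1.2.1) ?_ ?_ ?_ ?_ ?_
  · intro χ
    obtain ⟨η, η', h1, h2, h3, h4⟩ := hA _ χ.1.2 χ.2
    exact ⟨⟨(⟨η, h1⟩, ⟨η', h2⟩), h3⟩, h4⟩
  · intro χ d d' h
    exact ⟨fun h' => h.exists_invBy hm h' χ.1.2 d.1.1.2 d'.1.1.2,
      fun ⟨x, hx⟩ => h.of_invBy hm (H6.irr_isClassFunction χ.1.2) hx⟩
  · intro χ
    obtain ⟨η, η', h1, h2, h3, h4⟩ := hB _ χ.1.2 χ.2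
    exact ⟨⟨(⟨η, h1⟩, ⟨η', h2⟩), h3⟩, h4⟩
  · intro χ d d' h
    refine Iff.trans ?_ (hr _ _ _ _ d.1.1.2 d.1.2.2 d'.1.1.2 d'.1.2.2 d.2 d'.2).symm
    exact ⟨fun h' => h.exists_invBy hm' h' χ.1.2 d.1.2.2 d'.1.2.2,
      fun ⟨x, hx⟩ => h.of_invBy hm' (H6.irr_isClassFunction χ.1.2) hx⟩
  · intro d
    rw [Nat.card_congr (Equiv.subtypeSubtypeEquivSubtypeInter _ fun χ : IrrCharacter G =>
      Ov m χ.1 d.1.1.1), Nat.card_congr (Equiv.subtypeSubtypeEquivSubtypeInter _
      fun χ : IrrCharacter N => Ov m' χ.1 d.1.2.1)]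
    exact hf _ _ d.1.1.2 d.1.2.2 d.2

section Grp

variable {G : Type*} [Group G] [Finite G] {p : ℕ} [hp : Fact p.Prime]

theorem exists_mul_mem_normalizer (S : Sylow p G) {T : Subgroup G} (hS : (S : Subgroup G) ≤ T)
    {x : G} (hx : ∀ s ∈ (S : Subgroup G), x⁻¹ * s * x ∈ T) :
    ∃ t ∈ T, x * t ∈ Subgroup.normalizer ((S : Subgroup G) : Set G) := by
  have h1 : ((x⁻¹ • S : Sylow p G) : Subgroup G) ≤ T := by
    rintro _ ⟨s, hs, rfl⟩
    simpa using hx s hs
  obtain ⟨t, ht⟩ := MulAction.exists_smul_eq T (S.subtype hS) ((x⁻¹ • S).subtype h1)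
  rw [Sylow.smul_subtype] at ht
  have h2 := Sylow.subtype_injective ht
  refine ⟨t, t.2, ?_⟩
  have : (x * t) • S = S := by
    rw [mul_smul]
    have h3 : (t : G) • S = x⁻¹ • S := h2
    rw [h3, smul_inv_smul]
  exact Sylow.smul_eq_iff_mem_normalizer.1 this

theorem exists_conj_sylow_le (S : Sylow p G) {T : Subgroup G} (h : ¬ p ∣ T.index) :
    ∃ x : G, ∀ s ∈ (S : Subgroup G), x * s * x⁻¹ ∈ T := by
  obtain ⟨Q⟩ : Nonempty (Sylow p T) := inferInstance
  have h1 : ¬ p ∣ ((Q : Subgroup T).map T.subtype).index := by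
    rw [Subgroup.index_map_subtype]
    exact Nat.Prime.not_dvd_mul hp.out Q.not_dvd_index h
  obtain ⟨x, hx⟩ := MulAction.exists_smul_eq G S ((Q.isPGroup'.map T.subtype).toSylow h1)
  refine ⟨x, fun s hs => Subgroup.map_subtype_le (Q : Subgroup T) ?_⟩
  have h2 : x * s * x⁻¹ ∈ ((x • S : Sylow p G) : Subgroup G) := ⟨s, hs, rfl⟩
  rw [hx] at h2
  exact h2

theorem not_dvd_index_of_sylow_le (S : Sylow p G) {T : Subgroup G} (h : (S : Subgroup G) ≤ T) :
    ¬ p ∣ T.index := fun hd => S.not_dvd_index (hd.trans (Subgroup.index_dvd_of_le h))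

theorem frattini_mul (S : Sylow p G) {M : Subgroup G} [M.Normal] (h : (S : Subgroup G) ≤ M)
    (x : G) : ∃ n ∈ Subgroup.normalizer ((S : Subgroup G) : Set G), ∃ y ∈ M, x = n * y := by
  obtain ⟨t, ht, h1⟩ := exists_mul_mem_normalizer S h (x := x) fun s hs => by
    simpa using (inferInstance : M.Normal).conj_mem _ (h hs) x⁻¹
  exact ⟨_, h1, t⁻¹, M.inv_mem ht, by group⟩

end Grp

section Ch

variable {L X : Type*} [Group L] [Group X] [Finite L] [Finite X] {j : L →* X}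

theorem Ov.not_dvd_index (hj : Function.Injective j) [j.range.Normal] {χ : X → ℂ} {ν : L → ℂ}
    (h : Ov j χ ν) (hχ : IsIrrCharacter X χ) (hν : IsIrrCharacter L ν) {p : ℕ}
    (hd : ¬ p ∣ charDegree χ) : ¬ p ∣ (inJ hj ν).index := by
  obtain ⟨e, -, h1, -⟩ := h.clifford hj hχ hν
  exact fun h2 => hd (h1 ▸ (h2.mul_left e).mul_right _)

theorem exists_sylow_inv (hj : Function.Injective j) [j.range.Normal] {p : ℕ} [Fact p.Prime]
    (S : Sylow p X) {χ : X → ℂ} (hχ : IsIrrCharacter X χ) (hd : ¬ p ∣ charDegree χ) :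
    ∃ ν, IsIrrCharacter L ν ∧ Ov j χ ν ∧ ∀ s ∈ (S : Subgroup X), InvBy j ν ν s := by
  obtain ⟨ν, h1, h2⟩ := exists_under_hom j hχ
  obtain ⟨x, hx⟩ := exists_conj_sylow_le S (h2.not_dvd_index hj hχ h1 hd)
  obtain ⟨ν', h3, h4⟩ := exists_invBy hj h1 x
  refine ⟨ν', h3, h2.of_invBy hj (H6.irr_isClassFunction hχ) h4, fun s hs => ?_⟩
  have := ((h4.symm).trans ((mem_inJ hj).1 (hx s hs))).trans h4
  rwa [show x⁻¹ * (x * s * x⁻¹) * x = s by group] at this

theorem InvBy.conj {ν ν' : L → ℂ} {x : X} (h : InvBy j ν ν' x) :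
    InvBy j (fun l => conj (ν l)) (fun l => conj (ν' l)) x := fun l l' hl => by
  simp only [h l l' hl]

theorem Ov.isReal (hj : Function.Injective j) [j.range.Normal] {χ : X → ℂ} {ν : L → ℂ}
    (h : Ov j χ ν) (hχ : IsIrrCharacter X χ) (hν : IsIrrCharacter L ν) (hr : IsReal χ)
    (hd : ¬ 2 ∣ charDegree χ) : IsReal ν := by
  have h1 : Ov j χ fun l => conj (ν l) := by
    have := ov_conj.2 h
    rwa [real_iff.1 hr] at this
  obtain ⟨x, hx⟩ := h.exists_invBy hj h1 hχ hν (H6.isIrrCharacter_conj hν)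
  have hx' : InvBy j (fun l => conj (ν l)) ν x := by simpa using hx.conj
  have h2 : x ∈ Subgroup.normalizer (inJ hj ν : Set X) := by
    have key : ∀ y, InvBy j ν (fun l => conj (ν l)) y → InvBy j (fun l => conj (ν l)) ν y →
        ∀ t ∈ inJ hj ν, y * t * y⁻¹ ∈ inJ hj ν := fun y h1 h2 t ht =>
      (mem_inJ hj).2 ((h1.trans ((mem_inJ hj).1 ht).conj).trans (h1.symm))
    rw [Subgroup.mem_normalizer_iff]
    refine fun t => ⟨key x hx hx' t, fun ht => ?_⟩
    have := key x⁻¹ (hx'.symm) (hx.symm) _ ht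
    rwa [show x⁻¹ * (x * t * x⁻¹) * x⁻¹⁻¹ = t by group] at this
  letI := Fintype.ofFinite (Subgroup.normalizer (inJ hj ν : Set X))
  have h3 : (⟨x, h2⟩ : Subgroup.normalizer (inJ hj ν : Set X)) ∈
      (inJ hj ν).subgroupOf (Subgroup.normalizer (inJ hj ν : Set X)) := by
    refine mem_of_mul_self_mem_of_odd ?_ ((mem_inJ hj).2 (hx.trans hx'))
    refine Nat.not_even_iff_odd.1 fun he => h.not_dvd_index hj hχ hν hd ?_
    exact (even_iff_two_dvd.1 he).trans (Subgroup.relIndex_dvd_index_of_le Subgroup.le_normalizer)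
  exact real_iff.2 (hx.unique hj ((mem_inJ hj).1 h3))

theorem exists_real_ext (hj : Function.Injective j) [j.range.Normal] (hodd : Odd j.range.index)
    {ν : L → ℂ} (hν : IsIrrCharacter L ν) (hr : IsReal ν) (hinv : ∀ x, InvBy j ν ν x) :
    ∃ θ, IsIrrCharacter X θ ∧ IsReal θ ∧ (∀ l, θ (j l) = ν l) ∧
      ∀ θ', IsIrrCharacter X θ' → IsReal θ' → Ov j θ' ν → θ' = θ := by
  classical
  letI := Fintype.ofFinite X
  letI := Fintype.ofFinite L
  letI := Fintype.ofFinite j.range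
  have hr' : IsReal (tr j hj ν) := fun n => by
    obtain ⟨l, hl⟩ := n.2
    rw [tr_of_eq hj ν n l hl]
    exact hr l
  obtain ⟨θ, hθ⟩ := Finset.card_eq_one.1 (card_real_over_of_odd hodd (tr_irr hj hν) hr')
  have h1 : ∀ χ : IrrCharacter X, Over j.range χ.1 (tr j hj ν) ∧ IsReal χ.1 ↔ χ = θ := fun χ => by
    rw [← Finset.mem_singleton, ← hθ]
    simp
  obtain ⟨h2, h3⟩ := (h1 θ).2 rfl
  refine ⟨θ.1, θ.2, h3, ?_, fun θ' h4 h5 h6 =>
    congrArg Subtype.val ((h1 ⟨θ', h4⟩).1 ⟨(ov_tr hj).2 h6, h5⟩)⟩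
  obtain ⟨e, -, -, h4⟩ := ((ov_tr hj).1 h2).res_eq hj θ.2 hν hinv
  have h5 := nu_eq_sum_inner (H7.isClassFunction_indFun j.range (tr j hj ν))
  rw [nu_indFun_of_odd hodd, Finset.sum_eq_single θ] at h5
  · have h6 : (fun n : j.range => θ.1 n) = (e : ℂ) • tr j hj ν := funext fun n => by
      obtain ⟨l, hl⟩ := n.2
      rw [Pi.smul_apply, tr_of_eq hj ν n l hl, ← hl, h4, smul_eq_mul]
    rw [H7.classInner_indFun_left _ _ (H6.irr_isClassFunction θ.2), h6, H6.classInner_smul_right,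
      H6.irr_inner_self (tr_irr hj hν), mul_one, map_natCast] at h5
    have h7 : ‖nu (tr j hj ν)‖ = 1 := by
      rcases nu_of_isReal (tr_irr hj hν) hr' with h | h <;> simp [h]
    have h8 : ‖nu θ.1‖ = 1 := by
      rcases nu_of_isReal θ.2 h3 with h | h <;> simp [h]
    rw [h5, norm_mul, h8, mul_one, Complex.norm_natCast, Nat.cast_eq_one] at h7
    intro l
    rw [h4, h7, Nat.cast_one, one_mul]
  · intro χ _ hne
    by_cases hχ : IsReal χ.1
    · rw [H7.classInner_indFun_left _ _ (H6.irr_isClassFunction χ.2),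
        H6.classInner_eq_zero_comm.1 (not_not.1 fun h => hne ((h1 χ).1 ⟨over_iff.2 h, hχ⟩)),
        zero_mul]
    · rw [nu_eq_zero_of_not_isReal χ.2 hχ, mul_zero]
  · simp

theorem inner_extend [Fintype L] [Fintype X] (hj : Function.Injective j) (ν : L → ℂ) (f : X → ℂ) :
    classInner ((j.range.index : ℂ) • Function.extend j ν 0) f = classInner ν fun l => f (j l) := by
  classical
  have h1 : ∑ x, Function.extend j ν 0 x * conj (f x) = ∑ l, ν l * conj (f (j l)) := by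
    rw [← Finset.sum_subset (Finset.subset_univ (Finset.univ.map ⟨j, hj⟩)), Finset.sum_map]
    · exact Finset.sum_congr rfl fun l _ => by simp [hj.extend_apply]
    · intro x _ hx
      rw [Function.extend_apply' _ _ _ (by simpa using hx), Pi.zero_apply, zero_mul]
  have h2 := j.range.index_mul_card
  rw [← Nat.card_congr (MonoidHom.ofInjective hj).toEquiv] at h2
  have h3 : (j.range.index : ℂ) ≠ 0 := Nat.cast_ne_zero.2 Subgroup.index_ne_zero_of_finite
  have h4 : (Nat.card L : ℂ) ≠ 0 := H6.card_ne_zero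
  rw [H6.classInner_smul_left, H6.classInner_def, H6.classInner_def, h1, ← h2]
  push_cast
  field_simp

theorem isClassFunction_extend (hj : Function.Injective j) [hn : j.range.Normal] {ν : L → ℂ}
    (hinv : ∀ x, InvBy j ν ν x) : IsClassFunction X (Function.extend j ν 0) := by
  intro g x
  by_cases hg : g ∈ j.range
  · obtain ⟨l, rfl⟩ := hg
    obtain ⟨l', hl⟩ := hn.conj_mem _ (mem_rng j l) x
    rw [← hl, hj.extend_apply, hj.extend_apply, hinv x l l' hl]
  · rw [Function.extend_apply' _ _ _ hg, Function.extend_apply']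
    · rfl
    · intro h
      refine hg ?_
      simpa [mul_assoc] using hn.conj_mem _ h x⁻¹

/-- The restriction lemma. -/
theorem res_bij {N C : Type*} [Group N] [Group C] [Finite N] [Finite C]
    (hj : Function.Injective j) [j.range.Normal] {i : N →* X} {c : C →* N}
    (hc : Function.Injective c) {d : C →* L} (hd : ∀ z, i (c z) = j (d z))
    (cap : ∀ n, i n ∈ j.range → n ∈ c.range) (sup : ∀ x, ∃ l n, x = j l * i n) {θ : L → ℂ}
    (hθ : IsIrrCharacter L θ) (hinv : ∀ x, InvBy j θ θ x)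
    (hθ' : IsIrrCharacter C fun z => θ (d z)) :
    (∀ χ, IsIrrCharacter X χ → Ov j χ θ → IsIrrCharacter N fun n => χ (i n)) ∧
    (∀ χ χ', IsIrrCharacter X χ → Ov j χ θ → IsIrrCharacter X χ' → Ov j χ' θ →
      (∀ n, χ (i n) = χ' (i n)) → χ = χ') ∧
    ∀ ψ, IsIrrCharacter N ψ → Ov c ψ (fun z => θ (d z)) →
      ∃ χ, IsIrrCharacter X χ ∧ Ov j χ θ ∧ ∀ n, χ (i n) = ψ n := by
  classical
  letI := Fintype.ofFinite X
  letI := Fintype.ofFinite L
  letI := Fintype.ofFinite N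
  letI := Fintype.ofFinite C
  have hcr : c.range = j.range.comap i := by
    ext n
    exact ⟨fun ⟨z, hz⟩ => ⟨d z, by rw [← hd, hz]⟩, cap n⟩
  have hidx : c.range.index = j.range.index := by
    rw [hcr, Subgroup.index_comap, ← Subgroup.relIndex_sup_right, ← Subgroup.relIndex_top_right]
    congr 1
    refine top_unique fun x _ => ?_
    obtain ⟨l, n, rfl⟩ := sup x
    exact Subgroup.mul_mem _ (Subgroup.mem_sup_right (mem_rng j l))
      (Subgroup.mem_sup_left (mem_rng i n))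
  set Θ := (j.range.index : ℂ) • Function.extend j θ 0 with hΘ
  have hΘi : (fun n => Θ (i n)) = (c.range.index : ℂ) • Function.extend c (fun z => θ (d z)) 0 := by
    funext n
    rw [hidx, hΘ, Pi.smul_apply, Pi.smul_apply]
    congr 1
    by_cases hn : n ∈ c.range
    · obtain ⟨z, rfl⟩ := hn
      rw [hd, hj.extend_apply, hc.extend_apply]
    · rw [Function.extend_apply' _ _ _ hn, Function.extend_apply' _ _ _ fun h => hn (cap n h)]
      rfl
  choose m hm using fun χ : IrrCharacter X => H6.char_inner_nat (H6.irr_isCharacter hθ)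
    (H6.isCharacter_comp j (H6.irr_isCharacter χ.2))
  have hm0 : ∀ χ : IrrCharacter X, m χ ≠ 0 ↔ Ov j χ.1 θ := fun χ => by
    rw [ov_iff, Ne, Ne, H6.classInner_eq_zero_comm, hm, Nat.cast_eq_zero]
  have hsum : Θ = ∑ χ : IrrCharacter X, (m χ : ℂ) • χ.1 := by
    refine (H6.classFun_eq_sum_irr (H6.isClassFunction_smul _
      (isClassFunction_extend hj hinv))).trans ?_
    simp only [inner_extend hj, hm]
  have hsum' : (fun n => Θ (i n)) = ∑ χ : IrrCharacter X, (m χ : ℂ) • fun n => χ.1 (i n) := by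
    funext n
    rw [hsum]
    simp
  have n1 : classInner Θ Θ = j.range.index := by
    rw [hΘ, inner_extend hj]
    have : (fun l => ((j.range.index : ℂ) • Function.extend j θ 0) (j l)) =
        (j.range.index : ℂ) • θ := funext fun l => by simp [hj.extend_apply]
    rw [this, H6.classInner_smul_right, H6.irr_inner_self hθ, mul_one, map_natCast]
  have n2 : classInner (fun n => Θ (i n)) (fun n => Θ (i n)) = j.range.index := by
    rw [hΘi, inner_extend hc]
    have : (fun l => ((c.range.index : ℂ) • Function.extend c (fun z => θ (d z)) 0) (c l)) =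
        (c.range.index : ℂ) • fun z => θ (d z) := funext fun l => by simp [hc.extend_apply]
    rw [this, H6.classInner_smul_right, H6.irr_inner_self hθ', mul_one, map_natCast, hidx]
  have n3 : classInner Θ Θ = ((∑ χ, m χ * m χ : ℕ) : ℂ) := by
    have := H6.inner_sum_irr_int (fun χ => (m χ : ℤ)) (fun χ => (m χ : ℤ))
    push_cast at this ⊢
    rw [← this, ← hsum]
  obtain ⟨h1, h2⟩ := H31.orthonormal_of_norm_eq m (fun χ : IrrCharacter X => fun n => χ.1 (i n))
    (fun χ => H6.isCharacter_comp i (H6.irr_isCharacter χ.2))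
    (fun χ _ h0 => H6.irr_one_ne_zero χ.2 (by simpa using congrFun h0 1))
    (by rw [← hsum', n2, ← n1, n3])
  refine ⟨fun χ h3 h4 => h1 ⟨χ, h3⟩ ((hm0 _).2 h4), fun χ χ' h3 h4 h5 h6 h7 => ?_,
    fun ψ h3 h4 => ?_⟩
  · by_contra hne
    exact h2 ⟨χ, h3⟩ ⟨χ', h5⟩ ((hm0 _).2 h4) ((hm0 _).2 h6) (fun h => hne (congrArg Subtype.val h))
      (funext h7)
  · have h5 : classInner (fun n => Θ (i n)) ψ ≠ 0 := by
      rw [hΘi, inner_extend hc, Ne, H6.classInner_eq_zero_comm]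
      exact ov_iff.1 h4
    rw [hsum', H6.classInner_sum_left] at h5
    obtain ⟨χ, -, h6⟩ := Finset.exists_ne_zero_of_sum_ne_zero h5
    rw [H6.classInner_smul_left] at h6
    have h7 : m χ ≠ 0 := by exact_mod_cast left_ne_zero_of_mul h6
    exact ⟨χ.1, χ.2, (hm0 χ).1 h7, congrFun
      (H6.irr_eq_of_inner_ne_zero (h1 χ h7) h3 (right_ne_zero_of_mul h6))⟩

end Ch

end H85
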