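import Mathlib
import Cfsg.Agent.Lib.H85.Mid
import Cfsg.Agent.Lib.Core.PCore
import Cfsg.Agent.Lib.Core.Hall

/-! The McKay count over a central character when `O_{p'}(G) S` is normal. -/

set_option autoImplicit false
set_option linter.unusedSectionVars false
set_option linter.style.haveILetI false

namespace H85

open Cfsg H87 Subgroup
open scoped ComplexConjugate commutatorElement

universe u v w

variable {G N : Type u} [Group G] [Finite G] [Group N] [Finite N] {p : ℕ} [hp : Fact p.Prime]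

/-- `K` normal `p'`, `M = K S` normal, `N` the normalizer of `S`. -/
structure FD (S : Sylow p G) (K M : Subgroup G) (i : N →* G) (s' : S →* M.comap i) : Prop where
  nK : K.Normal
  nM : M.Normal
  nd : ¬ p ∣ Nat.card K
  KM : K ≤ M
  SM : (S : Subgroup G) ≤ M
  sup : ∀ x ∈ M, ∃ k ∈ K, ∃ t ∈ (S : Subgroup G), x = k * t
  inj : Function.Injective i
  rng : ∀ x, x ∈ i.range ↔ x ∈ normalizer ((S : Subgroup G) : Set G)
  hs : ∀ t, i (s' t) = t

variable {S : Sylow p G} {K M : Subgroup G} {i : N →* G} {s' : S →* M.comap i}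

theorem subgroupComap_inj {A B : Type*} [Group A] [Group B] {i : A →* B}
    (hi : Function.Injective i) (K : Subgroup B) : Function.Injective (i.subgroupComap K) :=
  fun _ _ h => Subtype.ext (hi (congrArg Subtype.val h))

theorem FD.shp (h : FD S K M i s') : Shp p (inclusion h.KM) (inclusion h.SM) where
  a_inj := inclusion_injective _
  s_inj := inclusion_injective _
  normal := by rw [inclusion_range]; exact h.nK.subgroupOf M
  nd := h.nd
  pg := S.isPGroup'
  sup := fun x => by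
    obtain ⟨k, hk, t, ht, e⟩ := h.sup x x.2
    exact ⟨⟨k, hk⟩, ⟨t, ht⟩, Subtype.ext e⟩

theorem FD.shp' (h : FD S K M i s') : Shp p (inclusion (comap_mono (f := i) h.KM)) s' where
  a_inj := inclusion_injective _
  s_inj := fun t t' e => Subtype.ext (by rw [← h.hs, ← h.hs, e])
  normal := by rw [inclusion_range]; exact (h.nK.comap i).subgroupOf _
  nd := fun hd => h.nd (hd.trans (card_dvd_of_injective _ (subgroupComap_inj h.inj K)))
  pg := S.isPGroup'
  sup := fun x => by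
    obtain ⟨k, hk, t, ht, e⟩ := h.sup _ x.2
    refine ⟨⟨x * (s' ⟨t, ht⟩)⁻¹, ?_⟩, ⟨t, ht⟩, Subtype.ext (by simp)⟩
    rw [mem_comap, map_mul, coe_inv, map_inv, h.hs, e, mul_inv_cancel_right]
    exact hk

theorem FD.glH (h : FD S K M i s') : GlH p (S : Subgroup G) K.subtype (i.subgroupComap K) where
  pg := S.isPGroup'
  nd := h.nd
  g_inj := K.subtype_injective
  inj := subgroupComap_inj h.inj K
  norm := fun s _ d => ⟨⟨_, h.nK.conj_mem _ d.2 s⟩, rfl⟩
  fix := fun d => by
    constructor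
    · rintro ⟨z, rfl⟩
      rw [mem_centralizer_iff]
      intro t ht
      have h1 : (t : G) * (i z * t⁻¹ * (i z)⁻¹) ∈ (S : Subgroup G) :=
        mul_mem ht ((mem_normalizer_iff.1 ((h.rng _).1 (mem_rng i z)) _).1 (inv_mem ht))
      have h2 : (t : G) * (i z * t⁻¹ * (i z)⁻¹) ∈ K := by
        have := mul_mem (h.nK.conj_mem _ z.2 t) (inv_mem z.2)
        rwa [show t * i z * t⁻¹ * (i z)⁻¹ = t * (i z * t⁻¹ * (i z)⁻¹) by group] at this
      have h3 := congrArg Subtype.val
        (eq_one_of_pgroup S.isPGroup' h.nd K.subtype_injective (x := ⟨_, h2⟩) h1)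
      show t * i z = i z * t
      calc t * i z = t * (i z * t⁻¹ * (i z)⁻¹) * (i z * t) := by group
        _ = _ := by rw [show t * (i z * t⁻¹ * (i z)⁻¹) = 1 from h3, one_mul]
    · intro hd
      obtain ⟨n, hn⟩ := (h.rng _).2 (centralizer_le_normalizer _ hd)
      exact ⟨⟨n, by rw [mem_comap, hn]; exact d.2⟩, Subtype.ext hn⟩

/-- The correspondence between `p'`-degree characters of `M` and of `M ∩ N`. -/
def FD.Rel (h : FD S K M i s') (η : M → ℂ) (η' : M.comap i → ℂ) : Prop :=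
  ∃ θ β μ, IsIrrCharacter K θ ∧ IsIrrCharacter (K.comap i) β ∧
    Typ (inclusion h.KM) (inclusion h.SM) η θ μ ∧
    Typ (inclusion (comap_mono (f := i) h.KM)) s' η' β μ ∧
    Cor p (fun z => θ (i.subgroupComap K z)) β

theorem FD.pInv (h : FD S K M i s') {η : M → ℂ} (hη : IsIrrCharacter M η) {θ : K → ℂ}
    (h1 : ∀ k, η (inclusion h.KM k) = θ k) : PInv (S : Subgroup G) K.subtype θ := fun t ht =>
  (invBy_comp (f := M.subtype) M.subtype_injective (j := inclusion h.KM) (fun _ => rfl)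
    (x := ⟨t, h.SM ht⟩)).2 (Ext.invBy ⟨η, hη, h1⟩ _)

theorem FD.exists_right (h : FD S K M i s') {η : M → ℂ} (hη : IsIrrCharacter M η)
    (hd : ¬ p ∣ charDegree η) : ∃ η', IsIrrCharacter _ η' ∧ h.Rel η η' := by
  obtain ⟨θ, μ, h1, h2⟩ := h.shp.exists_typ_of hη hd
  obtain ⟨β, h3, h4⟩ := h.glH.exists_right h1 (h.pInv hη h2.1)
  obtain ⟨η', h5, h6⟩ := h.shp'.exists_typ h3 (fun x => by
    obtain ⟨k, t, rfl⟩ := h.shp'.sup x
    intro l l' hl
    have e := mem_centralizer_iff.1 ((h.glH.fix _).1 (mem_rng _ l)) t t.2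
    have e' : l' = k * l * k⁻¹ := by
      apply Subtype.ext
      apply h.inj
      have := congrArg (fun y : M.comap i => i y) hl
      simp only [coe_inclusion, coe_mul, map_mul, coe_inv, map_inv, h.hs] at this ⊢
      rw [this]
      have e2 : (t : G) * i l = i l * t := e
      calc _ = i k * (t * i l) * (t : G)⁻¹ * (i k)⁻¹ := by group
        _ = _ := by rw [e2]; group
    rw [e', H6.irr_isClassFunction h3]) μ
  exact ⟨η', h5, θ, β, μ, h1, h3, h2, h6, h4⟩

theorem FD.exists_left (h : FD S K M i s') {η' : M.comap i → ℂ} (hη : IsIrrCharacter _ η')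
    (hd : ¬ p ∣ charDegree η') : ∃ η, IsIrrCharacter _ η ∧ h.Rel η η' := by
  obtain ⟨β, μ, h1, h2⟩ := h.shp'.exists_typ_of hη hd
  obtain ⟨θ, h3, h4, h5⟩ := h.glH.exists_left h1
  haveI := h.shp.normal
  obtain ⟨η, h6, h7⟩ := h.shp.exists_typ h3 (fun x => by
    obtain ⟨k, t, rfl⟩ := h.shp.sup x
    refine InvBy.trans ((mem_inJ h.shp.a_inj).1 (range_le_inJ h.shp.a_inj h3 (mem_rng _ k))) ?_
    exact (invBy_comp (f := M.subtype) M.subtype_injective (j := inclusion h.KM) (fun _ => rfl)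
      (x := inclusion h.SM t)).1 (h4 t t.2)) μ
  exact ⟨η, h6, θ, β, μ, h3, h1, h7, h2, h5⟩

theorem FD.Rel.not_dvd {h : FD S K M i s'} {η : M → ℂ} {η' : M.comap i → ℂ} (r : h.Rel η η') :
    ¬ p ∣ charDegree η ∧ ¬ p ∣ charDegree η' := by
  obtain ⟨θ, β, μ, h1, h2, h3, h4, -⟩ := r
  rw [h3.deg, h4.deg]
  exact ⟨h.shp.not_dvd_deg h1, h.shp'.not_dvd_deg h2⟩

theorem FD.invBy_iff (h : FD S K M i s') {η₁ η₂ : M → ℂ} {η₁' η₂' : M.comap i → ℂ}
    (h1 : IsIrrCharacter _ η₁) (h1' : IsIrrCharacter _ η₁') (h2 : IsIrrCharacter _ η₂)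
    (h2' : IsIrrCharacter _ η₂') (r1 : h.Rel η₁ η₁') (r2 : h.Rel η₂ η₂') (y : N) :
    InvBy M.subtype η₁ η₂ (i y) ↔ InvBy (M.comap i).subtype η₁' η₂' y := by
  obtain ⟨θ₁, β₁, μ₁, a1, a2, a3, a4, a5⟩ := r1
  obtain ⟨θ₂, β₂, μ₂, b1, b2, b3, b4, b5⟩ := r2
  have hy := (h.rng _).1 (mem_rng i y)
  have hK : ∀ k : K, ∃ k' : K, K.subtype k' = i y * K.subtype k * (i y)⁻¹ := fun k =>
    ⟨⟨_, h.nK.conj_mem _ k.2 _⟩, rfl⟩
  have hS : ∀ t : S, ∃ t' : S, (S : Subgroup G).subtype t' =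
      i y * (S : Subgroup G).subtype t * (i y)⁻¹ := fun t =>
    ⟨⟨_, (mem_normalizer_iff.1 hy _).1 t.2⟩, rfl⟩
  rw [h.shp.invBy_iff M.subtype_injective (ma := K.subtype) (fun _ => rfl)
    (ms := (S : Subgroup G).subtype) (fun _ => rfl) hK hS h1 h2 a1 b1 a3 b3,
    h.glH.invBy_iff hy hK a1 b1 (h.pInv h1 a3.1) (h.pInv h2 b3.1) a2 b2 a5 b5,
    ← invBy_comp h.inj (g := i.comp (M.comap i).subtype) (fun _ => rfl),
    h.shp'.invBy_iff (m := i.comp (M.comap i).subtype) (h.inj.comp (subtype_injective _))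
      (ma := K.subtype.comp (i.subgroupComap K)) (fun _ => rfl)
      (ms := (S : Subgroup G).subtype) h.hs (h.glH.norm_fix hy hK) hS h1' h2' a2 b2 a4 b4]

theorem FD.frat (h : FD S K M i s') (x : G) : ∃ n, ∃ y ∈ M, x = i n * y := by
  haveI := h.nM
  obtain ⟨n, hn, y, hy, e⟩ := frattini_mul S h.SM x
  obtain ⟨n, rfl⟩ := (h.rng _).2 hn
  exact ⟨n, y, hy, e⟩

theorem invBy_mul_of_mem {X : Type*} [Group X] [Finite X] {M : Subgroup X} [M.Normal]
    {η η' : M → ℂ} (hη' : IsIrrCharacter M η') {x y : X} (hy : y ∈ M) :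
    InvBy M.subtype η η' (x * y) ↔ InvBy M.subtype η η' x := by
  haveI : M.subtype.range.Normal := by rwa [range_subtype]
  have h1 : InvBy M.subtype η' η' y := (mem_inJ M.subtype_injective).1
    (range_le_inJ M.subtype_injective hη' (mem_rng M.subtype ⟨y, hy⟩))
  exact ⟨fun h => by simpa using h.trans h1.symm, fun h => h.trans h1⟩

theorem FD.central (h : FD S K M i s') {Z : Type*} [Group Z] [Finite Z] {z : Z →* M}
    (hz : ∀ w, (z w : G) ∈ center G) {z' : Z →* M.comap i} (hz' : ∀ w, i (z' w) = z w)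
    {η : M → ℂ} {η' : M.comap i → ℂ} (h1 : IsIrrCharacter _ η) (h1' : IsIrrCharacter _ η')
    (r : h.Rel η η') (lam : Z →* ℂˣ) :
    Ov z η (fun w => lam w) ↔ Ov z' η' (fun w => lam w) := by
  have c1 : ∀ w, z w ∈ center M := fun w =>
    mem_center_iff.2 fun g => Subtype.ext (mem_center_iff.1 (hz w) g)
  have c2 : ∀ w, z' w ∈ center (M.comap i) := fun w =>
    mem_center_iff.2 fun g => Subtype.ext (h.inj (by
      simp only [coe_mul, map_mul, hz']; exact mem_center_iff.1 (hz w) _))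
  obtain ⟨ω, hω⟩ := exists_central_hom c1 h1
  obtain ⟨ω', hω'⟩ := exists_central_hom c2 h1'
  obtain ⟨d1, d2⟩ := r.not_dvd
  obtain ⟨θ, β, μ, a1, a2, a3, a4, a5⟩ := r
  have e : ω = ω' := by
    refine hom_ext_of_parts p (fun w k hw => ?_) fun w m hm hw => ?_
    · have hw' : (z w : G) ^ p ^ k = 1 := by rw [← coe_pow, ← map_pow, hw, map_one, coe_one]
      have ht : (z w : G) ∈ (S : Subgroup G) := by
        haveI : (zpowers (z w : G)).Normal := ⟨fun n hn g => by
          rwa [mem_center_iff.1 (zpowers_le.2 (hz w) hn) g, mul_inv_cancel_right]⟩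
        refine IsPGroup.le_sylow_of_normal (N := zpowers (z w : G)) ?_ S (mem_zpowers _)
        rintro ⟨_, n, rfl⟩
        refine ⟨k, Subtype.ext ?_⟩
        show ((z w : G) ^ n) ^ p ^ k = 1
        rw [← zpow_natCast, ← zpow_mul, mul_comm, zpow_mul, zpow_natCast, hw', one_zpow]
      have e1 : z w = inclusion h.SM ⟨_, ht⟩ := rfl
      have e2 : z' w = s' ⟨_, ht⟩ := Subtype.ext (h.inj (by rw [hz', h.hs]))
      have f1 := det_of_scalar (H6.irr_isCharacter h1) (norm_hom_one ω w) (hω w)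
      have f2 := det_of_scalar (H6.irr_isCharacter h1') (norm_hom_one ω' w) (hω' w)
      rw [e1, a3.2, ← a3.deg] at f1
      rw [e2, a4.2, ← a4.deg] at f2
      have key : ∀ (o : Z →* ℂˣ) (d : ℕ), ¬ p ∣ d → μ ⟨_, ht⟩ ^ d = o w ^ d → o w = μ ⟨_, ht⟩ := by
        intro o d hd e
        rw [← mul_inv_eq_one, ← orderOf_eq_one_iff]
        refine Nat.eq_one_of_dvd_coprimes (Nat.Coprime.pow_left k
          ((Nat.Prime.coprime_iff_not_dvd hp.out).2 hd)) (orderOf_dvd_of_pow_eq_one ?_)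
          (orderOf_dvd_of_pow_eq_one ?_)
        · have : (⟨_, ht⟩ : S) ^ p ^ k = 1 := Subtype.ext hw'
          rw [mul_pow, inv_pow, ← map_pow, ← map_pow, hw, this, map_one, map_one, mul_inv_cancel]
        · rw [mul_pow, inv_pow, e, mul_inv_cancel]
      rw [key ω _ d1 f1, key ω' _ d2 f2]
    · obtain ⟨k, hk⟩ := h.shp'.mem_range (x := z' w) hm (by rw [← map_pow, hw, map_one])
      have e1 : z w = inclusion h.KM (i.subgroupComap K k) := Subtype.ext (by
        rw [← hz', ← hk]; rfl)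
      have f1 : θ (i.subgroupComap K k) = θ 1 * ω w := by
        rw [← a3.1, ← a3.1, map_one, ← e1, hω]
      have f2 := (a5.ov (H6.irr_isCharacter a1) (H6.irr_isCharacter a2)).scalar
        (H6.irr_isCharacter a1) a2 (norm_hom_one ω w) f1
      have f3 : β k = β 1 * ω' w := by rw [← a4.1, ← a4.1, map_one, hk, hω']
      exact Units.ext (mul_left_cancel₀ (H6.irr_one_ne_zero a2) (f2.symm.trans f3))
  subst e
  rw [ov_central_iff c1 h1, ov_central_iff c2 h1']
  simp only [hω, hω', mul_right_inj' (H6.irr_one_ne_zero h1),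
    mul_right_inj' (H6.irr_one_ne_zero h1')]

theorem commutator_le_of_closure {Q : Type*} [Group Q] {a c : Q} (h : Commute a c) {x y : Q}
    (hx : x ∈ closure ({a, c} : Set Q)) (hy : y ∈ closure ({a, c} : Set Q)) : Commute x y := by
  have := (Subgroup.isMulCommutative_closure (k := {a, c}) (by
    rintro _ (rfl | rfl) _ (rfl | rfl)
    exacts [rfl, h, h.symm, rfl])).is_comm.comm ⟨x, hx⟩ ⟨y, hy⟩
  exact congrArg Subtype.val this

theorem FD.exists_compl (h : FD S K M i s') {U : Subgroup G} (hU : M ≤ U)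
    (hi : ¬ p ∣ M.relIndex U) : ∃ A : Subgroup G, A ≤ U ∧ A ≤ i.range ∧ ¬ p ∣ Nat.card A ∧
      ∀ x ∈ U, x ∈ i.range → ∃ t ∈ (S : Subgroup G), ∃ a ∈ A, x = t * a := by
  have hS : (S : Subgroup G) ≤ U ⊓ i.range :=
    le_inf (h.SM.trans hU) fun t ht => (h.rng t).2 (le_normalizer ht)
  let S1 := S.subtype hS
  haveI : (S1 : Subgroup (U ⊓ i.range : Subgroup G)).Normal := ⟨fun n hn g =>
    (mem_normalizer_iff.1 ((h.rng _).1 g.2.2) _).1 hn⟩
  obtain ⟨A, hA⟩ := exists_right_complement'_of_coprime S1.card_coprime_index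
  refine ⟨A.map (U ⊓ i.range).subtype, (map_subtype_le _).trans inf_le_left,
    (map_subtype_le _).trans inf_le_right, ?_, fun x h1 h2 => ?_⟩
  · rw [card_map_of_injective (subtype_injective _), ← hA.symm.index_eq_card]
    exact S1.not_dvd_index
  · obtain ⟨⟨t, a⟩, e⟩ := hA.2 ⟨x, h1, h2⟩
    exact ⟨_, t.2, _, ⟨a, a.2, rfl⟩, (congrArg Subtype.val e).symm⟩

theorem FD.ext_iff (h : FD S K M i s') {η : M → ℂ} {η' : M.comap i → ℂ}
    (h1 : IsIrrCharacter _ η) (h1' : IsIrrCharacter _ η') (r : h.Rel η η') {U : Subgroup G}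
    (hU : M ≤ U) (hc : ∀ x ∈ U, ∀ y ∈ U, ⁅x, y⁆ ∈ M) :
    Ext (inclusion hU) η ↔ Ext (inclusion (comap_mono (f := i) hU)) η' := by
  haveI := h.nK
  haveI := h.nM
  have hi : ¬ p ∣ M.relIndex U := fun hd =>
    not_dvd_index_of_sylow_le S h.SM (hd.trans (relIndex_dvd_index_of_normal M U))
  obtain ⟨A, a1, a2, a3, a4⟩ := h.exists_compl hU hi
  have hX : A ⊔ K ≤ U := sup_le a1 (h.KM.trans hU)
  have hXp : ¬ p ∣ Nat.card (A ⊔ K : Subgroup G) := fun hd =>
    Nat.Prime.not_dvd_mul hp.out a3 h.nd (hd.trans (H1.card_sup_dvd_of_normal A K))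
  have hinv := h.invBy_iff h1 h1' h1 h1' r r
  obtain ⟨θ, β, μ, b1, b2, b3, b4, b5⟩ := r
  haveI : (inclusion hU).range.Normal := by rw [inclusion_range]; infer_instance
  haveI : (inclusion (h.KM.trans hU)).range.Normal := by rw [inclusion_range]; infer_instance
  haveI : (inclusion (comap_mono (f := i) hU)).range.Normal := by
    rw [inclusion_range]; infer_instance
  haveI : (inclusion (comap_mono (f := i) (h.KM.trans hU))).range.Normal := by
    rw [inclusion_range]; infer_instance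
  rw [h.shp.ext_iff (inclusion_injective hU) (by rwa [inclusion_range])
    (aU := inclusion (h.KM.trans hU)) (fun _ => rfl) (inclusion_injective hX)
    (aX := inclusion le_sup_right) (fun _ => rfl) ?_ h1 b1 b3.1,
    h.shp'.ext_iff (inclusion_injective (comap_mono (f := i) hU)) ?_
    (aU := inclusion (comap_mono (h.KM.trans hU))) (fun _ => rfl)
    (inclusion_injective (comap_mono hX))
    (aX := inclusion (comap_mono le_sup_right)) (fun _ => rfl) ?_ h1' b2 b4.1]
  · refine and_congr ⟨fun e y => ?_, fun e y => ?_⟩ ?_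
    · rw [← invBy_comp (subtype_injective _) (g := (M.comap i).subtype) (fun _ => rfl),
        coe_subtype, ← hinv]
      exact (invBy_comp (subtype_injective U) (g := M.subtype) (fun _ => rfl)
        (x := ⟨i y, y.2⟩)).2 (e _)
    · obtain ⟨n, x, hx, e1⟩ := h.frat y
      have hn : n ∈ U.comap i := by
        rw [mem_comap, eq_mul_inv_of_mul_eq e1.symm]
        exact mul_mem y.2 (inv_mem (hU hx))
      rw [← invBy_comp (subtype_injective _) (g := M.subtype) (fun _ => rfl), coe_subtype, e1,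
        invBy_mul_of_mem h1 hx, hinv]
      exact (invBy_comp (subtype_injective _) (g := (M.comap i).subtype) (fun _ => rfl)
        (x := ⟨n, hn⟩)).2 (e _)
    · refine OWD.ext_iff (p := p) (P := (S : Subgroup G)) (f := (A ⊔ K).subtype)
        (i := i.subgroupComap (A ⊔ K)) (c := i.subgroupComap K)
        ⟨S.isPGroup', hXp, subtype_injective _, inclusion_injective _, subgroupComap_inj h.inj _,
          subgroupComap_inj h.inj _, ?_, fun s _ d => ⟨⟨_, h.nK.conj_mem _ d.2 s⟩, rfl⟩,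
          fun x => ?_, fun x => ?_, fun _ => rfl, fun k hk => ?_⟩ b1 (h.pInv h1 b3.1) b2 b5
      · have e : commutator (A ⊔ K : Subgroup G) ≤ M.subgroupOf (A ⊔ K) :=
          commutator_le.2 fun x _ y _ => hc _ (hX x.2) _ (hX y.2)
        intro x hx
        obtain ⟨k, hk⟩ := h.shp.mem_range (x := ⟨x, e hx⟩) hXp (Subtype.ext (by
          show (x : G) ^ _ = 1
          rw [← coe_pow, pow_card_eq_one', coe_one]))
        exact ⟨k, Subtype.ext (congrArg Subtype.val hk :)⟩
      · rw [← h.rng]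
        exact ⟨fun ⟨y, hy⟩ => ⟨y, congrArg Subtype.val hy⟩, fun ⟨y, hy⟩ =>
          ⟨⟨y, by rw [mem_comap, hy]; exact x.2⟩, Subtype.ext hy⟩⟩
      · obtain ⟨k, hk, a, ha, e⟩ := mem_sup_of_normal_left.1 ((sup_comm A K).le x.2)
        obtain ⟨n, rfl⟩ := a2 ha
        exact ⟨⟨k, hk⟩, ⟨n, mem_sup_left ha⟩, Subtype.ext e.symm⟩
      · obtain ⟨y, hy⟩ := hk
        have e : i y = k := congrArg Subtype.val hy
        exact ⟨⟨y, by rw [mem_comap, e]; exact k.2⟩, Subtype.ext e⟩
  · rw [inclusion_range]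
    refine fun hd => hi (hd.trans ?_)
    show (M.comap i).relIndex (U.comap i) ∣ _
    rw [relIndex_comap]
    haveI : (M.subgroupOf U).Normal := inferInstance
    rw [← relIndex_subgroupOf (map_comap_le i U)]
    exact relIndex_dvd_index_of_normal _ _
  · refine top_unique fun y _ => ?_
    obtain ⟨t, ht, a, ha, e⟩ := a4 _ y.2 (mem_rng i y)
    obtain ⟨n, rfl⟩ := a2 ha
    have e' : y = inclusion (comap_mono hU) (s' ⟨t, ht⟩) *
        inclusion (comap_mono hX) ⟨n, mem_sup_left ha⟩ :=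
      Subtype.ext (h.inj (by rw [e, coe_mul, map_mul, coe_inclusion, h.hs]; rfl))
    rw [e']
    exact mul_mem (mem_sup_right (mem_rng _ _)) (mem_sup_left (mem_rng _ _))
  · refine top_unique fun y _ => ?_
    obtain ⟨n, x, hx, e1⟩ := h.frat y
    obtain ⟨t, ht, a, ha, e⟩ := a4 (i n) (by
      rw [eq_mul_inv_of_mul_eq e1.symm]
      exact mul_mem y.2 (inv_mem (hU hx))) (mem_rng i n)
    have e' : y = inclusion hU ⟨t, h.SM ht⟩ * inclusion hX ⟨a, mem_sup_left ha⟩ *
        inclusion hU ⟨x, hx⟩ := Subtype.ext (by rw [e1, e]; rfl)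
    rw [e']
    exact mul_mem (mul_mem (mem_sup_right (mem_rng _ _)) (mem_sup_left (mem_rng _ _)))
      (mem_sup_right (mem_rng _ _))

theorem FD.fib (h : FD S K M i s') {η : M → ℂ} {η' : M.comap i → ℂ}
    (h1 : IsIrrCharacter _ η) (h1' : IsIrrCharacter _ η') (r : h.Rel η η') :
    Nat.card {χ : IrrCharacter G // Ov M.subtype χ.1 η} =
      Nat.card {χ : IrrCharacter N // Ov (M.comap i).subtype χ.1 η'} := by
  haveI := h.nM
  refine count_eq_of_extA (π := QuotientGroup.mk' M) (QuotientGroup.mk'_surjective M)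
    (subtype_injective _) (by rw [QuotientGroup.ker_mk', range_subtype]) h1
    (π' := (QuotientGroup.mk' M).comp i) (fun q => ?_) (subtype_injective _)
    (by rw [← MonoidHom.comap_ker, QuotientGroup.ker_mk', range_subtype]) h1' fun a c hac => ?_
  · obtain ⟨x, rfl⟩ := QuotientGroup.mk_surjective q
    obtain ⟨n, y, hy, rfl⟩ := h.frat x
    exact ⟨n, by simp [(QuotientGroup.eq_one_iff y).2 hy]⟩
  · have hU : M ≤ (closure {a, c}).comap (QuotientGroup.mk' M) := fun x hx => by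
      rw [mem_comap, QuotientGroup.mk'_apply, (QuotientGroup.eq_one_iff x).2 hx]
      exact one_mem _
    rw [extA_congr (subtype_injective _) (range_subtype _) (a := inclusion hU) (fun _ => rfl),
      extA_congr (f := (((closure {a, c}).comap (QuotientGroup.mk' M)).comap i).subtype)
        (subtype_injective _) (by rw [range_subtype, comap_comap])
        (a := inclusion (comap_mono hU)) (fun _ => rfl)]
    refine h.ext_iff h1 h1' r hU fun x hx y hy => ?_
    rw [← QuotientGroup.eq_one_iff, ← QuotientGroup.mk'_apply, map_commutatorElement,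
      commutatorElement_eq_one_iff_commute]
    exact commutator_le_of_closure hac hx hy

theorem card_over_congr {L M X : Type*} [Group L] [Group M] [Group X] [Finite L] [Finite M]
    [Finite X] {j : L →* X} {a : L →* M} {m : M →* X} (hm : Function.Injective m) [m.range.Normal]
    (hi : ¬ p ∣ m.range.index) (ha : ∀ l, m (a l) = j l) {ν : L → ℂ} (hν : IsIrrCharacter L ν)
    {η : M → ℂ} (hη : IsIrrCharacter M η) (hd : ¬ p ∣ charDegree η) (ho : Ov a η ν) :
    Nat.card {χ : IrrCharacter X // (¬ p ∣ charDegree χ.1 ∧ Ov j χ.1 ν) ∧ Ov m χ.1 η} =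
      Nat.card {χ : IrrCharacter X // Ov m χ.1 η} := by
  refine Nat.card_congr (Equiv.subtypeEquivRight fun χ => ⟨fun h => h.2, fun h => ⟨⟨?_, ?_⟩, h⟩⟩)
  · obtain ⟨k, h1, h2⟩ := h.exists_deg_eq hm χ.2 hη
    rw [h1]
    exact Nat.Prime.not_dvd_mul hp.out (fun h3 => hi (h3.trans h2)) hd
  · exact h.trans ha ho (H6.irr_isCharacter χ.2) hη (H6.irr_isCharacter hν)

theorem FD.card_eq (h : FD S K M i s') {Z : Type*} [Group Z] [Finite Z] {z : Z →* G}
    (hz : ∀ w, z w ∈ center G) (hzM : ∀ w, z w ∈ M) {z' : Z →* N} (hz' : ∀ w, i (z' w) = z w)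
    (lam : Z →* ℂˣ) :
    Nat.card {χ : IrrCharacter G // ¬ p ∣ charDegree χ.1 ∧ Ov z χ.1 fun w => lam w} =
      Nat.card {χ : IrrCharacter N // ¬ p ∣ charDegree χ.1 ∧ Ov z' χ.1 fun w => lam w} := by
  haveI := h.nM
  haveI : M.subtype.range.Normal := by rwa [range_subtype]
  haveI : (M.comap i).subtype.range.Normal := by rw [range_subtype]; infer_instance
  let a : Z →* M := z.codRestrict M hzM
  let a' : Z →* M.comap i := z'.codRestrict _ fun w => by rw [mem_comap, hz']; exact hzM w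
  have hl := H6.isIrrCharacter_hom lam
  have hc : ∀ {η η'}, IsIrrCharacter _ η → IsIrrCharacter _ η' → h.Rel η η' →
      (Ov a η (fun w => lam w) ↔ Ov a' η' fun w => lam w) := fun h1 h2 r =>
    h.central (z := a) hz (z' := a') hz' h1 h2 r lam
  refine card_eq_of_mid M.subtype_injective (M.comap i).subtype_injective
    (fun η η' => h.Rel η η' ∧ Ov a η fun w => lam w)
    (fun χ => ¬ p ∣ charDegree χ ∧ Ov z χ fun w => lam w)
    (fun χ => ¬ p ∣ charDegree χ ∧ Ov z' χ fun w => lam w) ?_ ?_ ?_ ?_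
  · intro χ hχ ⟨h1, h2⟩
    obtain ⟨η, h3, h4, h5⟩ := h2.exists_mid (a := a) (b := M.subtype) (fun _ => rfl)
      (H6.irr_isClassFunction hχ)
    obtain ⟨η', h6, h7⟩ := h.exists_right h3 fun hd =>
      h1 (hd.trans (h4.deg_dvd M.subtype_injective hχ h3))
    exact ⟨η, η', h3, h6, ⟨h7, h5⟩, h4⟩
  · intro χ hχ ⟨h1, h2⟩
    obtain ⟨η', h3, h4, h5⟩ := h2.exists_mid (a := a') (b := (M.comap i).subtype) (fun _ => rfl)
      (H6.irr_isClassFunction hχ)
    obtain ⟨η, h6, h7⟩ := h.exists_left h3 fun hd =>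
      h1 (hd.trans (h4.deg_dvd (subtype_injective _) hχ h3))
    exact ⟨η, η', h6, h3, ⟨h7, (hc h6 h3 h7).2 h5⟩, h4⟩
  · intro η₁ η₁' η₂ η₂' h1 h2 h3 h4 ⟨r1, _⟩ ⟨r2, _⟩
    refine ⟨fun ⟨x, hx⟩ => ?_, fun ⟨y, hy⟩ => ⟨_, (h.invBy_iff h1 h2 h3 h4 r1 r2 y).2 hy⟩⟩
    obtain ⟨n, y, hy, rfl⟩ := h.frat x
    exact ⟨n, (h.invBy_iff h1 h2 h3 h4 r1 r2 n).1 ((invBy_mul_of_mem h3 hy).1 hx)⟩
  · intro η η' h1 h2 ⟨r, h3⟩
    have hi := not_dvd_index_of_sylow_le S h.SM
    rw [card_over_congr M.subtype_injective (by rwa [range_subtype]) (fun _ => rfl) hl h1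
      r.not_dvd.1 h3, card_over_congr (M.comap i).subtype_injective (by
        rw [range_subtype, index_comap]
        exact fun hd => hi (hd.trans (relIndex_dvd_index_of_normal _ _))) (fun _ => rfl) hl h2
        r.not_dvd.2 ((hc h1 h2 r).1 h3)]
    exact h.fib h1 h2 r

end H85
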