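import Mathlib
import Cfsg.Agent.Lib.H85.Av

/-! Twisted Frobenius-Schur indicators for a group with a sign homomorphism. -/

set_option autoImplicit false
set_option linter.unusedSectionVars false
set_option linter.style.haveILetI false

namespace H85

open Cfsg H87 H7 Subgroup
open scoped ComplexConjugate commutatorElement

variable {Γ : Type*} [Group Γ] [Finite Γ] (s : Γ →* ℤˣ)

/-- The even part. -/
def K (H : Subgroup Γ) : Subgroup Γ where
  carrier := {x | x ∈ H ∧ s x = 1}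
  one_mem' := ⟨one_mem _, map_one _⟩
  mul_mem' ha hb := ⟨mul_mem ha.1 hb.1, by rw [map_mul, ha.2, hb.2, one_mul]⟩
  inv_mem' ha := ⟨inv_mem ha.1, by rw [map_inv, ha.2, inv_one]⟩

/-- Twisted indicator. -/
noncomputable def eps (H : Subgroup Γ) (τ : Γ) (f : Γ → ℂ) : ℂ :=
  av (K s H) fun x => f (τ * x * (τ * x))

/-- Irreducible on the even part with twisted indicator `-1`. -/
def Bad (H : Subgroup Γ) (f : Γ → ℂ) : Prop :=
  Irr (K s H) f ∧ ∃ τ ∈ H, s τ = -1 ∧ eps s H τ f = -1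

/-- No twisted indicator is `-1`. -/
def TW (H : Subgroup Γ) : Prop := ∀ f, ¬ Bad s H f

/-- Twisted real. -/
def TwR (H : Subgroup Γ) (f : Γ → ℂ) : Prop :=
  ∀ τ ∈ H, s τ = -1 → ∀ x ∈ K s H, f (τ * x⁻¹ * τ⁻¹) = f x

/-- Some twisted real constituent has odd multiplicity. -/
def NH (H : Subgroup Γ) (f : Γ → ℂ) : Prop :=
  (∃ τ ∈ H, s τ = -1) ∧ ∃ γ, Irr (K s H) γ ∧ TwR s H γ ∧ ∃ k : ℕ, ip (K s H) f γ = 2 * k + 1

variable {s} {H L N : Subgroup Γ} {f g : Γ → ℂ} {τ : Γ}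

theorem mem_K {x : Γ} : x ∈ K s H ↔ x ∈ H ∧ s x = 1 := Iff.rfl

theorem K_le : K s H ≤ H := fun _ h => h.1

theorem K_mono (h : L ≤ H) : K s L ≤ K s H := fun _ hx => ⟨h hx.1, hx.2⟩

theorem K_eq (h : ∀ x ∈ H, s x = 1) : K s H = H := le_antisymm K_le fun x hx => ⟨hx, h x hx⟩

theorem s_inv (x : Γ) : s x⁻¹ = s x := by rw [map_inv, Int.units_inv_eq_self]

theorem cj_mem_K {a x : Γ} (ha : a ∈ H) (hx : x ∈ K s H) : a * x * a⁻¹ ∈ K s H :=
  ⟨mul_mem (mul_mem ha hx.1) (inv_mem ha), by simp [hx.2]⟩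

theorem norm_K {a : Γ} (ha : a ∈ H) : a ∈ normalizer (K s H : Set Γ) :=
  mem_normalizer_iff.2 fun x => ⟨cj_mem_K ha, fun h => by
    simpa [mul_assoc] using cj_mem_K (inv_mem ha) h⟩

theorem mul_mem_K {a b : Γ} (ha : a ∈ H) (hb : b ∈ H) (h : s a = s b) : a * b ∈ K s H :=
  ⟨mul_mem ha hb, by rw [map_mul, h, Int.units_mul_self]⟩

theorem sq_mem_K {a x : Γ} (ha : a ∈ H) (hx : x ∈ K s H) : a * x * (a * x) ∈ K s H :=
  mul_mem_K (mul_mem ha hx.1) (mul_mem ha hx.1) rfl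

theorem av_two (hτ : τ ∈ H) (h1 : s τ = -1) (F : Γ → ℂ) :
    2 * av H F = av (K s H) F + av (K s H) fun x => F (τ * x) := by
  classical
  have k : ∀ F : Γ → ℂ, av H F = (Nat.card (K s H) : ℂ) / Nat.card H *
      (av (K s H) F + av (K s H) fun x => F (τ * x)) := fun F => by
    rw [mul_add, ← av_ind K_le, ← av_ind K_le, ← av_mul (inv_mem hτ)
      (fun x => if x ∈ K s H then F (τ * x) else 0), ← av_add]
    refine av_congr fun x hx => ?_
    rcases Int.units_eq_one_or (s x) with h | h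
    · rw [if_pos ⟨hx, h⟩, if_neg, add_zero]
      rintro ⟨-, h2⟩
      rw [map_mul, s_inv, h, h1] at h2
      exact absurd h2 (by decide)
    · rw [if_neg, if_pos (mul_mem_K (inv_mem hτ) hx (by rw [s_inv, h, h1])), zero_add,
        mul_inv_cancel_left]
      rintro ⟨-, h2⟩
      exact absurd (h.symm.trans h2) (by decide)
  have k1 := k fun _ => 1
  simp only [av_const] at k1
  rw [k F]; linear_combination (-(av (K s H) F + av (K s H) fun x => F (τ * x))) * k1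

theorem eps_indep {τ' : Γ} (hτ : τ ∈ H) (h1 : s τ = -1) (hτ' : τ' ∈ H) (h1' : s τ' = -1) :
    eps s H τ f = eps s H τ' f := by
  rw [eps, eps, ← av_mul (mul_mem_K (inv_mem hτ) hτ' (by rw [s_inv, h1, h1']))]
  simp only [← mul_assoc, mul_inv_cancel, one_mul]

theorem eps_congr (hτ : τ ∈ H) (e : ∀ x ∈ K s H, f x = g x) : eps s H τ f = eps s H τ g :=
  av_congr fun _ hx => e _ (sq_mem_K hτ hx)

theorem TwR.mono (h : TwR s H f) (hL : L ≤ H) : TwR s L f :=
  fun τ hτ h1 x hx => h τ (hL hτ) h1 x (K_mono hL hx)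

theorem TwR.of_one (hf : Ch (K s H) f) (hτ : τ ∈ H) (h1 : s τ = -1)
    (h : ∀ x ∈ K s H, f (τ * x⁻¹ * τ⁻¹) = f x) : TwR s H f := fun τ' hτ' h1' x hx => by
  have k := mul_mem_K (inv_mem hτ) hτ' (by rw [s_inv, h1, h1'])
  rw [← hf.cj k hx, ← h _ (cj_mem_K k.1 hx)]; congr 1; group

theorem Irr.sh (h : Irr (K s H) f) (hτ : τ ∈ H) : Irr (K s H) fun x => f (τ * x⁻¹ * τ⁻¹) :=
  (h.cj (norm_K hτ)).inv

theorem ip_sh {t : Γ} (ht : t ∈ normalizer (L : Set Γ)) (f g : Γ → ℂ) :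
    ip L (fun x => f (t * x⁻¹ * t⁻¹)) (fun x => g (t * x⁻¹ * t⁻¹)) = ip L f g := by
  rw [ip, ip, ← av_cj ht (fun x => f x * conj (g x)), ← av_inv]; simp only [inv_inv]

open Classical in
variable (s) in
/-- Induction from the even part. -/
noncomputable def ind (H : Subgroup Γ) (τ : Γ) (f : Γ → ℂ) : Γ → ℂ :=
  fun x => if x ∈ K s H then f x + f (τ * x * τ⁻¹) else 0

theorem ind_of_mem {x : Γ} (hx : x ∈ K s H) : ind s H τ f x = f x + f (τ * x * τ⁻¹) := if_pos hx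

theorem ind_of_not {x : Γ} (hx : x ∉ K s H) : ind s H τ f x = 0 := if_neg hx

theorem not_mem_K (h1 : s τ = -1) {x : Γ} (hx : x ∈ K s H) : τ * x ∉ K s L := fun h => by
  have := h.2
  rw [map_mul, h1, hx.2] at this
  exact absurd this (by decide)

theorem ch_ind (hf : Ch (K s H) f) (hτ : τ ∈ H) (h1 : s τ = -1) : Ch H (ind s H τ f) := by
  have := Fintype.ofFinite H
  have : ((K s H).subgroupOf H).Normal := normal_subgroupOf_of_le_normalizer fun _ h => norm_K h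
  have h2 := isCharacter_indFun _ (isCharacter_subgroupOf H hf)
  have h3 : (fun x : H => ind s H τ f x) = indFun ((K s H).subgroupOf H) fun x => f x := by
    funext x
    by_cases hx : x.1 ∈ K s H
    · have h4 := av_two hτ h1 fun y => f (y * x * y⁻¹)
      have h5 := av_two hτ h1 (open Classical in fun y => if y ∈ K s H then (1 : ℂ) else 0)
      rw [av_ind K_le, av_congr (F' := fun _ => 1) fun y hy => if_pos hy,
        av_congr (F' := fun _ => 0) fun y hy => if_neg (not_mem_K h1 hy)] at h5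
      simp only [av_const] at h5
      rw [av_congr (F' := fun _ => f x) fun y hy => hf.cj hy hx, av_const,
        av_congr (F' := fun _ => f (τ * x * τ⁻¹)) (H := K s H), av_const, av_eq] at h4
      · rw [ind_of_mem hx, ← h4, indFun_normal_apply _ _ ⟨x, hx⟩,
          Nat.card_congr (subgroupOfEquivOfLe K_le).toEquiv]
        have := H6.card_ne_zero (G := H)
        have := H6.card_ne_zero (G := K s H)
        field_simp at h5 ⊢
        simp only [coe_mul, coe_inv]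
        linear_combination (∑ y : H, f (y * x * (y : Γ)⁻¹)) * h5
      · intro y hy
        rw [← hf.cj (cj_mem_K hτ hy) (cj_mem_K hτ hx)]; congr 1; group
    · rw [ind_of_not hx, indFun_eq_zero_of_not_mem_normal (G := H) _ _ le_rfl _ hx]
  unfold Ch; rw [h3]; exact h2

theorem ip_ind (hL : L ≤ H) (hτ : τ ∈ L) (h1 : s τ = -1) (τ' : Γ) :
    2 * ip L (ind s H τ' f) (ind s L τ g) = ip (K s L) (fun x => f x + f (τ' * x * τ'⁻¹))
      fun x => g x + g (τ * x * τ⁻¹) := by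
  rw [ip, av_two hτ h1, av_congr (F' := fun _ => 0) (F := fun x => _ * conj (ind s L τ g (τ * x)))
    fun y hy => by rw [ind_of_not (f := g) (not_mem_K h1 hy)]; simp, av_const, add_zero]
  exact av_congr fun x hx => by rw [ind_of_mem hx, ind_of_mem (K_mono hL hx)]

theorem nu_ind [Fintype H] (hτ : τ ∈ H) (h1 : s τ = -1) :
    nu (fun x : H => ind s H τ f x) = av (K s H) (fun x => f (x * x)) + eps s H τ f := by
  have h2 := av_two hτ h1 fun x => ind s H τ f (x * x)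
  rw [av_eq, av_congr (F' := fun x => f (x * x) + f (τ * x * τ⁻¹ * (τ * x * τ⁻¹)))
    fun x hx => by rw [ind_of_mem (mul_mem hx hx)]; congr 2; group,
    av_congr (F' := fun x => f (τ * x * (τ * x)) + f (τ * (τ * x * τ⁻¹) * (τ * (τ * x * τ⁻¹))))
    (F := fun x => ind s H τ f (τ * x * (τ * x)))
    fun x hx => by rw [ind_of_mem (sq_mem_K hτ hx)]; congr 2; group, av_add, av_add,
    av_cj (norm_K hτ) fun x => f (x * x), av_cj (norm_K hτ) fun x => f (τ * x * (τ * x))] at h2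
  rw [nu_def, eps]
  simp only [coe_mul]
  linear_combination h2 / 2

variable {Γ' : Type*} [Group Γ'] [Finite Γ']

/-- Fibre product over the sign. -/
def FP (s : Γ →* ℤˣ) (s' : Γ' →* ℤˣ) (H : Subgroup Γ) (H' : Subgroup Γ') : Subgroup (Γ × Γ') :=
  H.prod H' ⊓ MonoidHom.eqLocus (s.comp (MonoidHom.fst _ _)) (s'.comp (MonoidHom.snd _ _))

variable {s' : Γ' →* ℤˣ} {H' : Subgroup Γ'}

theorem mem_FP {x : Γ × Γ'} : x ∈ FP s s' H H' ↔ (x.1 ∈ H ∧ x.2 ∈ H') ∧ s x.1 = s' x.2 := Iff.rfl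

theorem K_FP : K (s.comp (MonoidHom.fst _ _)) (FP s s' H H') = (K s H).prod (K s' H') := by
  ext x
  exact ⟨fun h => ⟨⟨h.1.1.1, h.2⟩, h.1.1.2, h.1.2.symm.trans h.2⟩,
    fun h => ⟨⟨⟨h.1.1, h.2.1⟩, h.1.2.trans h.2.2.symm⟩, h.1.2⟩⟩

theorem eps_FP (τ' : Γ') (f' : Γ' → ℂ) : eps (s.comp (MonoidHom.fst _ _)) (FP s s' H H') (τ, τ')
    (fun x => f x.1 * f' x.2) = eps s H τ f * eps s' H' τ' f' := by
  rw [eps, K_FP, eps, eps, ← av_prod]; rfl

/-- The alternating group of degree three. -/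
abbrev A3 : Subgroup (Equiv.Perm (Fin 3)) := K Equiv.Perm.sign ⊤

theorem exists_w : ∃ w : Equiv.Perm (Fin 3) → ℂ, Irr A3 w ∧ w 1 = 1 ∧
    (∀ x ∈ A3, w (Equiv.swap 0 1 * x * (Equiv.swap 0 1)⁻¹) = conj (w x)) ∧
    av A3 (fun x => w (x * x)) = 0 ∧ av A3 (fun x => w x * w x) = 0 ∧
    ∃ c ∈ A3, w c ≠ conj (w c) := by
  have a1 : ∀ x y : Equiv.Perm (Fin 3), x.sign = 1 → y.sign = 1 → x * y = y * x := by decide
  have a2 : ∀ x : Equiv.Perm (Fin 3), x.sign = 1 →
    Equiv.swap 0 1 * x * (Equiv.swap 0 1)⁻¹ = x⁻¹ := by decide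
  have a3 : finRotate 3 ∈ A3 := ⟨trivial, by decide⟩
  obtain ⟨lam, -, h1⟩ := exists_hom_trivial_ne_one (G := A3) ⊥ (by
    rw [_root_.commutator_def, commutator_le]
    intro a _ b _
    exact commutatorElement_eq_one_iff_mul_comm.2 (Subtype.ext (a1 _ _ a.2.2 b.2.2)))
    (g := ⟨_, a3⟩) fun h => absurd (congrArg Subtype.val (mem_bot.1 h))
      (show finRotate 3 ≠ 1 by decide)
  obtain ⟨w, hw⟩ := exists_ext fun x : A3 => (lam x : ℂ)
  have h2 : Irr A3 w := by unfold Irr; rw [← hw]; exact H6.isIrrCharacter_hom lam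
  have h3 : ∀ x (hx : x ∈ A3), w x = lam ⟨x, hx⟩ := fun x hx => (congrFun hw ⟨x, hx⟩).symm
  have h4 : w (finRotate 3) ≠ conj (w (finRotate 3)) := fun h => h1 (by
    rw [← h2.ch.inv a3, h3 _ a3, h3 _ (inv_mem a3), Units.val_inj] at h
    have e : (⟨_, a3⟩ : A3) * ⟨_, a3⟩ = ⟨_, inv_mem a3⟩ := Subtype.ext
      (show finRotate 3 * finRotate 3 = (finRotate 3)⁻¹ by decide)
    rw [← e, map_mul] at h
    exact left_eq_mul.1 h)
  have h5 : av A3 (fun x => w x * w x) = 0 := by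
    by_contra h
    refine h4 ((Irr.eq h2 h2.inv ?_ _ a3).trans (h2.ch.inv a3))
    rwa [ip, av_congr (F' := fun x => w x * w x) fun x hx => by rw [h2.ch.inv hx]; simp]
  refine ⟨w, h2, by rw [h3 _ (one_mem _)]; exact congrArg Units.val (map_one lam),
    fun x hx => by rw [a2 x hx.2, h2.ch.inv hx], ?_, h5, _, a3, h4⟩
  rw [← h5]
  refine av_congr fun x hx => ?_
  rw [h3 _ (mul_mem hx hx), h3 _ hx, ← Units.val_mul, ← map_mul]; rfl

end H85
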