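import Mathlib
import Cfsg.Agent.Lib.H85.Tw1

/-! Twisted indicators: values, the parity lemma, fibre products and images. -/

set_option autoImplicit false
set_option linter.unusedSectionVars false
set_option linter.style.haveILetI false

namespace H85

open Cfsg H87 H7 Subgroup
open scoped ComplexConjugate commutatorElement

variable {Γ : Type*} [Group Γ] [Finite Γ] {s : Γ →* ℤˣ} {H L N : Subgroup Γ} {f g : Γ → ℂ} {τ : Γ}

variable (s) in
/-- The group `C₃ ⋊ H`. -/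
abbrev DD (H : Subgroup Γ) : Subgroup (Γ × Equiv.Perm (Fin 3)) := FP s Equiv.Perm.sign H ⊤

variable (s) in
/-- The character of `C₃ ⋊ H` attached to `f`. -/
noncomputable def XX (H : Subgroup Γ) (τ : Γ) (w : Equiv.Perm (Fin 3) → ℂ) (f : Γ → ℂ) :
    Γ × Equiv.Perm (Fin 3) → ℂ :=
  ind (s.comp (MonoidHom.fst _ _)) (DD s H) (τ, Equiv.swap 0 1) fun x => f x.1 * w x.2

theorem tau_mem (hτ : τ ∈ H) (h1 : s τ = -1) : (τ, Equiv.swap 0 1) ∈ DD s H :=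
  mem_FP.2 ⟨⟨hτ, trivial⟩, h1.trans (Equiv.Perm.sign_swap (by decide)).symm⟩

theorem ip_XX {w : Equiv.Perm (Fin 3) → ℂ} (hw : Irr A3 w)
    (w1 : ∀ x ∈ A3, w (Equiv.swap 0 1 * x * (Equiv.swap 0 1)⁻¹) = conj (w x))
    (w2 : av A3 (fun x => w x * w x) = 0) (hL : L ≤ H) (hτ : τ ∈ L) (h1 : s τ = -1) :
    ip (DD s L) (XX s H τ w f) (XX s L τ w g) = ip (K s L) f g := by
  have h2 := ip_ind (s := s.comp (MonoidHom.fst _ _)) (H := DD s H) (L := DD s L)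
    (f := fun x => f x.1 * w x.2) (g := fun x => g x.1 * w x.2)
    (fun x hx => ⟨⟨hL hx.1.1, trivial⟩, hx.2⟩) (tau_mem hτ h1) h1 (τ, Equiv.swap 0 1)
  have w3 : av A3 (fun x => conj (w x) * conj (w x)) = 0 := by
    simpa only [← av_conj, map_mul, map_zero] using congrArg conj w2
  have w4 : av A3 (fun x => w x * conj (w x)) = 1 := hw.ip_self
  rw [K_FP, ip, ip, av_congr (H := (K s L).prod A3) (F' := fun x =>
    f x.1 * conj (g x.1) * (w x.2 * conj (w x.2)) +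
    f x.1 * conj (g (τ * x.1 * τ⁻¹)) * (w x.2 * w x.2) +
    f (τ * x.1 * τ⁻¹) * conj (g x.1) * (conj (w x.2) * conj (w x.2)) +
    f (τ * x.1 * τ⁻¹) * conj (g (τ * x.1 * τ⁻¹)) * (w x.2 * conj (w x.2))), av_add, av_add, av_add,
    av_prod A3 (fun x => f x * conj (g x)) fun x => w x * conj (w x),
    av_prod A3 (fun x => f x * conj (g (τ * x * τ⁻¹))) fun x => w x * w x,
    av_prod A3 (fun x => f (τ * x * τ⁻¹) * conj (g x)) fun x => conj (w x) * conj (w x),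
    av_prod A3 (fun x => f (τ * x * τ⁻¹) * conj (g (τ * x * τ⁻¹))) fun x => w x * conj (w x),
    av_cj (norm_K hτ) fun x => f x * conj (g x), w2, w3, w4] at h2
  · rw [ip, ip, XX, XX]; linear_combination h2 / 2
  · intro x hx
    simp only [Prod.fst_mul, Prod.snd_mul, Prod.fst_inv, Prod.snd_inv, w1 _ hx.2, map_add, map_mul,
      Complex.conj_conj]
    ring

theorem exists_XX (H : Subgroup Γ) (h1 : s τ = -1) : ∃ w : Equiv.Perm (Fin 3) → ℂ,
    (∀ L ≤ H, τ ∈ L → ∀ f g, ip (DD s L) (XX s H τ w f) (XX s L τ w g) = ip (K s L) f g) ∧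
    ∀ L, τ ∈ L → ∀ f, Irr (K s L) f → Irr (DD s L) (XX s L τ w f) ∧
      (∀ [Fintype (DD s L)], nu (fun x : DD s L => XX s L τ w f x) = eps s L τ f) ∧
      (IsReal (fun x : DD s L => XX s L τ w f x) ↔ TwR s L f) := by
  obtain ⟨w, hw, w0, w1, w2, w3, c, hc, w4⟩ := exists_w
  refine ⟨w, fun L hL hτ f g => ip_XX hw w1 w3 hL hτ h1, fun L hτ f hf => ?_⟩
  have h2 : Irr (K (s.comp (MonoidHom.fst _ _)) (DD s L)) fun x => f x.1 * w x.2 := by
    rw [K_FP]; exact hf.prod hw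
  have h3 : Ch (DD s L) (XX s L τ w f) := ch_ind h2.ch (tau_mem hτ h1) h1
  have h4 : ∀ x ∈ K s L, ∀ a ∈ A3, XX s L τ w f (x, a) =
      f x * w a + f (τ * x * τ⁻¹) * conj (w a) := fun x hx a ha => by
    rw [XX, ind_of_mem (by rw [K_FP]; exact ⟨hx, ha⟩), ← w1 a ha]; rfl
  have := Fintype.ofFinite (DD s L)
  refine ⟨h3.irr ((ip_XX hw w1 w3 le_rfl hτ h1).trans hf.ip_self), ?_, fun h => ?_, fun h => ?_⟩
  · intro _
    rw [XX, nu_ind (tau_mem hτ h1) h1, eps_FP, K_FP]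
    have a2 : ∀ x : Equiv.Perm (Fin 3), x.sign = 1 →
      Equiv.swap 0 1 * x * (Equiv.swap 0 1 * x) = 1 := by decide
    have := av_prod (H := K s L) A3 (fun x => f (x * x)) fun x => w (x * x)
    rw [w2, mul_zero] at this
    rw [show eps Equiv.Perm.sign ⊤ (Equiv.swap 0 1) w = 1 from (av_congr (F' := fun _ => 1)
      fun x hx => by rw [a2 x hx.2, w0]).trans (av_const _ _), mul_one]
    exact add_eq_right.2 this
  · refine TwR.of_one hf.ch hτ h1 fun x hx => ?_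
    have k : ∀ a ∈ A3, conj (f x * w a + f (τ * x * τ⁻¹) * conj (w a)) =
        f x * w a + f (τ * x * τ⁻¹) * conj (w a) := fun a ha => by
      rw [← h4 x hx a ha]
      exact isReal_iff_conj.1 h ⟨(x, a), ⟨hx.1, trivial⟩, hx.2.trans ha.2.symm⟩
    have k1 := k 1 (one_mem _)
    have k2 := k c hc
    simp only [w0, map_add, map_mul, Complex.conj_conj, map_one] at k1 k2
    rw [show τ * x⁻¹ * τ⁻¹ = (τ * x * τ⁻¹)⁻¹ by group, hf.ch.inv (cj_mem_K hτ hx)]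
    refine mul_left_cancel₀ (sub_ne_zero.2 w4) ?_
    linear_combination k2 - conj (w c) * k1
  · rw [isReal_iff_conj]
    rintro ⟨⟨x, a⟩, hx⟩
    by_cases h5 : (x, a) ∈ K (s.comp (MonoidHom.fst _ _)) (DD s L)
    · rw [K_FP] at h5
      have := h τ hτ h1 _ (inv_mem h5.1)
      rw [inv_inv, hf.ch.inv h5.1] at this
      simp only [h4 x h5.1 a h5.2, this, map_add, map_mul, Complex.conj_conj]
      ring
    · simp only [XX, ind_of_not h5, map_zero]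

theorem Bad.twR (h : Bad s H f) : TwR s H f := by
  obtain ⟨hf, τ, hτ, h1, h2⟩ := h
  obtain ⟨w, -, h3⟩ := exists_XX H h1
  obtain ⟨a1, a2, a3⟩ := h3 H hτ f hf
  have := Fintype.ofFinite (DD s H)
  exact a3.1 (isReal_of_nu_ne_zero a1 (by rw [a2, h2]; norm_num))

theorem Irr.eps_tri (hf : Irr (K s H) f) (hτ : τ ∈ H) (h1 : s τ = -1) :
    eps s H τ f = 0 ∨ eps s H τ f = 1 ∨ eps s H τ f = -1 := by
  obtain ⟨w, -, h3⟩ := exists_XX H h1
  obtain ⟨a1, a2, -⟩ := h3 H hτ f hf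
  have := Fintype.ofFinite (DD s H)
  rw [← a2]; exact nu_trichotomy a1

theorem Bad.eps_eq (h : Bad s H f) (hτ : τ ∈ H) (h1 : s τ = -1) : eps s H τ f = -1 := by
  obtain ⟨-, τ', a1, a2, a3⟩ := h
  rw [eps_indep hτ h1 a1 a2, a3]

theorem odd_ne_even (k j : ℕ) : (2 * k + 1 : ℂ) ≠ 2 * j := fun h => by
  have : 2 * k + 1 = 2 * j := by exact_mod_cast h
  omega

/-- The parity lemma. -/
theorem Bad.of_odd (h : Bad s H f) (hL : L ≤ H) (hτ : τ ∈ L) (h1 : s τ = -1) (hg : Irr (K s L) g)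
    (hr : TwR s L g) {k : ℕ} (hk : ip (K s L) f g = 2 * k + 1) : Bad s L g := by
  obtain ⟨w, h2, h3⟩ := exists_XX H h1
  obtain ⟨a1, a2, -⟩ := h3 H (hL hτ) f h.1
  obtain ⟨b1, b2, b3⟩ := h3 L hτ g hg
  have := Fintype.ofFinite (DD s H)
  have := Fintype.ofFinite (DD s L)
  refine ⟨hg, τ, hτ, h1, ((nu_of_isReal b1 (b3.2 hr)).resolve_left fun h4 => ?_) ▸ b2.symm⟩
  obtain ⟨j, hj⟩ := even_inner_comp_of_nu_mul (inclusion (show DD s L ≤ DD s H from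
    fun x hx => ⟨⟨hL hx.1.1, trivial⟩, hx.2⟩)) a1 b1 (by
      rw [h4, a2, h.eps_eq (hL hτ) h1, mul_one])
  refine odd_ne_even k j ?_
  rw [← hk, ← hj, ← h2 L hL hτ, ip_eq]; rfl

theorem Bad.not_NH (h : Bad s H f) (hL : L ≤ H) (ht : TW s L) : ¬ NH s L f :=
  fun ⟨⟨_, hτ, h1⟩, γ, a1, a2, _, a3⟩ => ht γ (h.of_odd hL hτ h1 a1 a2 a3)

theorem TW.of_inv (h : ∀ x ∈ H, s x = -1 → x * x = 1) : TW s H := by
  rintro f ⟨hf, τ, hτ, h1, h2⟩
  rw [eps, av_congr (F' := fun _ => f 1) fun x hx => by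
    rw [h _ (mul_mem hτ hx.1) (by rw [map_mul, h1, hx.2, mul_one])], av_const] at h2
  obtain ⟨n, hn⟩ := H6.char_one_nat hf.ch
  have : (n : ℂ) = -1 := hn.symm.trans h2
  have : (n : ℤ) = -1 := by exact_mod_cast this
  omega

variable {Γ' : Type*} [Group Γ'] [Finite Γ'] {s' : Γ' →* ℤˣ} {H' : Subgroup Γ'}

theorem TW.fp (h : TW s H) (h' : TW s' H') : TW (s.comp (MonoidHom.fst _ _)) (FP s s' H H') := by
  rintro F ⟨hF, ⟨τ, τ'⟩, hτ, h1, h2⟩
  rw [K_FP] at hF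
  obtain ⟨f, f', a1, a2, a3⟩ := hF.exists_prod
  rw [eps_congr (g := fun x => f x.1 * f' x.2) hτ fun x hx => by
    rw [K_FP] at hx; exact a3 _ hx.1 _ hx.2, eps_FP] at h2
  have h1' : s' τ' = -1 := hτ.2.symm.trans h1
  rcases a1.eps_tri hτ.1.1 h1 with b | b | b
  · rw [b, zero_mul] at h2; norm_num at h2
  · exact h' f' ⟨a2, τ', hτ.1.2, h1', by rwa [b, one_mul] at h2⟩
  · exact h f ⟨a1, τ, hτ.1.1, h1, b⟩

theorem K_map (φ : Γ' →* Γ) (hφ : ∀ x ∈ H', s (φ x) = s' x) :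
    K s (H'.map φ) = (K s' H').map φ := by
  ext x
  constructor
  · rintro ⟨⟨y, hy, rfl⟩, h⟩
    exact ⟨y, ⟨hy, (hφ y hy).symm.trans h⟩, rfl⟩
  · rintro ⟨y, hy, rfl⟩
    exact ⟨⟨y, hy.1, rfl⟩, (hφ y hy.1).trans hy.2⟩

theorem TW.map (h : TW s' H') (φ : Γ' →* Γ) (hφ : ∀ x ∈ H', s (φ x) = s' x) :
    TW s (H'.map φ) := by
  rintro f ⟨hf, _, ⟨τ, hτ, rfl⟩, h1, h2⟩
  rw [eps, K_map φ hφ, av_map] at h2
  rw [K_map φ hφ] at hf
  exact h _ ⟨hf.comp φ, τ, hτ, (hφ τ hτ).symm.trans h1, by simpa only [eps, map_mul] using h2⟩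

theorem TW.nu_ne {G : Type*} [Group G] [Fintype G] (h : TW s H) (φ : H →* G)
    (hs : ∀ y, ∃ x : H, s x = 1 ∧ φ x = y) {z : H} (h1 : s z = -1) (h2 : φ z = 1) {χ : G → ℂ}
    (hχ : IsIrrCharacter G χ) : nu χ ≠ -1 := fun h3 => by
  obtain ⟨f, hf⟩ := exists_ext fun x => χ (φ x)
  have := Fintype.ofFinite (K s H)
  have k : Function.Surjective (φ.comp (inclusion (K_le (s := s)))) := fun y => by
    obtain ⟨x, a1, a2⟩ := hs y
    exact ⟨⟨x, x.2, a1⟩, a2⟩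
  have k1 : ∀ x (hx : x ∈ H), f x = χ (φ ⟨x, hx⟩) := fun x hx => (congrFun hf ⟨x, hx⟩).symm
  refine h f ⟨?_, z, z.2, h1, ?_⟩
  · have := H6.isIrrCharacter_comp_surjective _ k hχ
    unfold Irr; convert this using 2 with x; exact k1 _ x.2.1
  · rw [← h3, ← nu_comp_surjective _ k, nu_def, eps, av_eq]
    congr 1
    refine Finset.sum_congr rfl fun x _ => ?_
    rw [k1 _ (sq_mem_K z.2 x.2).1]
    congr 1
    change φ (z * ⟨x, x.2.1⟩ * (z * ⟨x, x.2.1⟩)) = φ (⟨x, x.2.1⟩ * ⟨x, x.2.1⟩)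
    simp only [map_mul, h2, one_mul]

theorem par_aux {ι : Type*} (σ : ι → ι) (hσ : ∀ i, σ (σ i) = i) (a : ι → ℂ)
    (h1 : ∀ i, IsIntegral ℤ (a i)) (h2 : ∀ i, a (σ i) = a i)
    (h3 : ∀ i, σ i = i → IsIntegral ℤ (a i / 2)) (t : Finset ι) (ht : ∀ i ∈ t, σ i ∈ t) :
    IsIntegral ℤ ((∑ i ∈ t, a i) / 2) := by
  classical
  induction t using Finset.strongInduction with | H t ih
  rcases t.eq_empty_or_nonempty with rfl | ⟨i, hi⟩
  · simpa using isIntegral_zero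
  have h4 : ({i, σ i} : Finset ι) ⊆ t := by
    intro j hj
    rcases Finset.mem_insert.1 hj with rfl | hj
    exacts [hi, Finset.mem_singleton.1 hj ▸ ht i hi]
  rw [← Finset.sum_sdiff h4, add_div]
  refine (ih _ (Finset.sdiff_ssubset h4 (by simp)) fun j hj => ?_).add ?_
  · simp only [Finset.mem_sdiff, Finset.mem_insert, Finset.mem_singleton, not_or] at hj ⊢
    exact ⟨ht j hj.1, fun e => hj.2.2 (by rw [← e, hσ]), fun e => hj.2.1 (by
      rw [← hσ j, e, hσ])⟩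
  · by_cases e : σ i = i
    · simpa [e] using h3 i e
    · rw [Finset.sum_pair (Ne.symm e), h2]
      simpa using h1 i

theorem not_int_half (k : ℤ) : ¬ IsIntegral ℤ ((2 * k + 1 : ℂ) / 2) := fun h => by
  obtain ⟨z, hz⟩ := H8.exists_int_of_isIntegral_rat (q := (2 * k + 1) / 2) (by simpa using h)
  have : (2 * k + 1 : ℚ) = 2 * z := by linarith
  have : 2 * k + 1 = 2 * z := by exact_mod_cast this
  omega

/-- `g ↦ av S (g (a ·) u)` as a linear functional. -/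
noncomputable def avL (S : Subgroup Γ) (a : Γ) (u : Γ → ℂ) : (Γ → ℂ) →ₗ[ℂ] ℂ where
  toFun g := av S fun x => g (a * x) * u x
  map_add' g g' := by simp only [Pi.add_apply, add_mul, av_add]
  map_smul' c g := by simp only [Pi.smul_apply, smul_eq_mul, mul_assoc, av_mul_left, RingHom.id_apply]

theorem avL_apply (S : Subgroup Γ) (a : Γ) (u g : Γ → ℂ) :
    avL S a u g = av S fun x => g (a * x) * u x := rfl

theorem avL_one (S : Subgroup Γ) (u g : Γ → ℂ) : avL S 1 (fun x => conj (u x)) g = ip S g u := by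
  simp only [avL_apply, one_mul, ip]

theorem par_ch (hτ : τ ∈ H) (h1 : s τ = -1) (hf : Ch (K s H) f) (hr : TwR s H f)
    (c : (Γ → ℂ) →ₗ[ℂ] ℂ) (c1 : ∀ g g', (∀ x ∈ K s H, g x = g' x) → c g = c g')
    (c2 : ∀ γ, Irr (K s H) γ → IsIntegral ℤ (c γ))
    (c3 : ∀ γ, Irr (K s H) γ → c (fun x => γ (τ * x⁻¹ * τ⁻¹)) = c γ) {k : ℤ}
    (hk : c f = 2 * k + 1) : ∃ γ, Irr (K s H) γ ∧ TwR s H γ ∧
      (∃ j : ℕ, ip (K s H) f γ = 2 * j + 1) ∧ ¬ IsIntegral ℤ (c γ / 2) := by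
  by_contra! hc
  let E : IrrCharacter (K s H) → Γ → ℂ := fun γ => extendByZero _ (γ : K s H → ℂ)
  let σ : IrrCharacter (K s H) → IrrCharacter (K s H) := fun γ => ⟨_, (irr_ext γ).sh hτ⟩
  have e1 : ∀ γ, ∀ x ∈ K s H, E (σ γ) x = E γ (τ * x⁻¹ * τ⁻¹) := fun γ x hx =>
    extendByZero_of_mem _ _ hx
  have e2 : ∀ γ γ', (∀ x ∈ K s H, E γ x = E γ' x) → γ = γ' := fun γ γ' h =>
    Subtype.ext (funext fun x => by simpa only [E, extendByZero_coe] using h x x.2)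
  have e3 : ∀ γ, Irr (K s H) (E γ) := irr_ext
  refine not_int_half k ?_
  rw [← hk, c1 f (∑ γ, ip (K s H) f (E γ) • E γ) fun x hx => by
    simpa only [Finset.sum_apply, Pi.smul_apply, smul_eq_mul] using hf.expand hx, map_sum]
  refine par_aux σ (fun γ => e2 _ _ fun x hx => ?_) _ (fun γ => ?_) (fun γ => ?_)
    (fun γ h => ?_) _ fun _ _ => Finset.mem_univ _
  · rw [e1 _ _ hx, e1 _ _ (cj_mem_K hτ (inv_mem hx)),
      ← (e3 γ).ch.cj (mul_mem_K hτ hτ rfl) hx]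
    congr 1; group
  · rw [map_smul]; exact (hf.ip_int (irr_ext γ).ch).mul (c2 _ (irr_ext γ))
  · rw [map_smul, map_smul, c1 _ _ (e1 γ), c3 _ (irr_ext γ), ← ip_sh (norm_K hτ) f (E γ),
      ip_congr (fun x hx => (hr τ hτ h1 x hx).symm) (e1 γ)]
  · have h2 : TwR s H (E γ) := TwR.of_one (irr_ext γ).ch hτ h1 fun x hx => by
      rw [← e1 _ _ hx, h]
    obtain ⟨n, hn⟩ := hf.ip_nat (irr_ext γ).ch
    rw [map_smul, smul_eq_mul]
    rcases Nat.even_or_odd' n with ⟨j, rfl | rfl⟩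
    · rw [hn, show ((2 * j : ℕ) : ℂ) * c (E γ) / 2 = algebraMap ℤ ℂ j * c (E γ) by simp; ring]
      exact isIntegral_algebraMap.mul (c2 _ (irr_ext γ))
    · rw [mul_div_assoc]
      exact (hf.ip_int (irr_ext γ).ch).mul (hc _ (irr_ext γ) h2 ⟨j, by simpa using hn⟩)

theorem NH.of_ip (hL : L ≤ H) (hτ : τ ∈ L) (h1 : s τ = -1) (hf : Ch (K s H) f) (hr : TwR s H f)
    (hg : Ch (K s L) g) (hr' : TwR s L g) {k : ℕ} (hk : ip (K s L) f g = 2 * k + 1) :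
    NH s H f := by
  obtain ⟨γ, a1, a2, a3, -⟩ := par_ch (hL hτ) h1 hf hr (avL (K s L) 1 fun x => conj (g x))
    (fun _ _ h => by rw [avL_one, avL_one, ip_congr (fun x hx => h x (K_mono hL hx)) fun _ _ => rfl])
    (fun γ h => by rw [avL_one]; exact (h.ch.mono (K_mono hL)).ip_int hg)
    (fun γ h => by
      rw [avL_one, avL_one, ← ip_sh (norm_K hτ) γ g]
      exact ip_congr (fun _ _ => rfl) fun x hx => (hr' τ hτ h1 x hx).symm)
    (k := k) (by rw [avL_one, hk]; simp)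
  exact ⟨⟨τ, hL hτ, h1⟩, γ, a1, a2, a3⟩

theorem NH.up (h : NH s L f) (hL : L ≤ H) (hf : Ch (K s H) f) (hr : TwR s H f) : NH s H f := by
  obtain ⟨⟨τ, hτ, h1⟩, γ, a1, a2, k, a3⟩ := h
  exact NH.of_ip hL hτ h1 hf hr a1.ch a2 a3

theorem Bad.kl (h : Bad s H f) (hL : L ≤ H) (ht : TW s L) (hN : N ≤ L) : ¬ NH s N f := fun h1 =>
  h.not_NH hL ht (h1.up hN (h.1.ch.mono (K_mono hL)) (h.twR.mono hL))

end H85
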