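import Mathlib
import Cfsg.Agent.Lib.H85.Tw2
import Cfsg.Agent.Lib.CharDeep.Solomon

/-! Twisted indicators: Clifford step and the Brauer-Witt reduction. -/

set_option autoImplicit false
set_option linter.unusedSectionVars false
set_option linter.style.haveILetI false

namespace H85

open Cfsg H87 H7 Subgroup
open scoped ComplexConjugate commutatorElement Pointwise

variable {Γ : Type*} [Group Γ] [Finite Γ] {s : Γ →* ℤˣ} {H L N T : Subgroup Γ}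
  {f g lam : Γ → ℂ} {τ : Γ}

theorem cj_mem {t n : Γ} (ht : t ∈ normalizer (N : Set Γ)) (hn : n ∈ N) : t * n * t⁻¹ ∈ N :=
  (mem_normalizer_iff.1 ht n).1 hn

theorem exists_mul_of_mem_sup (h : L ≤ normalizer (N : Set Γ)) {x : Γ} (hx : x ∈ N ⊔ L) :
    ∃ l ∈ L, x * l⁻¹ ∈ N := by
  have : x ∈ (N : Set Γ) * (L : Set Γ) := coe_mul_of_right_le_normalizer_left N L h ▸ hx
  obtain ⟨n, hn, l, hl, rfl⟩ := this
  exact ⟨l, hl, by simpa using hn⟩

theorem Irr.lin_mul (h : Irr N lam) (h1 : lam 1 = 1) {a b : Γ} (ha : a ∈ N) (hb : b ∈ N) :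
    lam (a * b) = lam a * lam b := H6.char_mul_of_one_eq_one h.ch h1 ⟨a, ha⟩ ⟨b, hb⟩

theorem Irr.exists_cj (hN : N ≤ T) (hT : T ≤ normalizer (N : Set Γ)) (h : Irr T f) {θ θ' : Γ → ℂ}
    (h1 : Irr N θ) (h2 : Irr N θ') (a1 : ip N f θ ≠ 0) (a2 : ip N f θ' ≠ 0) :
    ∃ t ∈ T, ∀ n ∈ N, θ' n = θ (t * n * t⁻¹) := by
  have := Fintype.ofFinite T
  have := Fintype.ofFinite (N.subgroupOf T)
  have := normal_subgroupOf_of_le_normalizer hT
  rw [← ip_subgroupOf hN, ip_eq] at a1 a2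
  obtain ⟨t, ht⟩ := mem_conjOrbit.1 (mem_conjOrbit_of_inner_res_ne_zero h
    ((irr_subgroupOf hN).2 h1) ((irr_subgroupOf hN).2 h2) a1 a2)
  exact ⟨t, t.2, fun n hn => congrFun ht ⟨⟨n, hN hn⟩, hn⟩⟩

theorem Irr.mul_of_inv (hN : N ≤ T) (hT : T ≤ normalizer (N : Set Γ)) (h : Irr T f)
    (h1 : Irr N lam) (h2 : lam 1 = 1) (h3 : ∀ t ∈ T, ∀ n ∈ N, lam (t * n * t⁻¹) = lam n)
    (a1 : ip N f lam ≠ 0) {n x : Γ} (hn : n ∈ N) (hx : x ∈ T) : f (n * x) = lam n * f x := by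
  have := Fintype.ofFinite T
  have := Fintype.ofFinite (N.subgroupOf T)
  have := normal_subgroupOf_of_le_normalizer hT
  rw [← ip_subgroupOf hN, ip_eq] at a1
  have k := clifford_of_invariant h ((irr_subgroupOf hN).2 h1)
    (inertia_eq_top_iff.2 fun g n => h3 g g.2 n n.2) a1
  obtain ⟨e, k⟩ : ∃ e : ℂ, (fun n : N.subgroupOf T => f n) = e • fun n : N.subgroupOf T => lam n :=
    ⟨_, k⟩
  have k1 : f n = e * lam n := congrFun k ⟨⟨n, hN hn⟩, hn⟩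
  have k2 : f 1 = e * lam 1 := congrFun k 1
  have k3 : ‖lam n‖ = 1 := by
    have := h1.lin_mul h2 hn (inv_mem hn)
    rw [mul_inv_cancel, h2, h1.ch.inv hn, Complex.mul_conj, Complex.normSq_eq_norm_sq] at this
    have : ‖lam n‖ ^ 2 = 1 := by exact_mod_cast this.symm
    exact (pow_eq_one_iff_of_nonneg (norm_nonneg _) two_ne_zero).1 this
  obtain ⟨ω, hω⟩ := H6.char_mul_of_norm_eq h.ch (g := ⟨n, hN hn⟩) (by
    change ‖f n‖ = ‖f 1‖
    rw [k1, k2, h2, norm_mul, k3, mul_one, mul_one])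
  have k4 : f (n * 1) = ω * f 1 := hω 1
  rw [mul_one, k1, k2, h2, mul_one, mul_comm] at k4
  rw [mul_right_cancel₀ (fun e0 => h.one_ne (by rw [k2, e0, zero_mul])) k4]
  exact hω ⟨x, hx⟩

theorem Irr.corr (hN : N ≤ T) (hT : T ≤ H) (hH : H ≤ normalizer (N : Set Γ)) (h : Irr H f)
    (h1 : Irr N lam) (h3 : ∀ t ∈ H, (∀ n ∈ N, lam (t * n * t⁻¹) = lam n) → t ∈ T)
    (a1 : ip N f lam ≠ 0) : ∃ ξ, Irr T ξ ∧ ip N ξ lam ≠ 0 ∧ (∀ g, Ch H g → ip T g ξ = ip H g f) ∧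
      ∀ ξ', Irr T ξ' → ip N ξ' lam ≠ 0 → ip T f ξ' ≠ 0 → ∀ x ∈ T, ξ' x = ξ x := by
  have := Fintype.ofFinite H
  have := Fintype.ofFinite (N.subgroupOf H)
  have := Fintype.ofFinite (T.subgroupOf H)
  have := normal_subgroupOf_of_le_normalizer hH
  have b1 : N.subgroupOf H ≤ T.subgroupOf H := fun _ h => hN h
  have b2 := (irr_subgroupOf (hN.trans hT)).2 h1
  have b3 : inertia (fun n : N.subgroupOf H => lam n) ≤ T.subgroupOf H := fun t ht =>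
    h3 t t.2 fun n hn => mem_inertia'.1 ht ⟨⟨n, hT (hN hn)⟩, hn⟩
  rw [← ip_subgroupOf (hN.trans hT), ip_eq] at a1
  obtain ⟨ξ, c1, c2, c3⟩ := clifford_corr_surj b1 b2 b3 h a1
  obtain ⟨ξ, rfl⟩ := exists_ext' ξ
  refine ⟨ξ, (irr_subgroupOf hT).1 c1, ?_, fun g hg => ?_, fun ξ' d1 d2 d3 x hx => ?_⟩
  · rw [← ip_subgroupOf (hN.trans hT), ip_eq]; exact c3 ▸ a1
  · rw [← ip_subgroupOf hT, ip_eq, ip_eq, ← c2,
      classInner_indFun_right _ _ (H6.char_isClassFunction hg)]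
  · rw [← ip_subgroupOf (hN.trans hT), ip_eq] at d2
    rw [← ip_subgroupOf hT, ip_eq] at d3
    have d4 := (irr_subgroupOf hT).2 d1
    exact congrFun (clifford_corr_inj b1 b2 b3 d4 c1 d2 (c3 ▸ a1)
      ((clifford_corr_of_over b1 b2 b3 d4 d2 h d3).1.trans c2.symm)) ⟨⟨x, hT hx⟩, hx⟩

variable (s) in
/-- Twisted stabilizer. -/
def TS (hH : H ≤ normalizer (N : Set Γ)) (lam : Γ → ℂ) : Subgroup Γ where
  carrier := {x | x ∈ H ∧ ∀ n ∈ N, lam (x * n * x⁻¹) = lam (n ^ (s x : ℤ))}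
  one_mem' := ⟨one_mem _, fun n _ => by simp⟩
  mul_mem' {x y} hx hy := ⟨mul_mem hx.1 hy.1, fun n hn => by
    rw [show x * y * n * (x * y)⁻¹ = x * (y * n * y⁻¹) * x⁻¹ by group,
      hx.2 _ (cj_mem (hH hy.1) hn), conj_zpow, hy.2 _ (zpow_mem hn _), ← zpow_mul, map_mul,
      Units.val_mul]⟩
  inv_mem' {x} hx := ⟨inv_mem hx.1, fun n hn => by
    have := hx.2 _ (zpow_mem (cj_mem (hH (inv_mem hx.1)) hn) (s x))
    rw [← zpow_mul, ← Units.val_mul, Int.units_mul_self, Units.val_one, zpow_one, conj_zpow] at this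
    rw [s_inv, ← this]; congr 1; group⟩

theorem TS_le (hH : H ≤ normalizer (N : Set Γ)) : TS s hH lam ≤ H := fun _ h => h.1

theorem le_TS (hH : H ≤ normalizer (N : Set Γ)) (hN : N ≤ K s H) (h : Ch N lam) :
    N ≤ K s (TS s hH lam) := fun n hn => ⟨⟨(hN hn).1, fun m hm => by
      rw [h.cj hn hm, (hN hn).2]; simp⟩, (hN hn).2⟩

theorem cl_step (hH : H ≤ normalizer (N : Set Γ)) (hN : N ≤ K s H) (hτ : τ ∈ H) (h0 : s τ = -1)
    (h : Irr (K s H) f) (hr : TwR s H f) (h1 : Irr N lam) (a1 : ip N f lam ≠ 0) :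
    (∃ τ ∈ TS s hH lam, s τ = -1) ∧ ∃ ξ, Irr (K s (TS s hH lam)) ξ ∧ TwR s (TS s hH lam) ξ ∧
      ip N ξ lam ≠ 0 ∧ ∀ g, Ch (K s H) g → ip (K s (TS s hH lam)) g ξ = ip (K s H) g f := by
  obtain ⟨ξ, b1, b2, b3, b4⟩ := h.corr (le_TS hH hN h1.ch) (K_mono (TS_le hH)) (K_le.trans hH) h1
    (fun t ht h => ⟨⟨ht.1, fun n hn => by rw [h n hn, ht.2]; simp⟩, ht.2⟩) a1
  obtain ⟨t, ht, c1⟩ := h.exists_cj hN (K_le.trans hH) h1 (h1.cj (hH hτ)).inv a1 (by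
    rwa [← ip_sh (hH hτ), ip_congr (fun x hx => hr τ hτ h0 x (hN hx)) fun _ _ => rfl] at a1)
  refine ⟨⟨τ * t⁻¹, ⟨mul_mem hτ (inv_mem ht.1), fun n hn => ?_⟩, by
    rw [map_mul, s_inv, h0, ht.2, mul_one]⟩, ξ, b1, fun τ' d1 d2 => b4 _ (b1.sh d1) ?_ ?_, b2, b3⟩
  · have := c1 _ (cj_mem (hH (inv_mem ht.1)) (inv_mem hn))
    rw [map_mul, s_inv, h0, ht.2]
    convert this using 2 <;> simp [mul_assoc]
  · rwa [← ip_sh (hH d1.1), ip_congr (fun _ _ => rfl) (g' := lam) fun x hx => by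
      rw [d1.2 _ (inv_mem hx), d2]; simp] at b2
  · rw [← ip_congr (fun x hx => hr τ' d1.1 d2 x (K_mono (TS_le hH) hx)) fun _ _ => rfl,
      ip_sh (norm_K d1), b3 f h.ch, h.ip_self]
    exact one_ne_zero

theorem K_mul (hN : N ≤ K s T) (hm : ∀ x ∈ T, ∃ l ∈ L, x * l⁻¹ ∈ N) :
    ∀ x ∈ K s T, ∃ l ∈ K s (T ⊓ L), x * l⁻¹ ∈ N := fun x hx => by
  obtain ⟨l, hl, h⟩ := hm x hx.1
  have : l ∈ K s T := by simpa using mul_mem (inv_mem (hN h)) hx
  exact ⟨l, ⟨⟨this.1, hl⟩, this.2⟩, h⟩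

theorem out_mul (hN : N ≤ K s T) (hm : ∀ x ∈ T, ∃ l ∈ L, x * l⁻¹ ∈ N) (hτ : τ ∈ T)
    (h0 : s τ = -1) : ∃ τ ∈ T ⊓ L, s τ = -1 := by
  obtain ⟨l, hl, h⟩ := hm τ hτ
  refine ⟨l, ⟨by simpa using mul_mem (inv_mem (hN h).1) hτ, hl⟩, ?_⟩
  have := (hN h).2
  rw [map_mul, s_inv, h0] at this
  rw [← neg_eq_iff_eq_neg, ← this, neg_one_mul]

theorem lin_abs (h1 : Irr N lam) (h2 : lam 1 = 1) {n : Γ} (hn : n ∈ N) :
    lam n * conj (lam n) = 1 := by
  rw [← h1.ch.inv hn, ← h1.lin_mul h2 hn (inv_mem hn), mul_inv_cancel, h2]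

theorem Bad.cla (h : Bad s H f) (hH : H ≤ normalizer (N : Set Γ)) (hN : N ≤ K s H)
    (hm : ∀ x ∈ H, ∃ l ∈ L, x * l⁻¹ ∈ N) (h1 : Irr N lam) (h2 : lam 1 = 1) (a1 : ip N f lam ≠ 0) :
    ¬ TW s (TS s hH lam ⊓ L) := fun ht => by
  obtain ⟨τ, hτ, h0, -⟩ := h.2
  obtain ⟨⟨τ, hτ, h0⟩, ξ, b1, b2, b3, b4⟩ := cl_step hH hN hτ h0 h.1 h.twR h1 a1
  have c0 := le_TS hH hN h1.ch
  have c1 := h.of_odd (TS_le hH) hτ h0 b1 b2 (k := 0) (by rw [b4 f h.1.ch, h.1.ip_self]; simp)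
  have c2 := b1.ch.mono (K_mono (inf_le_left (b := L)))
  obtain ⟨τ, hτ, h0⟩ := out_mul c0 (fun x hx => hm x hx.1) hτ h0
  refine c1.not_NH inf_le_left ht (NH.of_ip le_rfl hτ h0 c2 (b2.mono inf_le_left) c2
    (b2.mono inf_le_left) (k := 0) ?_)
  rw [ip, ← av_of_mul (K_mono inf_le_left) (K_mul c0 fun x hx => hm x hx.1), ← ip, b1.ip_self]
  · simp
  · intro n hn x hx
    rw [b1.mul_of_inv c0 (K_le.trans ((TS_le hH).trans hH)) h1 h2
      (fun t ht n hn => by rw [ht.1.2 n hn, ht.2]; simp) b3 hn hx, map_mul]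
    linear_combination ξ x * conj (ξ x) * lin_abs h1 h2 hn

theorem exists_lin {Z : Subgroup Γ} (hf : Ch N f) (h0 : f 1 ≠ 0) (hZ : Z ≤ N)
    (hc : ∀ a ∈ N, ∀ b ∈ N, ⁅a, b⁆ ∈ Z) (hz : ∀ z ∈ Z, f z = f 1) :
    ∃ lam, Irr N lam ∧ lam 1 = 1 ∧ ip N f lam ≠ 0 ∧ ∀ z ∈ Z, lam z = 1 := by
  obtain ⟨lam, a1, a2⟩ := hf.exists_irr h0
  have a3 : ∀ z ∈ Z, lam z = lam 1 := fun z h => hf.eq_of_ip a1 a2 (hZ h) (hz z h)
  have a4 : lam 1 = 1 := (deg_eq_one_iff a1.ch).1 (deg_eq_one_of_commutator_le a1 (by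
    rw [_root_.commutator_def, commutator_le]
    exact fun a _ b _ => (H6.mem_charKer a1.ch).2 (a3 _ (hc a a.2 b b.2))))
  exact ⟨lam, a1, a4, a2, fun z h => (a3 z h).trans a4⟩

theorem s_of_odd {a : Γ} {n : ℕ} (h : Odd n) (ha : a ^ n = 1) : s a = 1 := by
  rcases Int.units_eq_one_or (s a) with e | e
  · exact e
  · have := congrArg s ha
    rw [map_pow, e, h.neg_one_pow, map_one] at this
    exact absurd this (by decide)

theorem s_of_odd' {A : Subgroup Γ} (h : Odd (Nat.card A)) {a : Γ} (ha : a ∈ A) : s a = 1 :=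
  s_of_odd h (congrArg Subtype.val (pow_card_eq_one' (x := (⟨a, ha⟩ : A))))

theorem exists_sylow_sup {C E : Subgroup Γ} (h : C ≤ E) {k : ℕ} (hk : C.relIndex E = 2 ^ k) :
    ∃ P ≤ E, IsPGroup 2 P ∧ C ⊔ P = E := by
  obtain ⟨P⟩ : Nonempty (Sylow 2 E) := inferInstance
  refine ⟨(P : Subgroup E).map E.subtype, map_subtype_le _, P.isPGroup'.map _, ?_⟩
  have : C.subgroupOf E ⊔ P = ⊤ := by
    rw [← index_eq_one]
    refine Nat.eq_one_of_dvd_coprimes (Nat.Coprime.pow_left k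
      ((Nat.prime_two.coprime_iff_not_dvd).2 P.not_dvd_index)) ?_ (index_dvd_of_le le_sup_right)
    rw [← hk]; exact index_dvd_of_le le_sup_left
  have := congrArg (Subgroup.map E.subtype) this
  rwa [Subgroup.map_sup, map_subgroupOf_eq_of_le h, ← MonoidHom.range_eq_map,
    range_subtype] at this

variable (s) in
/-- Data of the Brauer-Witt reduction. -/
structure El (H : Subgroup Γ) (f : Γ → ℂ) (A P : Subgroup Γ) : Prop where
  hA : A ≤ H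
  hP : P ≤ H
  comm : ∀ a ∈ A, ∀ b ∈ A, a * b = b * a
  odd : Odd (Nat.card A)
  pg : IsPGroup 2 P
  norm : P ≤ normalizer (A : Set Γ)
  nh : NH s (A ⊔ P) f

theorem Bad.exists_el (h : Bad s H f) : ∃ A P, El s H f A P := by
  classical
  have := Fintype.ofFinite H
  have := Fintype.ofFinite (Subgroup H)
  obtain ⟨τ, hτ, h0, -⟩ := h.2
  let F : Γ → ℂ := fun x => if s x = 1 then f x * conj (f x) else 0
  have k0 : ∀ E ≤ H, ∀ τ ∈ E, s τ = -1 → 2 * av E F = ip (K s E) f f := fun E _ τ h1 h2 => by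
    rw [av_two h1 h2, av_congr (F' := fun _ => 0) (F := fun x => F (τ * x)) fun x hx =>
      if_neg (by rw [map_mul, h2, hx.2]; decide), av_const, add_zero]
    exact av_congr fun x hx => if_pos hx.2
  have k1 : ∀ E : Subgroup H, ∃ n : ℕ, 2 * av E (fun x => F x) = n ∧
      (Odd n → NH s (E.map H.subtype) f) := fun E => by
    rw [show av E (fun x => F x) = _ from (av_map H.subtype E F).symm]
    have e1 := map_subtype_le E
    generalize E.map H.subtype = E at e1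
    have e2 := h.1.ch.mono (K_mono e1)
    obtain ⟨n, hn⟩ := e2.ip_nat e2
    by_cases e : ∃ τ ∈ E, s τ = -1
    · obtain ⟨τ, h1, h2⟩ := e
      refine ⟨n, (k0 E e1 τ h1 h2).trans hn, fun ⟨j, hj⟩ => NH.of_ip le_rfl h1 h2 e2
        (h.twR.mono e1) e2 (h.twR.mono e1) (k := j) (by rw [hn, hj]; simp)⟩
    · have e3 : ∀ x ∈ E, s x = 1 := fun x hx =>
        (Int.units_eq_one_or _).resolve_right fun e' => e ⟨x, hx, e'⟩
      refine ⟨2 * n, ?_, fun ho => absurd ho (by simp)⟩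
      rw [Nat.cast_mul, ← hn, K_eq e3, av_congr fun x hx => if_pos (e3 x hx)]; rfl
  choose n hn hn' using k1
  obtain ⟨m, a, b1, b2, b3⟩ := H32.solomon_local (G := H) 2 Nat.prime_two
  have b4 : IsClassFunction H fun x => F x := fun x y => by
    have e0 : s (y * x * (y : Γ)⁻¹) = s x := by
      rw [map_mul, map_mul, map_inv, mul_inv_cancel_comm]
    change F (y * x * (y : Γ)⁻¹) = F x
    by_cases e : s x = 1
    · have e' : f (y * x * (y : Γ)⁻¹) * conj (f (y * x * (y : Γ)⁻¹)) = f x * conj (f x) := by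
        rcases Int.units_eq_one_or (s y) with e1 | e1
        · rw [h.1.ch.cj ⟨y.2, e1⟩ ⟨x.2, e⟩]
        · have := h.twR y y.2 e1 _ (inv_mem ⟨x.2, e⟩)
          rw [inv_inv, h.1.ch.inv ⟨x.2, e⟩] at this
          rw [this, Complex.conj_conj, mul_comm]
      simpa only [F, e, e0, if_true] using e'
    · simp only [F, e, e0, if_false]
  have b5 := congrArg (fun φ => 2 * classInner (fun x : H => F x) φ) b3
  simp only [classInner_sum_right, classInner_smul_right, Finset.mul_sum, map_intCast] at b5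
  rw [show (fun _ : H => (m : ℂ)) = (m : ℂ) • fun _ => 1 by ext; simp, classInner_smul_right,
    ← av_eq_inner, map_intCast, mul_left_comm, k0 H le_rfl τ hτ h0, h.1.ip_self, mul_one,
    Finset.sum_congr rfl (g := fun E => (a E : ℂ) * n E) fun E _ => by
      rw [classInner_indFun_right _ _ b4, ← av_eq_inner (F := fun x : H => F x), mul_left_comm,
        hn]] at b5
  have b6 : m = ∑ E, a E * n E := by exact_mod_cast b5
  obtain ⟨E, c1, c2⟩ : ∃ E, a E ≠ 0 ∧ Odd (n E) := by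
    by_contra! hc
    refine b1 (b6 ▸ Finset.dvd_sum fun E _ => ?_)
    by_cases e : a E = 0
    · simp [e]
    · exact Dvd.dvd.mul_left (by exact_mod_cast (Nat.not_odd_iff_even.1 (hc E e)).two_dvd) _
  obtain ⟨C, d1, d2, d3, d4, k, d5⟩ := b2 E c1
  obtain ⟨P, e1, e2, e3⟩ := exists_sylow_sup d1 d5
  refine ⟨C.map H.subtype, P.map H.subtype, map_subtype_le _, map_subtype_le _, ?_, ?_, e2.map _,
    (map_mono (e1.trans d2)).trans (le_normalizer_map _), ?_⟩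
  · rintro _ ⟨x, hx, rfl⟩ _ ⟨y, hy, rfl⟩
    exact congrArg (fun z : C => (z.1 : Γ)) (d3.commGroup.mul_comm ⟨x, hx⟩ ⟨y, hy⟩)
  · rw [card_map_of_injective H.subtype_injective]
    exact Nat.coprime_two_right.1 d4
  · rw [← Subgroup.map_sup, e3]; exact hn' E c2

end H85
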