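import Mathlib
import Cfsg.Agent.Lib.H85.Tw3
import Cfsg.Agent.Lib.Core.GrpBasic

/-! Twisted indicators: reduction to twisted trivial action. -/

set_option autoImplicit false
set_option linter.unusedSectionVars false
set_option linter.style.haveILetI false

namespace H85

open Cfsg H87 H7 Subgroup
open scoped ComplexConjugate commutatorElement Pointwise

variable {Γ : Type*} [Group Γ] [Finite Γ] {s : Γ →* ℤˣ} {H L N T A P : Subgroup Γ}
  {f g lam : Γ → ℂ} {τ : Γ}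

variable (s) in
/-- Twisted fixed points. -/
def TF (A P : Subgroup Γ) (hc : ∀ a ∈ A, ∀ b ∈ A, a * b = b * a) : Subgroup Γ where
  carrier := {a | a ∈ A ∧ ∀ x ∈ P, x * a * x⁻¹ = a ^ (s x : ℤ)}
  one_mem' := ⟨one_mem _, fun x _ => by simp⟩
  mul_mem' {a b} ha hb := ⟨mul_mem ha.1 hb.1, fun x hx => by
    rw [Commute.mul_zpow (hc a ha.1 b hb.1), ← ha.2 x hx, ← hb.2 x hx]; group⟩
  inv_mem' {a} ha := ⟨inv_mem ha.1, fun x hx => by rw [inv_zpow, ← ha.2 x hx]; group⟩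

theorem El.exists_TF (h : El s H f A P) {a : Γ} (ha : a ∈ A) : ∃ b ∈ TF s A P h.comm,
    ∀ lam : Γ → ℂ, lam 1 = 1 → (∀ a ∈ A, ∀ b ∈ A, lam (a * b) = lam a * lam b) →
      (∀ x ∈ P, ∀ n ∈ A, lam (x * n * x⁻¹) = lam (n ^ (s x : ℤ))) → lam b = lam a := by
  have := Fintype.ofFinite P
  letI : CommGroup A := { (inferInstance : Group A) with
    mul_comm := fun a b => Subtype.ext (h.comm a a.2 b b.2) }
  let tw : P → A →* A := fun x => MonoidHom.mk'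
    (fun a => ⟨(x * a * (x : Γ)⁻¹) ^ (s x : ℤ), zpow_mem (cj_mem (h.norm x.2) a.2) _⟩)
    fun a b => Subtype.ext (by
      simp only [coe_mul, conj_zpow, Commute.mul_zpow (h.comm a a.2 b b.2)]; group)
  have k : ∀ x y a, tw x (tw y a) = tw (x * y) a := fun x y a => Subtype.ext (by
    change (x.1 * (y.1 * a.1 * y.1⁻¹) ^ (s y : ℤ) * x.1⁻¹) ^ (s x : ℤ) =
      (x.1 * y.1 * a.1 * (x.1 * y.1)⁻¹) ^ (s (x.1 * y.1) : ℤ)
    simp only [conj_zpow, ← zpow_mul, map_mul, Units.val_mul, mul_comm (s x : ℤ)]; group)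
  obtain ⟨k0, hk⟩ := IsPGroup.iff_card.1 h.pg
  obtain ⟨c, hc⟩ := (powCoprime (G := A) (n := Nat.card P) (by
    rw [hk]; exact (Nat.coprime_two_right.2 h.odd).pow_right _)).surjective ⟨a, ha⟩
  refine ⟨(∏ x, tw x c : A), ⟨SetLike.coe_mem _, fun y hy => ?_⟩, fun lam l0 l1 l2 => ?_⟩
  · have : tw ⟨y, hy⟩ (∏ x, tw x c) = ∏ x, tw x c := by
      simp only [map_prod, k]
      exact Fintype.prod_equiv (Equiv.mulLeft ⟨y, hy⟩) _ _ fun _ => rfl
    have := congrArg (fun z : A => (z : Γ) ^ (s y : ℤ)) this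
    simp only [tw, MonoidHom.mk'_apply] at this
    rwa [← zpow_mul, ← Units.val_mul, Int.units_mul_self, Units.val_one, zpow_one] at this
  · let l : A →* ℂ := ⟨⟨fun a => lam a, l0⟩, fun a b => l1 a a.2 b b.2⟩
    change l _ = l ⟨a, ha⟩
    rw [map_prod, ← hc, powCoprime_apply, map_pow, Finset.prod_congr rfl (g := fun _ => l c),
      Finset.prod_const, Finset.card_univ, Nat.card_eq_fintype_card]
    intro x _
    change lam ((x * c * (x : Γ)⁻¹) ^ _) = lam c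
    rw [conj_zpow, l2 x x.2 _ (zpow_mem c.2 _), ← zpow_mul, ← Units.val_mul, Int.units_mul_self,
      Units.val_one, zpow_one]

theorem El.step (h : El s H f A P) (hf : Ch (K s H) f) (hr : TwR s H f)
    (hn : ¬ A ≤ TF s A P h.comm) :
    ∃ A' P', El s H f A' P' ∧ Nat.card A' + Nat.card P' < Nat.card A + Nat.card P := by
  have e1 : A ⊔ P ≤ H := sup_le h.hA h.hP
  have e2 : A ⊔ P ≤ normalizer (A : Set Γ) := sup_le le_normalizer h.norm
  have e3 : A ≤ K s (A ⊔ P) := fun a ha => ⟨mem_sup_left ha, s_of_odd' h.odd ha⟩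
  have e4 : ∀ x ∈ A ⊔ P, ∃ l ∈ P, x * l⁻¹ ∈ A := fun x => exists_mul_of_mem_sup h.norm
  have e5 := hf.mono (K_mono e1)
  obtain ⟨⟨τ, hτ, h0⟩, η, a1, a2, k, a3⟩ := h.nh
  by_cases hc : ∀ γ lam, Irr (K s (A ⊔ P)) γ → TwR s (A ⊔ P) γ →
      (∃ k : ℕ, ip (K s (A ⊔ P)) f γ = 2 * k + 1) → Irr A lam → ip A γ lam ≠ 0 → P ≤ TS s e2 lam
  · have b1 : TF s A P h.comm ≤ A := fun _ h => h.1
    have b2 : TF s A P h.comm ⊔ P ≤ A ⊔ P := sup_le_sup_right b1 _
    let M : Subgroup Γ :=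
      { carrier := {k | k ∈ K s (A ⊔ P) ∧ ∀ γ, Irr (K s (A ⊔ P)) γ → TwR s (A ⊔ P) γ →
          (∃ k : ℕ, ip (K s (A ⊔ P)) f γ = 2 * k + 1) → γ k = γ 1}
        one_mem' := ⟨one_mem _, fun _ _ _ _ => rfl⟩
        mul_mem' := fun {a b} ha hb => ⟨mul_mem ha.1 hb.1, fun γ c1 c2 c3 => by
          rw [c1.ch.mul_of_eq ha.1 (ha.2 γ c1 c2 c3) hb.1, hb.2 γ c1 c2 c3]⟩
        inv_mem' := fun {a} ha => ⟨inv_mem ha.1, fun γ c1 c2 c3 => by
          rw [← c1.ch.mul_of_eq ha.1 (ha.2 γ c1 c2 c3) (inv_mem ha.1), mul_inv_cancel]⟩ }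
    have b3 : ∀ x ∈ A ⊔ P, ∃ l ∈ TF s A P h.comm ⊔ P, x * l⁻¹ ∈ M := fun x hx => by
      obtain ⟨l, hl, c1⟩ := e4 x hx
      obtain ⟨b, hb, c2⟩ := h.exists_TF c1
      refine ⟨b * l, mul_mem (mem_sup_left hb) (mem_sup_right hl), ?_⟩
      rw [mul_inv_rev, ← mul_assoc]
      refine ⟨e3 (mul_mem c1 (inv_mem hb.1)), fun γ d1 d2 d3 => ?_⟩
      obtain ⟨lam, d4, d5, d6, -⟩ := exists_lin (Z := ⊥) (d1.ch.mono e3) d1.one_ne bot_le
        (fun a ha b hb => commutatorElement_eq_one_iff_mul_comm.2 (h.comm a ha b hb))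
        fun z hz => by rw [mem_bot.1 hz]
      have d7 := hc γ lam d1 d2 d3 d4 d6
      have d8 : A ⊔ P ≤ TS s e2 lam := sup_le ((le_TS e2 e3 d4.ch).trans K_le) d7
      have d9 := d1.mul_of_inv e3 (K_le.trans e2) d4 d5
        (fun t ht n hn => by rw [(d8 ht.1).2 n hn, ht.2]; simp) d6 (mul_mem c1 (inv_mem hb.1))
        (one_mem _)
      rw [mul_one, d4.lin_mul d5 c1 (inv_mem hb.1), ← c2 lam d5 (fun a ha b hb => d4.lin_mul d5 ha hb)
        fun x hx => (d7 hx).2, ← d4.lin_mul d5 hb.1 (inv_mem hb.1), mul_inv_cancel, d5,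
        one_mul] at d9
      exact d9
    have b4 : ∀ γ, Irr (K s (A ⊔ P)) γ → TwR s (A ⊔ P) γ →
        (∃ k : ℕ, ip (K s (A ⊔ P)) f γ = 2 * k + 1) →
        ip (K s (A ⊔ P)) γ η = ip (K s (TF s A P h.comm ⊔ P)) γ η := fun γ c1 c2 c3 => by
      have := K_mul (N := M) (fun _ h => h.1) b3
      rw [inf_eq_right.2 b2] at this
      refine av_of_mul (K_mono b2) this fun n hn x hx => ?_
      rw [c1.ch.mul_of_eq hn.1 (hn.2 γ c1 c2 c3) hx, a1.ch.mul_of_eq hn.1 (hn.2 η a1 a2 ⟨k, a3⟩) hx]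
    obtain ⟨τ, ⟨hτ, hτ'⟩, h0⟩ := out_mul e3 e4 hτ h0
    have b5 := a1.ch.mono (K_mono b2)
    obtain ⟨n, hn'⟩ := (e5.mono (K_mono b2)).ip_nat b5
    refine ⟨TF s A P h.comm, P, ⟨b1.trans h.hA, h.hP, fun a ha b hb => h.comm a ha.1 b hb.1,
      h.odd.of_dvd_nat (card_dvd_of_le b1), h.pg, fun y hy => ?_, ?_⟩, Nat.add_lt_add_right
      (H1.card_lt_of_lt (lt_of_le_not_ge b1 hn)) _⟩
    · have k : ∀ y ∈ P, ∀ a ∈ TF s A P h.comm, y * a * y⁻¹ ∈ TF s A P h.comm := fun y hy a ha =>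
        ha.2 y hy ▸ zpow_mem ha _
      exact mem_normalizer_iff.2 fun a => ⟨k y hy a, fun ha => by
        simpa [mul_assoc] using k _ (inv_mem hy) _ ha⟩
    rcases Nat.even_or_odd' n with ⟨j, rfl | rfl⟩
    · exfalso
      obtain ⟨γ, c1, c2, c3, c4⟩ := par_ch hτ h0 e5 (hr.mono e1)
        (avL (K s (TF s A P h.comm ⊔ P)) 1 (fun x => conj (η x)) -
          avL (K s (A ⊔ P)) 1 fun x => conj (η x)) (fun _ _ e => by
            simp only [LinearMap.sub_apply, avL_one]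
            rw [ip_congr e fun _ _ => rfl, ip_congr (fun x hx => e x (K_mono b2 hx)) fun _ _ => rfl])
        (fun γ c => by
          simp only [LinearMap.sub_apply, avL_one]
          exact ((c.ch.mono (K_mono b2)).ip_int b5).sub (c.ch.ip_int a1.ch))
        (fun γ c => by
          simp only [LinearMap.sub_apply, avL_one]
          rw [← ip_sh (norm_K hτ) γ η, ← ip_sh (norm_K (mem_sup_right hτ')) γ η,
            ← ip_congr (fun _ _ => rfl) fun x hx => a2 τ hτ h0 x hx,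
            ← ip_congr (fun _ _ => rfl) fun x hx => a2 τ hτ h0 x (K_mono b2 hx)])
        (k := j - k - 1) (by
          simp only [LinearMap.sub_apply, avL_one, hn', a3]; push_cast; ring)
      refine c4 ?_
      simp only [LinearMap.sub_apply, avL_one, b4 γ c1 c2 c3, sub_self, zero_div]
      exact isIntegral_zero
    · exact NH.of_ip le_rfl (mem_sup_right hτ') h0 (e5.mono (K_mono b2)) ((hr.mono e1).mono b2)
        b5 (a2.mono b2) (k := j) (by simpa using hn')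
  · push Not at hc
    obtain ⟨γ, lam, c1, c2, ⟨j, c3⟩, c4, c5, c6⟩ := hc
    obtain ⟨d0, ξ, d1, d2, -, d4⟩ := cl_step e2 e3 hτ h0 c1 c2 c4 c5
    have d5 : A ⊔ P ⊓ TS s e2 lam = TS s e2 lam := by
      have d6 := (le_TS e2 e3 c4.ch).trans K_le
      refine le_antisymm (sup_le d6 inf_le_right) fun x hx => ?_
      obtain ⟨l, hl, e⟩ := e4 x hx.1
      simpa using mul_mem (mem_sup_left e) (mem_sup_right (S := A) (T := P ⊓ TS s e2 lam)
        ⟨hl, by simpa using mul_mem (inv_mem (d6 e)) hx⟩)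
    exact ⟨A, P ⊓ TS s e2 lam, ⟨h.hA, inf_le_left.trans h.hP, h.comm, h.odd, h.pg.to_inf_left,
      inf_le_left.trans h.norm, d5.symm ▸ ⟨d0, ξ, d1, d2, j, (d4 f e5).trans c3⟩⟩,
      Nat.add_lt_add_left (H1.card_lt_of_lt (inf_lt_left.2 c6)) _⟩

theorem Bad.exists_el_tw (h : Bad s H f) :
    ∃ A P, El s H f A P ∧ ∀ x ∈ P, ∀ a ∈ A, x * a * x⁻¹ = a ^ (s x : ℤ) := by
  obtain ⟨A, P, h1⟩ := h.exists_el
  induction hn : Nat.card A + Nat.card P using Nat.strong_induction_on generalizing A P with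
  | _ n ih =>
  by_cases e : A ≤ TF s A P h1.comm
  · exact ⟨A, P, h1, fun x hx a ha => (e ha).2 x hx⟩
  · obtain ⟨A', P', a1, a2⟩ := h1.step h.1.ch h.twR e
    exact ih _ (hn ▸ a2) A' P' a1 rfl

/-- An abelian subgroup with twisted trivial action can be adjoined. -/
theorem TW.sup (h : TW s L) (hc : ∀ a ∈ A, ∀ b ∈ A, a * b = b * a) (hs : ∀ a ∈ A, s a = 1)
    (ht : ∀ x ∈ L, ∀ a ∈ A, x * a * x⁻¹ = a ^ (s x : ℤ)) : TW s (A ⊔ L) := fun f hf => by
  have k : ∀ y ∈ L, ∀ a ∈ A, y * a * y⁻¹ ∈ A := fun y hy a ha => ht y hy a ha ▸ zpow_mem ha _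
  have e1 : L ≤ normalizer (A : Set Γ) := fun y hy => mem_normalizer_iff.2 fun a =>
    ⟨k y hy a, fun ha => by simpa [mul_assoc] using k _ (inv_mem hy) _ ha⟩
  have e3 : A ≤ K s (A ⊔ L) := fun a ha => ⟨mem_sup_left ha, hs a ha⟩
  obtain ⟨lam, d4, d5, d6, -⟩ := exists_lin (Z := ⊥) (hf.1.ch.mono e3) hf.1.one_ne bot_le
    (fun a ha b hb => commutatorElement_eq_one_iff_mul_comm.2 (hc a ha b hb))
    fun z hz => by rw [mem_bot.1 hz]
  refine hf.cla (sup_le le_normalizer e1) e3 (fun x => exists_mul_of_mem_sup e1) d4 d5 d6 ?_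
  rwa [inf_eq_right.2 fun x hx => ⟨mem_sup_right hx, fun n hn => by rw [ht x hx n hn]⟩]

end H85
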