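import Mathlib
import Cfsg.Agent.Lib.H85.Tw4

/-! Twisted indicators: the Heisenberg step. -/

set_option autoImplicit false
set_option linter.unusedSectionVars false
set_option linter.style.haveILetI false

namespace H85

open Cfsg H87 H7 Subgroup
open scoped ComplexConjugate commutatorElement Pointwise

variable {Γ : Type*} [Group Γ] [Finite Γ] {s : Γ →* ℤˣ} {H L N T X Z S P : Subgroup Γ}
  {f g : Γ → ℂ} {τ a b z : Γ}

theorem omega_ip {ω ω' : ℂ} (hz : z ∈ X) (h1 : ∀ x ∈ X, f (z * x) = ω * f x)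
    (h2 : ∀ x ∈ X, g (z * x) = ω' * g x) (h : ip X f g ≠ 0) : ω * conj ω' = 1 := by
  refine mul_right_cancel₀ h ?_
  rw [one_mul, ip, ← av_mul_left, ← av_mul hz fun x => f x * conj (g x)]
  exact av_congr fun x hx => by rw [h1 x hx, h2 x hx, map_mul]; ring

theorem Irr.same_omega {ω : ℂ} (hg : Irr X g) (hz : z ∈ X) (hc : ∀ x ∈ X, x * z = z * x)
    (h1 : ∀ x ∈ X, f (z * x) = ω * f x) (h : ip X f g ≠ 0) : ∀ x ∈ X, g (z * x) = ω * g x := by
  obtain ⟨ω', -, h2⟩ := hg.exists_mul hz hc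
  have a1 := omega_ip hz h1 h2 h
  have a2 := omega_ip hz h2 h2 (by rw [hg.ip_self]; exact one_ne_zero)
  rwa [show ω = ω' by linear_combination ω' * a1 - ω * a2]

theorem Ch.phi (h : Ch X f) (hN : N ≤ X) (hX : X ≤ normalizer (N : Set Γ)) :
    Ch X fun x => av N fun n => f (n * x) := by
  classical
  have := normal_subgroupOf_of_le_normalizer hX
  have := Fintype.ofFinite (N.subgroupOf X)
  choose m hm using fun γ : IrrCharacter X => h.ip_nat (irr_ext γ).ch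
  have := H6.isCharacter_sum_irr fun γ : IrrCharacter X =>
    if N.subgroupOf X ≤ H6.charKer (γ : X → ℂ) then m γ else 0
  unfold Ch
  convert this using 2 with x
  beta_reduce
  rw [av_congr fun n hn => h.expand (mul_mem (hN hn) x.2), av_sum, Finset.sum_apply]
  refine Finset.sum_congr rfl fun γ _ => ?_
  rw [av_mul_left, hm, Pi.smul_apply, smul_eq_mul]
  split_ifs with e
  · rw [av_congr (F' := fun _ => (γ : X → ℂ) x) fun n hn => by
      rw [(irr_ext γ).ch.mul_of_eq (hN hn) ((H6.mem_charKer (irr_ext γ).ch (g := ⟨n, hN hn⟩)).1 (by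
        simpa only [extendByZero_coe] using e (x := ⟨n, hN hn⟩) hn)) x.2, extendByZero_coe],
      av_const]
  · rw [← av_subgroupOf hN, av_eq]
    simp only [← coe_mul, extendByZero_coe, sum_normal_mul_eq_zero γ.2 _ e x, Nat.cast_zero,
      mul_zero, zero_mul]

theorem fpf_surj (hZ : Z ≤ N) (hb : b ∈ normalizer (N : Set Γ))
    (hc : ∀ z ∈ Z, ∀ x ∈ N, x * z = z * x) (hc' : ∀ z ∈ Z, b * z = z * b)
    (h : ∀ d ∈ N, b⁻¹ * d * b * d⁻¹ ∈ Z → d ∈ Z) {n : Γ} (hn : n ∈ N) :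
    ∃ m ∈ N, ∃ z ∈ Z, n * b = m * (z * b) * m⁻¹ := by
  let φ : N → N := fun m => m * ⟨b * m⁻¹ * b⁻¹, cj_mem hb (inv_mem m.2)⟩
  have k : Function.Injective fun q : N ⧸ Z.subgroupOf N => (φ q.out : N ⧸ Z.subgroupOf N) := by
    intro q q' e
    beta_reduce at e
    rw [← q.out_eq', ← q'.out_eq']
    generalize q.out = m at e ⊢
    generalize q'.out = m' at e ⊢
    rw [QuotientGroup.eq, mem_subgroupOf] at e ⊢
    refine h _ (m⁻¹ * m').2 ?_
    simp only [φ, coe_mul, coe_inv] at e ⊢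
    obtain ⟨z, e', hz⟩ : ∃ z, _ = z ∧ z ∈ Z := ⟨_, rfl, e⟩
    have e1 : b⁻¹ * ((m : Γ)⁻¹ * m') * b = m.1⁻¹ * (b⁻¹ * z * b) * m' := by rw [← e']; group
    rw [e1, mul_assoc b⁻¹, ← hc' z hz, inv_mul_cancel_left, hc z hz _ (inv_mem m.2)]
    simpa [mul_assoc] using hz
  obtain ⟨q, hq⟩ := Finite.surjective_of_injective k (⟨n, hn⟩ : N)
  rw [QuotientGroup.eq, mem_subgroupOf] at hq
  generalize q.out = m at hq
  simp only [φ, coe_mul, coe_inv] at hq
  obtain ⟨z, e', hz⟩ : ∃ z, _ = z ∧ z ∈ Z := ⟨_, rfl, hq⟩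
  refine ⟨m, m.2, z, hz, ?_⟩
  have e1 : n * b = m * b * m.1⁻¹ * (b⁻¹ * (z * b)) := by rw [← e']; group
  rw [e1, ← hc' z hz, inv_mul_cancel_left, mul_assoc, hc z hz _ (inv_mem m.2)]; group

theorem fpf_mul {y : Γ} (hy : y ∈ H) (ha : a ∈ H) (hN : N ≤ H)
    (hc : ∀ z ∈ Z, ∀ x ∈ H, x * z = z * x) (ho : Odd (orderOf a)) (h2 : ∃ k, y ^ 2 ^ k = 1)
    (hay : Commute a y) (h : ∀ d ∈ N, a⁻¹ * d * a * d⁻¹ ∈ Z → d ∈ Z) :
    ∀ d ∈ N, (a * y)⁻¹ * d * (a * y) * d⁻¹ ∈ Z → d ∈ Z := fun d hd e => by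
  obtain ⟨k, hk⟩ := h2
  have k1 : ∀ j : ℕ, ((a * y) ^ j)⁻¹ * d * (a * y) ^ j * d⁻¹ ∈ Z := fun j => by
    induction j with
    | zero => simp
    | succ j ih =>
      have := hc _ ih _ (inv_mem (mul_mem ha hy))
      convert mul_mem ih e using 1
      rw [mul_assoc (a * y)⁻¹, mul_assoc (a * y)⁻¹, ← mul_assoc _ (a * y)⁻¹, ← this, pow_succ]
      group
  obtain ⟨j, hj⟩ := (Submonoid.mem_powers_iff _ _).1 (mem_powers_iff_mem_zpowers.2
    (mem_zpowers_pow_iff.2 ((Nat.coprime_two_left.2 ho).pow_left k)))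
  refine h d hd ?_
  have := k1 (2 ^ k * j)
  rwa [pow_mul, hay.mul_pow, hk, mul_one, hj] at this

theorem Ch.phi_fpf (hf : Ch X f) (hN : N ≤ X) (hZ : Z ≤ N) (hb : b ∈ X)
    (hX : X ≤ normalizer (N : Set Γ)) (hc : ∀ z ∈ Z, ∀ x ∈ X, x * z = z * x)
    (hz : ∀ z ∈ Z, f (z * b) = f b) (h : ∀ d ∈ N, b⁻¹ * d * b * d⁻¹ ∈ Z → d ∈ Z) :
    (av N fun n => f (n * b)) = f b := by
  rw [av_congr (F' := fun _ => f b), av_const]
  intro n hn
  obtain ⟨m, hm, z, h1, h2⟩ := fpf_surj hZ (hX hb) (fun z h x hx => hc z h x (hN hx))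
    (fun z h => hc z h b hb) h hn
  rw [h2, hf.cj (hN hm) (mul_mem (hN (hZ h1)) hb), hz z h1]

theorem av_vanish (hZ : Z ≤ N) (h1 : ∀ z ∈ Z, f z = f 1) (h2 : ∀ n ∈ N, n ∉ Z → f n = 0) :
    av N f = (Nat.card Z : ℂ) / Nat.card N * f 1 := by
  classical
  rw [← av_const Z (f 1), ← av_ind hZ]
  refine av_congr fun x hx => ?_
  split_ifs with e
  exacts [h1 x e, h2 x hx e]

theorem Ch.vanish {ω : ℂ} (hf : Ch N f) (hω : ω ≠ 1) (h1 : ∀ x ∈ N, f (z * x) = ω * f x) {n : Γ}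
    (hn : n ∈ N) (h : ∃ m ∈ N, m * n * m⁻¹ = z * n) : f n = 0 := by
  obtain ⟨m, hm, e⟩ := h
  have := hf.cj hm hn
  rw [e, h1 n hn] at this
  exact mul_left_cancel₀ (sub_ne_zero.2 hω) (by linear_combination this)

theorem Irr.res_of_cyc (hf : Irr (N ⊔ zpowers a) f) (ha : a ∈ normalizer (N : Set Γ))
    (h : ∀ θ, Irr N θ → ip N f θ ≠ 0 → ∀ n ∈ N, θ (a * n * a⁻¹) = θ n) : Irr N f := by
  have e1 : N ≤ N ⊔ zpowers a := le_sup_left
  have e2 : N ⊔ zpowers a ≤ normalizer (N : Set Γ) := sup_le le_normalizer (zpowers_le.2 ha)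
  obtain ⟨θ, h1, h2⟩ := (hf.ch.mono e1).exists_irr hf.one_ne
  have := normal_subgroupOf_of_le_normalizer e2
  have := Fintype.ofFinite (N.subgroupOf (N ⊔ zpowers a))
  have h3 := (irr_subgroupOf e1).2 h1
  have h4 := h θ h1 h2
  rw [← ip_subgroupOf e1, ip_eq] at h2
  replace h2 := (over_iff (χ := fun x : ↥(N ⊔ zpowers a) => f x)).2 h2
  let a' : ↥(N ⊔ zpowers a) := ⟨a, mem_sup_right (mem_zpowers a)⟩
  have h5 : N.subgroupOf (N ⊔ zpowers a) ⊔ zpowers a' = ⊤ := by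
    apply map_injective (N ⊔ zpowers a).subtype_injective
    rw [Subgroup.map_sup, map_subgroupOf_eq_of_le e1, MonoidHom.map_zpowers,
      ← MonoidHom.range_eq_map, range_subtype]; rfl
  have h6 : inertia (fun n : N.subgroupOf (N ⊔ zpowers a) => θ n) = ⊤ := by
    rw [eq_top_iff, ← h5]
    exact sup_le (le_inertia (H6.irr_isClassFunction h3))
      (zpowers_le.2 (mem_inertia'.2 fun n => h4 n n.2))
  have h7 : IsCyclic (↥(N ⊔ zpowers a) ⧸ N.subgroupOf (N ⊔ zpowers a)) := by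
    refine ⟨⟨a', fun x => ?_⟩⟩
    have := congrArg (Subgroup.map (QuotientGroup.mk' (N.subgroupOf (N ⊔ zpowers a)))) h5
    rw [Subgroup.map_sup, QuotientGroup.map_mk'_self, bot_sup_eq, MonoidHom.map_zpowers,
      map_top_of_surjective _ (QuotientGroup.mk'_surjective _)] at this
    exact this.ge (mem_top x)
  have h8 := h2.deg_eq_of_isCyclic h7 h3 hf
  rw [h6, index_top, one_mul] at h8
  exact h1.congr fun x hx => (h2.eq_of_deg_le hf.ch h3 h8.le ⟨⟨x, e1 hx⟩, hx⟩).symm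

theorem Ch.int_av (hg : Ch X g) (hS : S ≤ X) (ha : a ∈ X) (hc : ∀ x ∈ X, x * a = a * x)
    (hf : Ch S f) : IsIntegral ℤ (av S fun y => f y * conj (g (a * y))) := by
  rw [av_congr fun y hy => by rw [hg.expand (mul_mem ha (hS hy)), map_sum, Finset.mul_sum], av_sum]
  refine IsIntegral.sum _ fun γ _ => ?_
  obtain ⟨ω, h1, h2⟩ := (irr_ext γ).exists_mul ha hc
  obtain ⟨n, hn⟩ := hg.ip_nat (irr_ext γ).ch
  rw [av_congr (F' := fun y => (n * conj ω) * (f y * conj (extendByZero X γ y))) fun y hy => by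
    rw [h2 y (hS hy), hn]; simp only [map_mul, map_natCast]; ring, av_mul_left]
  refine (IsIntegral.mul ?_ ?_).mul (hf.ip_int ((irr_ext γ).ch.mono hS))
  · exact_mod_cast isIntegral_algebraMap (x := (n : ℤ)) (A := ℂ)
  · exact H8.isIntegral_of_pow_eq_one (orderOf_pos a) (by rw [← map_pow, h1, map_one])

theorem Ch.ratio (hf : Ch X f) (ha : a ∈ X) {u v : ℂ}
    (h : ∀ β, Irr X β → ip X f β ≠ 0 → β a * u = β 1 * v) : f a * u = f 1 * v := by
  rw [hf.expand ha, hf.expand (one_mem _), Finset.sum_mul, Finset.sum_mul]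
  refine Finset.sum_congr rfl fun γ _ => ?_
  by_cases e : ip X f (extendByZero X γ) = 0
  · simp [e]
  · rw [mul_assoc, h _ (irr_ext γ) e, mul_assoc]

theorem Ch.ip_trans (hf : Ch X f) (hg : Irr X g) (h : ip X f g ≠ 0) (hS : S ≤ X) {β : Γ → ℂ}
    (hβ : Ch S β) (h' : ip S g β ≠ 0) : ip S f β ≠ 0 := by
  have := Fintype.ofFinite X
  have := Fintype.ofFinite S
  rw [ip_eq] at h h' ⊢
  exact inner_comp_ne_zero_of_constituent (inclusion hS) hf hg h hβ h'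

end H85
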