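import Mathlib
import Cfsg.Agent.Lib.H85.Tw5

/-! Twisted indicators: the Heisenberg step, main lemma. -/

set_option autoImplicit false
set_option linter.unusedSectionVars false
set_option linter.style.haveILetI false

namespace H85

open Cfsg H87 H7 Subgroup
open scoped ComplexConjugate commutatorElement Pointwise

variable {Γ : Type*} [Group Γ] [Finite Γ] {s : Γ →* ℤˣ} {H L N T X Z S P : Subgroup Γ}
  {f g : Γ → ℂ} {τ a b z : Γ}

variable (s) in
/-- The Heisenberg situation. -/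
structure Heis (H N L Z : Subgroup Γ) (a : Γ) : Prop where
  hN : N ≤ K s H
  norm : H ≤ normalizer (N : Set Γ)
  pg : IsPGroup 2 N
  hL : L ≤ H
  hm : ∀ x ∈ H, ∃ l ∈ L, x * l⁻¹ ∈ N
  hZ : Z ≤ N
  cen : ∀ z ∈ Z, ∀ x ∈ H, x * z = z * x
  ha : a ∈ L
  odd : Odd (orderOf a)
  tw : ∀ l ∈ L, l * a * l⁻¹ = a ^ (s l : ℤ)
  fpf : ∀ d ∈ N, a⁻¹ * d * a * d⁻¹ ∈ Z → d ∈ Z
  cam : ∀ n ∈ N, n ∉ Z → ∀ z ∈ Z, ∃ m ∈ N, m * n * m⁻¹ = z * n

theorem Heis.haK (h : Heis s H N L Z a) : a ∈ K s L :=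
  ⟨h.ha, s_of_odd h.odd (pow_orderOf_eq_one a)⟩

theorem Heis.comm (h : Heis s H N L Z a) {l : Γ} (hl : l ∈ K s L) : l * a = a * l := by
  have := h.tw l hl.1
  rwa [hl.2, Units.val_one, zpow_one, mul_inv_eq_iff_eq_mul] at this

theorem Heis.val (h : Heis s H N L Z a) {ω : ℂ} (hz : z ∈ Z) (hω : ω ≠ 1) {α : Γ → ℂ}
    (hα : Irr (N ⊔ zpowers a) α) (h1 : ∀ x ∈ N, α (z * x) = ω * α x) :
    α a * conj (α a) = 1 ∧ (Nat.card Z : ℂ) / Nat.card N * (α 1 * conj (α 1)) = 1 := by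
  have e1 : N ≤ N ⊔ zpowers a := le_sup_left
  have e0 : N ⊔ zpowers a ≤ H := sup_le (h.hN.trans K_le) (zpowers_le.2 (h.hL h.ha))
  have e2 : a ∈ N ⊔ zpowers a := mem_sup_right (mem_zpowers a)
  have e3 : ∀ z ∈ Z, ∀ x ∈ N ⊔ zpowers a, x * z = z * x := fun z hz x hx => h.cen z hz x (e0 hx)
  have a1 : Irr N α := hα.res_of_cyc (h.norm (e0 e2)) fun θ b1 b2 n hn => by
    have b3 := b1.same_omega (h.hZ hz) (fun x hx => e3 z hz x (e1 hx)) h1 b2
    by_cases e : n ∈ Z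
    · rw [e3 n e a e2, mul_inv_cancel_right]
    · have b4 := cj_mem (h.norm (e0 e2)) hn
      rw [b1.ch.vanish hω b3 hn (h.cam n hn e z hz), b1.ch.vanish hω b3 b4 (h.cam _ b4 (fun e' => e (by
        have := e3 _ e' a⁻¹ (inv_mem e2)
        rw [show a⁻¹ * (a * n * a⁻¹) = n * a⁻¹ by group, mul_left_inj] at this
        exact this ▸ e')) z hz)]
  have a2 : ∀ z ∈ Z, ∀ x ∈ N ⊔ zpowers a, α (z * x) * conj (α (z * x)) = α x * conj (α x) :=
    fun z hz x hx => by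
      obtain ⟨ω, -, b1⟩ := hα.exists_mul (e1 (h.hZ hz)) (e3 z hz)
      have := omega_ip (e1 (h.hZ hz)) b1 b1 (by rw [hα.ip_self]; exact one_ne_zero)
      rw [b1 x hx, map_mul]; linear_combination α x * conj (α x) * this
  have a3 := hα.ch.mul hα.ch.conj
  have a4 := a3.phi e1 (e0.trans h.norm)
  have a5 : (av N fun n => α (n * 1) * conj (α (n * 1))) = 1 := by
    simpa only [mul_one, ip] using a1.ip_self
  refine ⟨?_, ?_⟩
  · rw [← a3.phi_fpf e1 h.hZ e2 (e0.trans h.norm) e3 (fun z hz => a2 z hz a e2) h.fpf]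
    refine Irr.eq (g := fun _ => 1) (f := fun x => av N fun n => α (n * x) * conj (α (n * x)))
      (H6.isIrrCharacter_of_one_eq_one (G := ↥(N ⊔ zpowers a)) a4 a5) H6.isIrrCharacter_one ?_ a e2
    rw [ip]
    simp only [map_one, mul_one]
    rw [av_av e1 fun x => α x * conj (α x), ← ip, hα.ip_self]
    exact one_ne_zero
  · rw [← av_vanish (f := fun x => α x * conj (α x)) h.hZ (fun z hz => by
      simpa only [mul_one] using a2 z hz 1 (one_mem _)) fun n hn e => by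
        rw [a1.ch.vanish hω h1 hn (h.cam n hn e z hz), zero_mul]]
    exact a1.ip_self

theorem Heis.phi (h : Heis s H N L Z a) (hf : Irr (K s H) f) (hz : z ∈ Z) (h0 : f z ≠ f 1)
    (hX : X ≤ K s H) (hM : N ⊔ zpowers a ≤ X) (hg : Irr X g) (h1 : ip X f g ≠ 0) :
    f a * conj (g a) = av N fun n => f n * conj (g n) := by
  have e1 : N ≤ N ⊔ zpowers a := le_sup_left
  have e2 : a ∈ N ⊔ zpowers a := mem_sup_right (mem_zpowers a)
  have e3 := hM.trans hX
  have k : ∀ z ∈ Z, ∃ ω, (∀ x ∈ K s H, f (z * x) = ω * f x) ∧ (∀ x ∈ X, g (z * x) = ω * g x) ∧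
      ω * conj ω = 1 := fun z hz => by
    obtain ⟨ω, -, b1⟩ := hf.exists_mul (h.hN (h.hZ hz)) fun x hx => h.cen z hz x hx.1
    exact ⟨ω, b1, hg.same_omega (hM (e1 (h.hZ hz))) (fun x hx => h.cen z hz x (hX hx).1)
      (fun x hx => b1 x (hX hx)) h1,
      omega_ip (h.hN (h.hZ hz)) b1 b1 (by rw [hf.ip_self]; exact one_ne_zero)⟩
  obtain ⟨ω, a1, -, -⟩ := k z hz
  have a2 : ω ≠ 1 := fun e => h0 (by simpa [e] using a1 1 (one_mem _))
  obtain ⟨α, b1, b2⟩ := (hg.ch.mono hM).exists_irr hg.one_ne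
  have b3 := (hf.ch.mono hX).ip_trans hg h1 hM b1.ch b2
  obtain ⟨c1, c2⟩ := h.val hz a2 b1 fun x hx => b1.same_omega (e1 (h.hZ hz))
    (fun x hx => h.cen z hz x (e3 hx).1) (fun x hx => a1 x (e3 hx)) b3 x (e1 hx)
  have b4 : ∀ t ∈ K s H, ∃ n ∈ N, t * a * t⁻¹ = n * a * n⁻¹ := fun t ht => by
    obtain ⟨l, hl, d⟩ := K_mul h.hN h.hm t ht
    refine ⟨_, d, ?_⟩
    rw [mul_assoc t l⁻¹, h.comm (inv_mem ⟨hl.1.2, hl.2⟩)]; group
  have b5 : K s H ≤ normalizer ((N ⊔ zpowers a : Subgroup Γ) : Set Γ) := by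
    have : ∀ t ∈ K s H, ∀ x ∈ N ⊔ zpowers a, t * x * t⁻¹ ∈ N ⊔ zpowers a := fun t ht x hx => by
      have : N ⊔ zpowers a ≤ (N ⊔ zpowers a).comap (MulAut.conj t).toMonoidHom := by
        refine sup_le (fun n hn => e1 (cj_mem (h.norm ht.1) hn)) (zpowers_le.2 ?_)
        obtain ⟨n, hn, e⟩ := b4 t ht
        change t * a * t⁻¹ ∈ N ⊔ zpowers a
        exact e ▸ mul_mem (mul_mem (e1 hn) e2) (inv_mem (e1 hn))
      exact this hx
    exact fun t ht => mem_normalizer_iff.2 fun x => ⟨this t ht x, fun hx => by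
      simpa [mul_assoc] using this _ (inv_mem ht) _ hx⟩
  have b6 : ∀ β, Irr (N ⊔ zpowers a) β → ip (N ⊔ zpowers a) f β ≠ 0 → β a * α 1 = β 1 * α a :=
    fun β d1 d2 => by
      obtain ⟨t, ht, d3⟩ := hf.exists_cj e3 b5 b1 d1 b3 d2
      obtain ⟨n, hn, e⟩ := b4 t ht
      rw [d3 a e2, d3 1 (one_mem _), e, b1.ch.cj (e1 hn) e2, mul_one, mul_inv_cancel, mul_comm]
  have d1 := (hf.ch.mono e3).ratio e2 b6
  have d2 := congrArg conj ((hg.ch.mono hM).ratio e2 fun β d1 d2 =>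
    b6 β d1 ((hf.ch.mono hX).ip_trans hg h1 hM d1.ch d2))
  rw [map_mul, map_mul] at d2
  rw [av_vanish (f := fun x => f x * conj (g x)) h.hZ (fun z hz => by
    obtain ⟨ω, a1, a2, a3⟩ := k z hz
    have b1 := a1 1 (one_mem _)
    have b2 := a2 1 (one_mem _)
    rw [mul_one] at b1 b2
    rw [b1, b2, map_mul]; linear_combination f 1 * conj (g 1) * a3) fun n hn e => by
      rw [(hf.ch.mono h.hN).vanish a2 (fun x hx => a1 x (h.hN hx)) hn (h.cam n hn e z hz), zero_mul]]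
  generalize (Nat.card Z : ℂ) / Nat.card N = c at c2 ⊢
  linear_combination (-(f a * conj (g a))) * c2 + c * conj (g a) * conj (α 1) * d1 +
    c * f 1 * α a * d2 + c * f 1 * conj (g 1) * c1

theorem Heis.not_tw (h : Heis s H N L Z a) (hf : Bad s H f) (hz : z ∈ Z) (h0 : f z ≠ f 1)
    (hP : P ≤ H) (h2 : IsPGroup 2 P) (hn : NH s P f) : ¬ TW s L := fun ht => by
  have e0 := h.hN.trans K_le
  have e1 : N ⊔ P ≤ H := sup_le e0 hP
  set S := (N ⊔ P) ⊓ L with hS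
  have e2 : IsPGroup 2 S := (h.pg.to_sup_of_normal_left' h2 (hP.trans h.norm)).to_inf_left
  set L1 := zpowers a ⊔ S with hL1
  have e3 : L1 ≤ L := sup_le (zpowers_le.2 h.ha) inf_le_right
  have e4 : N ⊔ L1 ≤ H := sup_le e0 (e3.trans h.hL)
  have e5 : P ≤ N ⊔ L1 := fun x hx => by
    obtain ⟨l, hl, e⟩ := h.hm x (hP hx)
    simpa using mul_mem (mem_sup_left e) (mem_sup_right (S := N) (mem_sup_right (S := zpowers a)
      (T := S) ⟨by simpa using mul_mem (inv_mem (mem_sup_left e)) (mem_sup_right hx), hl⟩))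
  obtain ⟨-, χ, a1, a2, k, a3⟩ := hn.up e5 (hf.1.ch.mono (K_mono e4)) (hf.twR.mono e4)
  obtain ⟨τ, hτ, t0⟩ : ∃ τ ∈ S, s τ = -1 := by
    obtain ⟨τ, hτ, t0⟩ := hn.1
    exact out_mul (fun n hn => ⟨mem_sup_left hn, (h.hN hn).2⟩) (fun x hx => h.hm x (e1 hx))
      (mem_sup_right hτ) t0
  have b1 : N ≤ K s (N ⊔ L1) := fun n hn => ⟨mem_sup_left hn, (h.hN hn).2⟩
  have b2 : a ∈ K s L1 := ⟨mem_sup_left (mem_zpowers a), h.haK.2⟩
  have b3 : K s L1 ≤ K s (N ⊔ L1) := K_mono le_sup_right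
  have b4 : K s S ≤ K s L1 := K_mono le_sup_right
  have b5 : ip (K s (N ⊔ L1)) f χ ≠ 0 := by rw [a3]; exact_mod_cast Nat.succ_ne_zero (2 * k)
  have b6 := (hf.1.ch.mono (K_mono e4)).mul a1.ch.conj
  have b7 := (K_le (s := s)).trans (e4.trans h.norm)
  have b8 := b6.phi b1 b7
  have c1 : ∀ y ∈ K s S, (av N fun n => f (n * (a * y)) * conj (χ (n * (a * y)))) =
      f (a * y) * conj (χ (a * y)) := fun y hy => by
    refine b6.phi_fpf b1 h.hZ (b3 (mul_mem b2 (b4 hy))) b7 (fun z hz x hx => h.cen z hz x (e4 hx.1))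
      (fun z hz => ?_) (fpf_mul (h.hL hy.1.2) (h.hL h.ha) e0 h.cen h.odd
        ((e2 ⟨y, hy.1⟩).imp fun k hk => congrArg Subtype.val hk) (h.comm ⟨hy.1.2, hy.2⟩).symm h.fpf)
    obtain ⟨ω, -, d1⟩ := hf.1.exists_mul (h.hN (h.hZ hz)) fun x hx => h.cen z hz x hx.1
    obtain ⟨ω', -, d2⟩ := a1.exists_mul (b1 (h.hZ hz)) fun x hx => h.cen z hz x (e4 hx.1)
    have d3 := b3 (mul_mem b2 (b4 hy))
    rw [d1 _ (K_mono e4 d3), d2 _ d3, map_mul]
    linear_combination f (a * y) * conj (χ (a * y)) *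
      omega_ip (b1 (h.hZ hz)) (fun x hx => d1 x (K_mono e4 hx)) d2 b5
  have c2 : ∀ x ∈ K s (N ⊔ L1), (av N fun n => f (n * (a * x)) * conj (χ (n * (a * x)))) =
      av N fun n => f (n * x) * conj (χ (n * x)) := fun x hx => by
    refine b8.mul_of_eq (b3 b2) ?_ hx
    have := c1 1 (one_mem _)
    simp only [mul_one] at this ⊢
    rw [this]
    exact h.phi hf.1 hz h0 (K_mono e4) (sup_le b1 (zpowers_le.2 (b3 b2))) a1 b5
  have c3 : ip (K s (N ⊔ L1)) f χ = avL (K s S) a (fun y => conj (χ (a * y))) f := by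
    have d1 := K_mul (s := s) (T := N ⊔ L1) (L := L1) b1 fun x =>
      exists_mul_of_mem_sup (e3.trans (h.hL.trans h.norm))
    have d2 := K_mul (s := s) (T := L1) (L := S) (zpowers_le.2 b2) fun x =>
      exists_mul_of_mem_sup fun y hy => by
        have k : ∀ y ∈ L, ∀ x ∈ zpowers a, y * x * y⁻¹ ∈ zpowers a := by
          rintro y hy _ ⟨j, rfl⟩
          rw [← conj_zpow, h.tw y hy]; exact zpow_mem (zpow_mem (mem_zpowers a) _) _
        exact mem_normalizer_iff.2 fun x => ⟨k y hy.2 x, fun hx => by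
          simpa [mul_assoc] using k _ (inv_mem hy.2) _ hx⟩
    rw [inf_eq_right.2 le_sup_right] at d1 d2
    rw [ip, ← av_av b1, av_of_mul b3 d1 fun n hn x hx => by
      simpa only [mul_assoc] using av_mul' hn fun m => f (m * x) * conj (χ (m * x)),
      av_of_mul b4 d2, avL_apply]
    · exact av_congr fun y hy => (c2 y (b3 (b4 hy))).symm.trans (c1 y hy)
    · intro n hn x hx
      obtain ⟨j, rfl⟩ := (Submonoid.mem_powers_iff _ _).1 (mem_powers_iff_mem_zpowers.2 hn)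
      induction j with
      | zero => simp
      | succ j ih =>
        rw [pow_succ', mul_assoc, c2 _ (b3 (mul_mem (pow_mem b2 j) hx)),
          ih (pow_mem (mem_zpowers a) j)]
  obtain ⟨γ, d1, d2, d3, -⟩ := par_ch hτ.2 t0 (hf.1.ch.mono (K_mono h.hL)) (hf.twR.mono h.hL)
    (avL (K s S) a fun y => conj (χ (a * y)))
    (fun _ _ e => by
      rw [avL_apply, avL_apply]
      exact av_congr fun y hy => by rw [e _ (mul_mem h.haK (K_mono e3 (b4 hy)))])
    (fun γ d => by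
      obtain ⟨ω, d1, d2⟩ := d.exists_mul h.haK fun x => h.comm
      rw [avL_apply, av_congr (F' := fun y => ω * (γ y * conj (χ (a * y)))) fun y hy => by
        rw [d2 y (K_mono e3 (b4 hy)), mul_assoc], av_mul_left]
      exact (H8.isIntegral_of_pow_eq_one (orderOf_pos a) d1).mul ((a1.ch.mono b3).int_av b4 b2
        (fun x hx => h.comm (K_mono e3 hx)) (d.ch.mono (b4.trans (K_mono e3)))))
    (fun γ _ => by
      rw [avL_apply, avL_apply, ← av_cj (norm_K hτ) fun x => γ (a * x) * conj (χ (a * x)), ← av_inv]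
      refine av_congr fun y hy => ?_
      have e : τ * (a * y⁻¹)⁻¹ * τ⁻¹ = a * (τ * y * τ⁻¹) := by
        have := h.tw τ hτ.2
        rw [t0, Units.val_neg, Units.val_one, zpow_neg_one] at this
        rw [← h.comm (K_mono e3 (b4 (cj_mem_K hτ hy))), show τ * (a * y⁻¹)⁻¹ * τ⁻¹ =
          τ * y * τ⁻¹ * (τ * a * τ⁻¹)⁻¹ by group, this, inv_inv]
      rw [← e, a2 τ (mem_sup_right (mem_sup_right hτ)) t0 _ (b3 (mul_mem b2 (b4 (inv_mem hy))))])
    (k := k) (by rw [← c3, a3]; simp)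
  exact hf.not_NH h.hL ht ⟨⟨τ, hτ.2, t0⟩, γ, d1, d2, d3⟩

end H85
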