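import Mathlib
import Cfsg.Agent.Lib.H85.Tw6

/-! Quadratic spaces over `ZMod 2` with a commutative star ring of operators. -/

set_option autoImplicit false
set_option linter.unusedSectionVars false
set_option linter.style.haveILetI false

namespace H85

open Subgroup

section dual

variable {M : Type*} [AddCommGroup M]

theorem exists_fun (h2 : ∀ x : M, x + x = 0) {X : Type*} (p : X → M) (c : X → ZMod 2)
    (h0 : ∃ x, p x = 0) (h1 : ∀ x y, ∃ z, p z = p x + p y ∧ c z = c x + c y)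
    (h : ∀ x y, p x = p y → c x = c y) : ∃ ψ : M →+ ZMod 2, ∀ x, ψ (p x) = c x := by
  letI : Module (ZMod 2) M := AddCommGroup.zmodModule fun x => by rw [two_nsmul, h2]
  let W : AddSubgroup M :=
    { carrier := Set.range p
      zero_mem' := h0
      add_mem' := by
        rintro _ _ ⟨x, rfl⟩ ⟨y, rfl⟩
        exact (h1 x y).imp fun z hz => hz.1
      neg_mem' := fun {x} hx => by rwa [neg_eq_of_add_eq_zero_left (h2 x)] }
  let φ : W.toZModSubmodule 2 →+ ZMod 2 := AddMonoidHom.mk' (fun w => c w.2.choose) fun a b => by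
    obtain ⟨z, h3, h4⟩ := h1 a.2.choose b.2.choose
    rw [← h4]
    exact h _ _ (by rw [h3, a.2.choose_spec, b.2.choose_spec, (a + b).2.choose_spec]; rfl)
  obtain ⟨ψ, hψ⟩ := LinearMap.exists_extend (φ.toZModLinearMap 2)
  refine ⟨ψ, fun x => (LinearMap.congr_fun hψ ⟨p x, x, rfl⟩).trans (h _ _ ?_)⟩
  exact Exists.choose_spec (p := fun y => p y = p x) _

theorem exists_fun_ne (h2 : ∀ x : M, x + x = 0) (W : AddSubgroup M) {z : M} (hz : z ∉ W) :
    ∃ ψ : M →+ ZMod 2, ψ z = 1 ∧ ∀ w ∈ W, ψ w = 0 := by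
  letI : Module (ZMod 2) M := AddCommGroup.zmodModule fun x => by rw [two_nsmul, h2]
  obtain ⟨ψ, h1, h3⟩ := LinearMap.exists_extend_of_notMem
    (0 : W.toZModSubmodule 2 →ₗ[ZMod 2] ZMod 2) (v := z) hz 1
  exact ⟨ψ, h3, fun w hw => LinearMap.congr_fun h1 ⟨w, hw⟩⟩

theorem exists_rep [Finite M] (h2 : ∀ x : M, x + x = 0) (B : M →+ M →+ ZMod 2)
    (h : ∀ x, (∀ y, B x y = 0) → x = 0) (φ : M →+ ZMod 2) : ∃ x, ∀ y, B x y = φ y := by
  letI : Module (ZMod 2) M := AddCommGroup.zmodModule fun x => by rw [two_nsmul, h2]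
  let L : M →ₗ[ZMod 2] Module.Dual (ZMod 2) M :=
    ((AddMonoidHom.toZModLinearMapEquiv 2).toAddMonoidHom.comp B).toZModLinearMap 2
  obtain ⟨x, hx⟩ := (LinearMap.injective_iff_surjective_of_finrank_eq_finrank
    Subspace.dual_finrank_eq.symm (f := L)).1 ((injective_iff_map_eq_zero L).2 fun x hx =>
      h x fun y => LinearMap.congr_fun hx y) (φ.toZModLinearMap 2)
  exact ⟨x, fun y => LinearMap.congr_fun hx y⟩

end dual

variable {R V : Type*} [CommRing R] [StarRing R] [AddCommGroup V] [Module R V]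

variable (R V) in
/-- Quadratic space with operators. -/
structure Geo where
  Q : V → ZMod 2
  B : V →+ V →+ ZMod 2
  two : ∀ x : V, x + x = 0
  polar : ∀ x y, Q (x + y) = Q x + Q y + B x y
  adj : ∀ (r : R) x y, B (r • x) y = B x (star r • y)
  qstar : ∀ (r : R) x, Q (r • x) = Q (star r • x)
  nondeg : ∀ x, (∀ y, B x y = 0) → x = 0

/-- Apply the star or not. -/
def tw (ε : ℤˣ) (r : R) : R := if ε = 1 then r else star r

@[simp] theorem tw_one (r : R) : tw 1 r = r := if_pos rfl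

@[simp] theorem tw_neg (r : R) : tw (-1) r = star r := if_neg (by decide)

theorem tw_mul (a b : ℤˣ) (r : R) : tw (a * b) r = tw a (tw b r) := by
  rcases Int.units_eq_one_or a with rfl | rfl <;> rcases Int.units_eq_one_or b with rfl | rfl <;>
    simp

theorem tw_tw (a : ℤˣ) (r : R) : tw a (tw a r) = r := by
  rw [← tw_mul, Int.units_mul_self, tw_one]

theorem tw_of_sa (a : ℤˣ) {r : R} (h : star r = r) : tw a r = r := by
  rcases Int.units_eq_one_or a with rfl | rfl <;> simp [h]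

theorem tw_star (a : ℤˣ) (r : R) : tw a (star r) = star (tw a r) := by
  rcases Int.units_eq_one_or a with rfl | rfl <;> simp

theorem tw_mul' (a : ℤˣ) (r t : R) : tw a (r * t) = tw a r * tw a t := by
  rcases Int.units_eq_one_or a with rfl | rfl <;> simp

theorem zm2 (a : ZMod 2) : a + a = 0 := CharTwo.add_self_eq_zero a

namespace Geo

variable (g : Geo R V)

theorem symm (x y : V) : g.B x y = g.B y x := by
  have := g.polar x y
  rw [add_comm x, g.polar, add_comm (g.Q y)] at this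
  exact (add_left_cancel this).symm

theorem Q_zero : g.Q 0 = 0 := by simpa [zm2] using g.polar 0 0

theorem B_self (x : V) : g.B x x = 0 := by
  simpa [g.two, g.Q_zero, zm2] using (g.polar x x).symm

theorem adj' (r : R) (x y : V) : g.B x (r • y) = g.B (star r • x) y := by rw [g.adj, star_star]

include g in
theorem neg (x : V) : -x = x := neg_eq_of_add_eq_zero_left (g.two x)

include g in
theorem sub (x y : V) : x - y = x + y := by rw [sub_eq_add_neg, g.neg]

include g in
theorem eq_of_add {x y : V} (h : x + y = 0) : x = y := by rwa [← g.sub, sub_eq_zero] at h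

theorem ext_B {x y : V} (h : ∀ z, g.B x z = g.B y z) : x = y :=
  g.eq_of_add (g.nondeg _ fun z => by simp [h, zm2])

/-- Orthogonal complement. -/
def perp (W : Submodule R V) : Submodule R V where
  carrier := {y | ∀ x ∈ W, g.B x y = 0}
  zero_mem' _ _ := map_zero _
  add_mem' ha hb x hx := by rw [map_add, ha x hx, hb x hx, add_zero]
  smul_mem' r y hy x hx := by rw [g.adj', hy _ (W.smul_mem _ hx)]

/-- Nondegenerate submodule. -/
def ND (W : Submodule R V) : Prop := ∀ x ∈ W, x ∈ g.perp W → x = 0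

/-- Restriction to a nondegenerate submodule. -/
def res (W : Submodule R V) (h : g.ND W) : Geo R W where
  Q x := g.Q x
  B := (g.B.comp W.subtype.toAddMonoidHom).compl₂ W.subtype.toAddMonoidHom
  two x := Subtype.ext (g.two x)
  polar x y := g.polar x y
  adj r x y := g.adj r x y
  qstar r x := g.qstar r x
  nondeg x hx := Subtype.ext (h x x.2 fun y hy => (g.symm _ _).trans (hx ⟨y, hy⟩))

variable {g} [Finite V] {W : Submodule R V}

theorem ND.exists (h : g.ND W) (z : V) : ∃ x ∈ W, ∃ y ∈ g.perp W, z = x + y := by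
  obtain ⟨x, hx⟩ := exists_rep (g.res W h).two (g.res W h).B (g.res W h).nondeg
    ((g.B z).comp W.subtype.toAddMonoidHom)
  refine ⟨x, x.2, x + z, fun y hy => ?_, by rw [← add_assoc, g.two, zero_add]⟩
  rw [map_add, g.symm y, g.symm y z, show g.B x y = g.B z y from hx ⟨y, hy⟩, zm2]

theorem ND.isCompl (h : g.ND W) : IsCompl W (g.perp W) :=
  ⟨Submodule.disjoint_def.2 h, codisjoint_iff.2 (eq_top_iff.2 fun z _ => by
    obtain ⟨x, hx, y, hy, rfl⟩ := h.exists z
    exact Submodule.add_mem_sup hx hy)⟩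

theorem ND.perp (h : g.ND W) : g.ND (g.perp W) := fun x hx hx' => g.nondeg x fun z => by
  obtain ⟨a, ha, b, hb, rfl⟩ := h.exists z
  rw [g.symm, map_add, AddMonoidHom.add_apply, hx a ha, hx' b hb, add_zero]

theorem mem_of_perp {z : V} (h : z ∈ g.perp (g.perp W)) : z ∈ W := by
  by_contra hz
  obtain ⟨ψ, h1, h2⟩ := exists_fun_ne g.two W.toAddSubgroup hz
  obtain ⟨x, hx⟩ := exists_rep g.two g.B g.nondeg ψ
  have := h x fun y hy => by rw [g.symm, hx, h2 y hy]
  rw [hx, h1] at this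
  exact one_ne_zero this

end Geo

/-- The ambient group. -/
abbrev Am (V : Type*) := Equiv.Perm V × ℤˣ

/-- The sign. -/
abbrev sg (V : Type*) : Am V →* ℤˣ := MonoidHom.snd _ _

namespace Geo

variable (g : Geo R V)

/-- Semilinear isometries. -/
structure Iso (x : Am V) : Prop where
  add : ∀ y z, x.1 (y + z) = x.1 y + x.1 z
  smul : ∀ (r : R) y, x.1 (r • y) = tw x.2 r • x.1 y
  q : ∀ y, g.Q (x.1 y) = g.Q y

/-- Semilinear isometries fixing `X` pointwise. -/
def GG (X : Set V) : Subgroup (Am V) where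
  carrier := {x | g.Iso x ∧ ∀ y ∈ X, x.1 y = y}
  one_mem' := ⟨⟨fun _ _ => rfl, fun r y => by simp, fun _ => rfl⟩, fun _ _ => rfl⟩
  mul_mem' {a b} ha hb := ⟨⟨fun y z => by simp [ha.1.add, hb.1.add],
    fun r y => by simp [ha.1.smul, hb.1.smul, tw_mul], fun y => by simp [ha.1.q, hb.1.q]⟩,
    fun y hy => by simp [ha.2 y hy, hb.2 y hy]⟩
  inv_mem' {a} ha := ⟨⟨fun y z => a.1.injective (by simp [ha.1.add]),
    fun r y => a.1.injective (by simp [ha.1.smul, tw_tw]), fun y => by rw [← ha.1.q]; simp⟩,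
    fun y hy => Equiv.Perm.inv_eq_iff_eq.2 (ha.2 y hy).symm⟩

/-- Stabilizer of a subset. -/
def St (W : Set V) : Subgroup (Am V) where
  carrier := {x | ∀ y, x.1 y ∈ W ↔ y ∈ W}
  one_mem' _ := Iff.rfl
  mul_mem' ha hb y := (ha _).trans (hb y)
  inv_mem' {a} ha y := by rw [← ha]; simp

variable {g} {x : Am V}

theorem Iso.b (h : g.Iso x) (y z : V) : g.B (x.1 y) (x.1 z) = g.B y z := by
  have := g.polar (x.1 y) (x.1 z)
  rw [← h.add, h.q, h.q, h.q, g.polar] at this
  exact (add_left_cancel this).symm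

theorem Iso.zero (h : g.Iso x) : x.1 0 = 0 := by simpa [g.two] using h.add 0 0

theorem Iso.inv (h : g.Iso x) : g.Iso x⁻¹ := ((g.GG ∅).inv_mem ⟨h, by simp⟩).1

theorem GG_anti {X Y : Set V} (h : X ⊆ Y) : g.GG Y ≤ g.GG X := fun _ hx =>
  ⟨hx.1, fun y hy => hx.2 y (h hy)⟩

theorem mem_St [Finite V] {W : Set V} (h : ∀ y ∈ W, x.1 y ∈ W) : x ∈ St W := fun y =>
  ⟨fun hy => by
    obtain ⟨z, hz, e⟩ := ((Set.toFinite W).injOn_iff_bijOn_of_mapsTo h).1
      x.1.injective.injOn |>.surjOn hy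
    exact x.1.injective e ▸ hz, h y⟩

theorem Iso.st_perp (h : g.Iso x) {W : Submodule R V} (hW : x ∈ St (W : Set V)) :
    x ∈ St (g.perp W : Set V) := fun y =>
  ⟨fun hy z hz => by rw [← h.b, hy _ ((hW z).2 hz)], fun hy z hz => by
    rw [← h.inv.b]; simpa using hy _ ((inv_mem hW z).2 hz)⟩

theorem Iso.mem_span (h : g.Iso x) {X : Set V} (hX : ∀ y ∈ X, x.1 y ∈ Submodule.span R X) :
    ∀ y ∈ Submodule.span R X, x.1 y ∈ Submodule.span R X := fun y hy => by
  induction hy using Submodule.span_induction with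
  | mem y hy => exact hX y hy
  | zero => rw [h.zero]; exact zero_mem _
  | add y z _ _ a b => rw [h.add]; exact add_mem a b
  | smul r y _ a => rw [h.smul]; exact Submodule.smul_mem _ _ a

theorem Iso.sq_fix (h : g.Iso x) {X : Set V} (hX : ∀ y ∈ X, x.1 y = y) :
    ∀ y ∈ Submodule.span R X, x.1 (x.1 y) = y := fun y hy => by
  induction hy using Submodule.span_induction with
  | mem y hy => rw [hX y hy, hX y hy]
  | zero => rw [h.zero, h.zero]
  | add y z _ _ a b => rw [h.add, h.add, a, b]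
  | smul r y _ a => rw [h.smul, h.smul, a, tw_tw]

theorem Iso.fix (h : g.Iso x) (hs : ∀ r : R, tw x.2 r = r) {X : Set V} (hX : ∀ y ∈ X, x.1 y = y) :
    ∀ y ∈ Submodule.span R X, x.1 y = y := fun y hy => by
  induction hy using Submodule.span_induction with
  | mem y hy => exact hX y hy
  | zero => exact h.zero
  | add y z _ _ a b => rw [h.add, a, b]
  | smul r y _ a => rw [h.smul, a, hs]

variable [Finite V]

theorem tw_span {X : Set V} (h : Submodule.span R X = ⊤) : TW (sg V) (g.GG X) :=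
  TW.of_inv fun _ hx _ => Prod.ext (Equiv.ext fun y => hx.1.sq_fix hx.2 y (h ▸ trivial))
    (Int.units_mul_self _)

theorem tw_coiso {X : Set V} (hs : ∀ r : R, star r = r)
    (h : g.perp (Submodule.span R X) ≤ Submodule.span R X) : TW (sg V) (g.GG X) :=
  TW.of_inv fun x hx _ => Prod.ext (Equiv.ext fun y => by
    have k := hx.1.fix (fun r => tw_of_sa _ (hs r)) hx.2
    have := k (x.1 y + y) (h fun z hz => by rw [map_add, ← hx.1.b z y, k z hz, zm2])
    rw [hx.1.add, add_comm (x.1 y) y] at this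
    exact add_right_cancel this)
    (Int.units_mul_self _)

theorem split {W : Submodule R V} (h : g.ND W) {X₁ : Set W} {X₂ : Set (g.perp W)}
    (h1 : TW (sg _) ((g.res W h).GG X₁)) (h2 : TW (sg _) ((g.res _ h.perp).GG X₂))
    {H : Subgroup (Am V)} (hH : ∀ x, x ∈ H ↔ g.Iso x ∧ x ∈ St (W : Set V) ∧
      (∀ y ∈ X₁, x.1 y = y) ∧ ∀ y ∈ X₂, x.1 y = y) : TW (sg V) H := by
  let e := (Submodule.prodEquivOfIsCompl _ _ h.isCompl).toEquiv
  let φ : Am W × Am (g.perp W) →* Am V := MonoidHom.mk'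
    (fun x => (e.permCongr (x.1.1.prodCongr x.2.1), x.1.2)) fun a b => Prod.ext
      (Equiv.ext fun y => by simp [Prod.map_map]) rfl
  have k : ∀ x (y : W) (z : g.perp W), (φ x).1 (y + z) = x.1.1 y + x.2.1 z := fun x y z => by
    change e ((x.1.1.prodCongr x.2.1) (e.symm (e (y, z)))) = _
    rw [e.symm_apply_apply]; rfl
  have k' : ∀ z : V, ∃ (a : W) (b : g.perp W), z = (a : V) + b := fun z => by
    obtain ⟨a, ha, b, hb, e⟩ := h.exists z
    exact ⟨⟨a, ha⟩, ⟨b, hb⟩, e⟩
  convert (h1.fp h2).map (s := sg V) φ fun _ _ => rfl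
  ext x
  rw [hH]
  constructor
  · rintro ⟨a1, a2, a3, a4⟩
    have a5 := a1.st_perp a2
    refine ⟨((x.1.subtypePerm a2, x.2), (x.1.subtypePerm a5, x.2)), ⟨⟨⟨⟨fun y z =>
      Subtype.ext (a1.add y z), fun r y => Subtype.ext (a1.smul r y), fun y => a1.q y⟩,
      fun y hy => Subtype.ext (a3 y hy)⟩, ⟨fun y z => Subtype.ext (a1.add y z),
      fun r y => Subtype.ext (a1.smul r y), fun y => a1.q y⟩,
      fun y hy => Subtype.ext (a4 y hy)⟩, rfl⟩, Prod.ext (Equiv.ext fun z => ?_) rfl⟩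
    obtain ⟨a, b, rfl⟩ := k' z
    rw [k, a1.add]; rfl
  · rintro ⟨x, ⟨⟨a1, a2⟩, a3⟩, rfl⟩
    have k1 : ∀ y : W, (φ x).1 y = x.1.1 y := fun y => by simpa [a2.1.zero] using k x y 0
    refine ⟨⟨fun y z => ?_, fun r y => ?_, fun y => ?_⟩, mem_St fun y hy => ?_, fun y hy => ?_,
      fun y hy => ?_⟩
    · obtain ⟨a, b, rfl⟩ := k' y
      obtain ⟨c, d, rfl⟩ := k' z
      rw [add_add_add_comm, ← Submodule.coe_add, ← Submodule.coe_add, k, k, k, a1.1.add, a2.1.add,
        Submodule.coe_add, Submodule.coe_add, add_add_add_comm]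
    · obtain ⟨a, b, rfl⟩ := k' y
      rw [smul_add, ← Submodule.coe_smul, ← Submodule.coe_smul, k, k, a1.1.smul, a2.1.smul,
        smul_add, show x.2.2 = x.1.2 from Eq.symm a3]; rfl
    · obtain ⟨a, b, rfl⟩ := k' y
      rw [k, g.polar, g.polar, (x.2.1 b).2 _ (x.1.1 a).2, b.2 _ a.2]
      exact congrArg₂ _ (congrArg₂ _ (a1.1.q a) (a2.1.q b)) rfl
    · exact k1 ⟨y, hy⟩ ▸ (x.1.1 ⟨y, hy⟩).2
    · rw [k1, a1.2 y hy]
    · simpa [a1.1.zero, a2.2 y hy] using k x 0 y

end Geo

end H85
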