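import Mathlib
import Cfsg.Agent.Lib.H85.Geo1

/-! Enlarging the operator ring; hermitian forms. -/

set_option autoImplicit false
set_option linter.unusedSectionVars false
set_option linter.style.haveILetI false

namespace H85

open Subgroup

universe u

section env

variable {R : Type*} {V : Type u} [CommRing R] [StarRing R] [AddCommGroup V] [Module R V]

/-- An isometry as an additive endomorphism. -/
def Geo.Iso.hom {g : Geo R V} {x : Am V} (h : g.Iso x) : AddMonoid.End V :=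
  AddMonoidHom.mk' x.1 h.add

theorem Geo.exists_env [Finite V] (g : Geo R V) {A : Subgroup (Am V)}
    (hA : A ≤ K (sg V) (g.GG ∅)) (hc : ∀ a ∈ A, ∀ b ∈ A, a * b = b * a) :
    ∃ (R' : Type u) (_ : CommRing R') (_ : StarRing R') (_ : Module R' V) (g' : Geo R' V)
      (φ : R →+* R'), Finite R' ∧ g'.Q = g.Q ∧ g'.B = g.B ∧ (∀ r (y : V), φ r • y = r • y) ∧
      (∀ r : R', (∀ y : V, r • y = 0) → r = 0) ∧ (∀ a ∈ A, ∃ r : R', ∀ y, r • y = a.1 y) ∧
      ∀ P : R' → Prop, (∀ r, P (φ r)) → (∀ a ∈ A, ∀ r, (∀ y, r • y = a.1 y) → P r) →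
        (∀ a b, P a → P b → P (a + b)) → (∀ a b, P a → P b → P (a * b)) → ∀ r, P r := by
  let ψ := Module.toAddMonoidEnd R V
  let S : Set (AddMonoid.End V) := Set.range ψ ∪ {e | ∃ a ∈ A, ∀ y, e y = a.1 y}
  have lin : ∀ a ∈ A, ∀ (r : R) y, a.1 (r • y) = r • a.1 y := fun a ha r y => by
    rw [(hA ha).1.1.smul, show a.2 = 1 from (hA ha).2, tw_one]
  have hS : ∀ x ∈ S, ∀ y ∈ S, x * y = y * x := by
    rintro _ (⟨r, rfl⟩ | ⟨a, ha, h⟩) _ (⟨t, rfl⟩ | ⟨b, hb, k⟩)
    · rw [← map_mul, mul_comm, map_mul]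
    · exact AddMonoidHom.ext fun y => ((k _).trans ((lin b hb r y).trans
        (congrArg (r • ·) (k y).symm))).symm
    · exact AddMonoidHom.ext fun y => (h _).trans ((lin a ha t y).trans
        (congrArg (t • ·) (h y).symm))
    · refine AddMonoidHom.ext fun y => ?_
      exact ((h _).trans (congrArg _ (k y))).trans ((congrArg (fun x : Am V => x.1 y)
        (hc a ha b hb)).trans ((k _).trans (congrArg _ (h y))).symm)
  let T := Subring.closure S
  have cm := Subring.isMulCommutative_closure hS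
  letI : CommRing T := { (inferInstance : Ring T) with mul_comm := cm.1.1 }
  let φ : R →+* T := ψ.codRestrict T fun r => Subring.subset_closure (Or.inl ⟨r, rfl⟩)
  have hm : ∀ a ∈ A, ∃ r : T, ∀ y, r • y = a.1 y := fun a ha =>
    ⟨⟨(hA ha).1.1.hom, Subring.subset_closure (Or.inr ⟨a, ha, fun _ => rfl⟩)⟩, fun _ => rfl⟩
  have ind : ∀ P : T → Prop, (∀ r, P (φ r)) → (∀ a ∈ A, ∀ r, (∀ y, r • y = a.1 y) → P r) →
      (∀ a b, P a → P b → P (a + b)) → (∀ a b, P a → P b → P (a * b)) → ∀ r, P r := by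
    rintro P h1 h2 h3 h4 ⟨r, hr⟩
    induction hr using Subring.closure_induction with
    | mem x hx =>
      rcases hx with ⟨r, rfl⟩ | ⟨a, ha, h⟩
      exacts [h1 r, h2 a ha _ h]
    | zero => have := h1 0; rwa [map_zero] at this
    | one => have := h1 1; rwa [map_one] at this
    | add _ _ _ _ a b => exact h3 _ _ a b
    | mul _ _ _ _ a b => exact h4 _ _ a b
    | neg _ _ a => have := h4 _ _ (h1 (-1)) a; rwa [map_neg, map_one, neg_one_mul] at this
  have fa : ∀ r : T, (∀ y : V, r • y = 0) → r = 0 := fun r h =>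
    Subtype.ext (AddMonoidHom.ext h)
  have ad : ∀ t : T, ∃ t' : T, (∀ x y, g.B (t • x) y = g.B x (t' • y)) ∧
      ∀ x, g.Q (t • x) = g.Q (t' • x) := by
    refine ind _ (fun r => ⟨φ (star r), g.adj r, g.qstar r⟩) (fun a ha r h => ?_) ?_ ?_
    · obtain ⟨r', h'⟩ := hm _ (inv_mem ha)
      refine ⟨r', fun x y => ?_, fun x => by rw [h, h', (hA ha).1.1.q, (hA ha).1.1.inv.q]⟩
      rw [h, h', ← (hA ha).1.1.b x]; simp
    · rintro a b ⟨a', a1, a2⟩ ⟨b', b1, b2⟩
      refine ⟨a' + b', fun x y => by simp [add_smul, a1, b1], fun x => ?_⟩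
      rw [add_smul, add_smul, g.polar, g.polar, a2, b2, a1, ← b1, g.symm x, smul_smul, smul_smul,
        mul_comm]
    · rintro a b ⟨a', a1, a2⟩ ⟨b', b1, b2⟩
      refine ⟨b' * a', fun x y => by rw [mul_smul, a1, b1, mul_smul], fun x => ?_⟩
      rw [mul_smul, a2, smul_smul, mul_comm, mul_smul, b2, mul_smul]
  choose st s1 s2 using ad
  have uq : ∀ t t' : T, (∀ x y, g.B x (t • y) = g.B x (t' • y)) → t = t' := fun t t' h =>
    Subtype.ext (AddMonoidHom.ext fun y => g.ext_B fun z => by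
      rw [g.symm, g.symm _ z]; exact h z y)
  letI : StarRing T :=
    { star := st
      star_involutive := fun t => uq _ _ fun x y => by rw [← s1, g.symm, ← s1, g.symm]
      star_mul := fun a b => uq _ _ fun x y => by rw [← s1, mul_smul, s1, s1, mul_smul]
      star_add := fun a b => uq _ _ fun x y => by simp [← s1, add_smul] }
  have : Finite (AddMonoid.End V) := DFunLike.finite (V →+ V)
  exact ⟨T, inferInstance, inferInstance, inferInstance,
    ⟨g.Q, g.B, g.two, g.polar, s1, s2, g.nondeg⟩, φ, inferInstance, rfl, rfl, fun _ _ => rfl, fa,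
    hm, ind⟩

end env

variable {R V : Type*} [CommRing R] [StarRing R] [AddCommGroup V] [Module R V]

variable (R) in
/-- Conditions on the operator ring. -/
structure RG : Prop where
  two : ∀ r : R, r + r = 0
  fin : Finite R
  pw : ∀ r : R, ∃ k, 0 < k ∧ r ^ 2 ^ k = r
  gen : ∀ r : R, r + star r ∈ Ideal.span {b | ∃ a : R, a * star a = 1 ∧ b = a + 1}

variable (R) in
/-- Nonzero selfadjoint elements are units. -/
def Prim : Prop := ∀ t : R, star t = t → t ≠ 0 → IsUnit t

theorem add_pw {S : Type*} [CommRing S] (h : ∀ r : S, r + r = 0) (x y : S) (n : ℕ) :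
    (x + y) ^ 2 ^ n = x ^ 2 ^ n + y ^ 2 ^ n := by
  induction n with
  | zero => simp
  | succ n ih =>
    rw [pow_succ 2 n, pow_mul, pow_mul, pow_mul, ih]
    linear_combination h (x ^ 2 ^ n * y ^ 2 ^ n)

theorem pw_mul {S : Type*} [Monoid S] {x : S} {k : ℕ} (h : x ^ 2 ^ k = x) (j : ℕ) :
    x ^ 2 ^ (k * j) = x := by
  induction j with
  | zero => simp
  | succ j ih => rw [Nat.mul_succ, pow_add, pow_mul, ih, h]

theorem Geo.eq_of_smul (_g : Geo R V) (fa : ∀ r : R, (∀ y : V, r • y = 0) → r = 0) {r t : R}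
    (h : ∀ y : V, r • y = t • y) : r = t :=
  sub_eq_zero.1 (fa _ fun y => by rw [sub_smul, h, sub_self])

theorem Geo.star_smul (g : Geo R V) {r : R} {t : V → V} (h : ∀ x y, g.B (r • x) y = g.B x (t y))
    (y : V) : star r • y = t y :=
  g.ext_B fun z => by rw [g.symm, ← g.adj, h, g.symm]

theorem Geo.exists_env' {V : Type u} [AddCommGroup V] [Module R V] [Finite V] (g : Geo R V)
    (hR : RG R) {A : Subgroup (Am V)} (hA : A ≤ g.GG ∅) (hc : ∀ a ∈ A, ∀ b ∈ A, a * b = b * a)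
    (ho : Odd (Nat.card A)) :
    ∃ (R' : Type u) (_ : CommRing R') (_ : StarRing R') (_ : Module R' V) (g' : Geo R' V),
      RG R' ∧ (∀ r : R', (∀ y : V, r • y = 0) → r = 0) ∧
      ∀ X x, x ∈ g'.GG X ↔ x ∈ g.GG X ∧ ∀ a ∈ A, x * a * x⁻¹ = a ^ (x.2 : ℤ) := by
  have hs : ∀ a ∈ A, a.2 = 1 := fun a ha => s_of_odd' (s := sg V) ho ha
  obtain ⟨R', _, _, _, g', φ, h1, h2, h3, h4, fa, h5, ind⟩ :=
    g.exists_env (A := A) (fun a ha => ⟨hA ha, hs a ha⟩) hc
  have two : ∀ r : R', r + r = 0 := fun r => fa _ fun y => by rw [add_smul, g.two]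
  have k1 : ∀ r, star (φ r) = φ (star r) := fun r => g'.eq_of_smul fa
    (g'.star_smul fun x y => by rw [h3, h4, h4, g.adj])
  have k2 : ∀ a ∈ A, ∀ r : R', (∀ y, r • y = a.1 y) → ∀ y, star r • y = a⁻¹.1 y :=
    fun a ha r h => g'.star_smul fun x y => by rw [h3, h, ← (hA ha).1.b x]; simp
  have k3 : ∀ (ε : ℤˣ) r, tw ε (φ r) = φ (tw ε r) := fun ε r => by
    rcases Int.units_eq_one_or ε with rfl | rfl <;> simp [k1]
  have k4 : ∀ (ε : ℤˣ), ∀ a ∈ A, ∀ r : R', (∀ y, r • y = a.1 y) →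
      ∀ y, tw ε r • y = (a ^ (ε : ℤ)).1 y := fun ε a ha r h y => by
    rcases Int.units_eq_one_or ε with rfl | rfl
    · simp [h]
    · simpa using k2 a ha r h y
  refine ⟨R', _, _, _, g', ⟨two, h1, ind _ (fun r => (hR.pw r).imp fun k hk =>
    ⟨hk.1, by rw [← map_pow, hk.2]⟩) (fun a ha r h => ?_) ?_ ?_, ind _ (fun r => ?_)
    (fun a ha r h => ?_) (fun a b h k => ?_) fun a b h k => ?_⟩, fa, fun X x => ⟨fun h =>
      ⟨⟨⟨h.1.add, fun r y => ?_, fun y => h2 ▸ h.1.q y⟩, h.2⟩, fun a ha => ?_⟩,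
      fun h => ⟨⟨h.1.1.add, ind _ (fun r y => ?_) (fun a ha r k y => ?_) (fun a b h₁ h₂ y => ?_)
        fun a b h₁ h₂ y => ?_, fun y => h2 ▸ h.1.1.q y⟩, h.1.2⟩⟩⟩
  · have e : ∀ n y, r ^ n • y = (a ^ n).1 y := fun n => by
      induction n with
      | zero => simp
      | succ n ih => intro y; rw [pow_succ, mul_smul, ih, h, pow_succ]; rfl
    refine ⟨(Nat.card A).totient, Nat.totient_pos.2 Nat.card_pos, g'.eq_of_smul fa fun y => ?_⟩
    have := (Nat.ModEq.pow_totient (Nat.coprime_two_left.2 ho)).of_dvd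
      (orderOf_dvd_natCard (⟨a, ha⟩ : A))
    rw [orderOf_mk] at this
    rw [e, h, pow_eq_pow_iff_modEq.2 this, pow_one]
  · rintro a b ⟨k, k0, hk⟩ ⟨j, j0, hj⟩
    exact ⟨k * j, mul_pos k0 j0, by rw [add_pw two, pw_mul hk, mul_comm k, pw_mul hj]⟩
  · rintro a b ⟨k, k0, hk⟩ ⟨j, j0, hj⟩
    exact ⟨k * j, mul_pos k0 j0, by rw [mul_pow, pw_mul hk, mul_comm k, pw_mul hj]⟩
  · rw [k1, ← map_add]
    refine (Ideal.map_span φ _ ▸ Ideal.span_mono ?_ : Ideal.map φ _ ≤ _)
      (Ideal.mem_map_of_mem φ (hR.gen r))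
    rintro _ ⟨_, ⟨a, ha, rfl⟩, rfl⟩
    exact ⟨φ a, by rw [k1, ← map_mul, ha, map_one], by simp⟩
  · have e : r * star r = 1 := g'.eq_of_smul fa fun y => by
      rw [mul_smul, h, k2 a ha r h]; simp
    rw [show r + star r = (star r * (r + 1)) * (r + 1) by
      linear_combination (-r - 2) * e - two 1]
    exact Ideal.mul_mem_left _ _ (Ideal.subset_span ⟨r, e, rfl⟩)
  · rw [star_add, add_add_add_comm]; exact add_mem h k
  · rw [show a * b + star (a * b) = a * (b + star b) + star b * (a + star a) by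
      rw [star_mul]; linear_combination - two (a * star b)]
    exact add_mem (Ideal.mul_mem_left _ _ k) (Ideal.mul_mem_left _ _ h)
  · rw [← h4, h.1.smul, k3, h4]
  · obtain ⟨r, hr⟩ := h5 a ha
    refine Prod.ext (Equiv.ext fun y => ?_) (by simp [hs a ha])
    rw [← k4 _ a ha r hr]
    simp [← hr, h.1.smul]
  · rw [h4, h.1.1.smul, k3, h4]
  · rw [k4 _ a ha r k, ← h.2 a ha, k]; simp
  · rw [add_smul, h.1.1.add, h₁, h₂, ← add_smul]
    rcases Int.units_eq_one_or x.2 with e | e <;> simp [e]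
  · rw [mul_smul, h₁, h₂, tw_mul', mul_smul]

theorem RG.red (hR : RG R) {r : R} (h : r * r = 0) : r = 0 := by
  obtain ⟨k, k0, hk⟩ := hR.pw r
  obtain ⟨j, rfl⟩ := Nat.exists_eq_succ_of_ne_zero k0.ne'
  rw [← hk, pow_succ' 2, pow_mul, pow_two, h, zero_pow (by positivity)]

theorem RG.sqrt (hR : RG R) (r : R) : ∃ t, t * t = r := by
  obtain ⟨k, k0, hk⟩ := hR.pw r
  obtain ⟨j, rfl⟩ := Nat.exists_eq_succ_of_ne_zero k0.ne'
  exact ⟨r ^ 2 ^ j, by rw [← pow_two, ← pow_mul, ← pow_succ, hk]⟩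

theorem RG.eq (hR : RG R) {r t : R} (h : r + t = 0) : r = t := by
  linear_combination h - hR.two t

theorem RG.eq_zero (hR : RG R) (hP : Prim R) (I : Ideal R) (h1 : I ≠ ⊤)
    (hs : ∀ r ∈ I, star r ∈ I) {r : R} (hr : r ∈ I) : r = 0 := by
  have k : ∀ t ∈ I, star t = t → t = 0 := fun t ht h => by_contra fun h0 =>
    h1 (I.eq_top_of_isUnit_mem ht (hP t h h0))
  exact k r hr (hR.eq (k _ (add_mem (hs r hr) hr) (by rw [star_add, star_star, add_comm])))

theorem RG.unitary (hR : RG R) (hP : Prim R) {r : R} (h : star r ≠ r) :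
    ∃ a : R, a * star a = 1 ∧ IsUnit (a + 1) := by
  by_contra! H
  refine h (hR.eq ?_)
  rw [add_comm, ← Ideal.mem_bot, ← Ideal.span_eq_bot.2]
  · exact hR.gen r
  rintro _ ⟨a, ha, rfl⟩
  by_contra h0
  refine H a ha (isUnit_of_mul_isUnit_left (hP ((a + 1) * star (a + 1)) (by simp [mul_comm])
    fun e => h0 (hR.red ?_)))
  rw [star_add, star_one] at e
  linear_combination a * e - (a + 1) * ha

theorem RG.exists_beta (hR : RG R) (hP : Prim R) [Nontrivial R] : ∃ β : R →+ ZMod 2,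
    (∀ r, β (star r) = β (1 * r)) ∧ ∀ r, (∀ s, β (s * r) = 0) → r = 0 := by
  let W : AddSubgroup R := (AddMonoidHom.id R + (starAddEquiv (R := R)).toAddMonoidHom).range
  obtain ⟨z, hz⟩ : ∃ z, z ∉ W := by
    by_cases h : ∀ r : R, star r = r
    · exact ⟨1, fun ⟨r, hr⟩ => one_ne_zero (hr.symm.trans (by simp [h, hR.two]))⟩
    · obtain ⟨r, hr⟩ := not_forall.1 h
      exact ⟨r, fun ⟨t, ht⟩ => hr (by simp [← ht, add_comm])⟩
  obtain ⟨β, h1, h2⟩ := exists_fun_ne hR.two W hz
  have k : ∀ r, β (star r) = β r := fun r => by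
    have := h2 _ ⟨r, rfl⟩
    simp only [AddMonoidHom.add_apply, map_add] at this
    exact (CharTwo.add_eq_zero.1 this).symm
  let I : Ideal R :=
    { carrier := {r | ∀ s, β (s * r) = 0}
      zero_mem' := by simp
      add_mem' := fun ha hb s => by rw [mul_add, map_add, ha, hb, add_zero]
      smul_mem' := fun c r h s => by rw [smul_eq_mul, ← mul_assoc, h] }
  refine ⟨β, by simpa using k, fun r hr => hR.eq_zero hP I (fun e => ?_) (fun r h s => ?_) hr⟩
  · have : β (z * 1) = 0 := (e ▸ trivial : 1 ∈ I) z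
    rw [mul_one, h1] at this
    exact one_ne_zero this
  · rw [← k, star_mul, star_star, mul_comm, h]

/-- Hermitian form attached to a functional on the ring. -/
structure Hm (g : Geo R V) where
  β : R →+ ZMod 2
  θ : R
  h : V → V → R
  spec : ∀ y u s, β (star s * h y u) = g.B y (s • u)
  st : ∀ r, β (star r) = β (θ * r)
  nd : ∀ r, (∀ s, β (s * r) = 0) → r = 0

theorem Geo.exists_hm (g : Geo R V) [Finite R] (two : ∀ r : R, r + r = 0) (β : R →+ ZMod 2)
    (θ : R) (st : ∀ r, β (star r) = β (θ * r)) (nd : ∀ r, (∀ s, β (s * r) = 0) → r = 0) :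
    ∃ m : Hm g, m.β = β ∧ m.θ = θ := by
  have : ∀ y u : V, ∃ h, ∀ s, β (star s * h) = g.B y (s • u) := fun y u => by
    obtain ⟨h, e⟩ := exists_rep two ((AddMonoidHom.mul (R := R)).compr₂ β)
      (fun r hr => nd r fun s => by rw [mul_comm]; exact hr s)
      (AddMonoidHom.mk' (fun s => g.B y (star s • u)) fun a b => by simp [add_smul])
    exact ⟨h, fun s => by rw [mul_comm]; simpa using e (star s)⟩
  choose h e using this
  exact ⟨⟨β, θ, h, e, st, nd⟩, rfl, rfl⟩

namespace Hm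

variable {g : Geo R V} (m : Hm g)

theorem ext' {r t : R} (e : ∀ s, m.β (star s * r) = m.β (star s * t)) : r = t :=
  sub_eq_zero.1 (m.nd _ fun s => by rw [mul_sub, map_sub, ← star_star s, e, sub_self])

theorem add_l (x y z : V) : m.h (x + y) z = m.h x z + m.h y z :=
  m.ext' fun s => by simp [mul_add, m.spec]

theorem add_r (x y z : V) : m.h x (y + z) = m.h x y + m.h x z :=
  m.ext' fun s => by simp [mul_add, m.spec]

theorem smul_l (r : R) (x y : V) : m.h (r • x) y = r * m.h x y :=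
  m.ext' fun s => by
    rw [m.spec, g.adj, smul_smul, ← m.spec, star_mul, star_star, mul_assoc]

theorem smul_r (r : R) (x y : V) : m.h x (r • y) = star r * m.h x y :=
  m.ext' fun s => by rw [m.spec, smul_smul, ← m.spec, star_mul, mul_comm (star r), mul_assoc]

theorem zero_l (y : V) : m.h 0 y = 0 := by simpa using m.smul_l 0 0 y

theorem zero_r (y : V) : m.h y 0 = 0 := by simpa using m.smul_r 0 y 0

theorem B_eq (x y : V) : g.B x y = m.β (m.h x y) := by simpa using (m.spec x y 1).symm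

theorem symm (x y : V) : m.h x y = m.θ * star (m.h y x) :=
  m.ext' fun s => by
    rw [m.spec, g.adj', g.symm, ← m.spec, mul_left_comm, ← m.st, star_mul, star_star, star_star,
      mul_comm]

theorem eq_zero {x y : V} (e : ∀ s : R, g.B x (s • y) = 0) : m.h x y = 0 :=
  m.ext' fun s => by rw [m.spec, e, mul_zero, map_zero]

theorem iso (h1 : m.θ = 1) {x : Am V} (hx : g.Iso x) (y z : V) :
    m.h (x.1 y) (x.1 z) = tw x.2 (m.h y z) :=
  m.ext' fun s => by
    rw [m.spec, ← tw_tw x.2 s, ← hx.smul, hx.b, ← m.spec, tw_tw, ← tw_star]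
    rcases Int.units_eq_one_or x.2 with e | e <;> simp only [e, tw_one, tw_neg]
    rw [← star_star (star s * _), m.st (star _), h1, one_mul, star_mul, star_star, star_star,
      mul_comm]

theorem mem_perp {X : Set V} {y : V} :
    y ∈ g.perp (Submodule.span R X) ↔ ∀ x ∈ X, m.h y x = 0 :=
  ⟨fun e x hx => m.eq_zero fun s => by
    rw [g.symm, e _ (Submodule.smul_mem _ _ (Submodule.subset_span hx))], fun e z hz => by
    rw [g.symm, m.B_eq]
    suffices m.h y z = 0 by rw [this, map_zero]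
    induction hz using Submodule.span_induction with
    | mem y hy => exact e y hy
    | zero => exact m.zero_r _
    | add y z _ _ a b => rw [m.add_r, a, b, add_zero]
    | smul r y _ a => rw [m.smul_r, a, mul_zero]⟩

theorem exists_dual [Finite V] {v w : V} (e : ∀ s t : R, s • v + t • w = 0 → s = 0) :
    ∃ y, m.h y v = 1 ∧ m.h y w = 0 := by
  obtain ⟨ψ, hψ⟩ := exists_fun g.two (fun x : R × R => x.1 • v + x.2 • w)
    (fun x => m.β (star x.1)) ⟨0, by simp⟩ (fun x y => ⟨x + y, by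
      simp [add_smul, add_add_add_comm], by simp⟩) fun x y h => by
      have := e (x.1 - y.1) (x.2 - y.2) (by
        rw [sub_smul, sub_smul, sub_add_sub_comm, h, sub_self])
      rw [sub_eq_zero.1 this]
  obtain ⟨y, hy⟩ := exists_rep g.two g.B g.nondeg ψ
  exact ⟨y, m.ext' fun s => by simpa [m.spec, hy] using hψ (s, 0),
    m.eq_zero fun s => by simpa [hy] using hψ (0, s)⟩

end Hm

end H85
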