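import Mathlib
import Cfsg.Agent.Lib.H85.Geo2

/-! The stabilizer of a singular vector. -/

set_option autoImplicit false
set_option linter.unusedSectionVars false
set_option linter.style.haveILetI false

namespace H85

open Subgroup
open scoped commutatorElement

variable {R V : Type*} [CommRing R] [StarRing R] [AddCommGroup V] [Module R V] [Finite V]
  {g : Geo R V}

theorem Geo.exists_iso (g : Geo R V) (ε : ℤˣ) (φ : V → V) (h1 : ∀ y z, φ (y + z) = φ y + φ z)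
    (h2 : ∀ (r : R) y, φ (r • y) = tw ε r • φ y) (h3 : ∀ y, g.Q (φ y) = g.Q y) :
    ∃ x : Am V, g.Iso x ∧ x.2 = ε ∧ ∀ y, x.1 y = φ y := by
  have k : ∀ y z, g.B (φ y) (φ z) = g.B y z := fun y z => by
    have := g.polar (φ y) (φ z)
    rw [← h1, h3, h3, h3, g.polar] at this
    exact (add_left_cancel this).symm
  have i : Function.Injective φ := fun y z h => g.ext_B fun t => by rw [← k, h, k]
  exact ⟨(Equiv.ofBijective φ i.bijective_of_finite, ε), ⟨h1, h2, h3⟩, rfl, fun _ => rfl⟩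

theorem Geo.exists_sum {W : Submodule R V} (h : g.ND W) {a : Am W} {b : Am (g.perp W)}
    (ha : (g.res W h).Iso a) (hb : (g.res _ h.perp).Iso b) (e : b.2 = a.2) :
    ∃ x : Am V, g.Iso x ∧ x.2 = a.2 ∧ ∀ (y : W) (z : g.perp W), x.1 (y + z) = a.1 y + b.1 z := by
  let p := W.projectionOnto _ h.isCompl
  let q := (g.perp W).projectionOnto _ h.isCompl.symm
  have k : ∀ (y : W) (z : g.perp W), p (y + z) = y ∧ q (y + z) = z := fun y z => by simp [p, q]
  obtain ⟨x, h1, h2, h3⟩ := g.exists_iso a.2 (fun y => a.1 (p y) + b.1 (q y))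
    (fun y z => by simp [ha.add, hb.add, add_add_add_comm])
    (fun r y => by simp [ha.smul, hb.smul, e]) fun y => by
      obtain ⟨c, hc, d, hd, rfl⟩ := h.exists y
      rw [g.polar, g.polar, (b.1 _).2 _ (a.1 _).2, hd c hc, (k ⟨c, hc⟩ ⟨d, hd⟩).1,
        (k ⟨c, hc⟩ ⟨d, hd⟩).2]
      exact congrArg₂ _ (congrArg₂ _ (ha.q _) (hb.q _)) rfl
  exact ⟨x, h1, h2, fun y z => by rw [h3, (k y z).1, (k y z).2]⟩

theorem Geo.ND.perp_ne {W : Submodule R V} (h : g.ND W) {x : V} (hx : x ∈ W) (h0 : x ≠ 0) :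
    g.perp W ≠ ⊤ := fun e => h0 (h x hx (e ▸ trivial))

theorem Geo.split_span {X : Set V} (h : g.ND (Submodule.span R X))
    {X₂ : Set (g.perp (Submodule.span R X))} (h2 : TW (sg _) ((g.res _ h.perp).GG X₂))
    {H : Subgroup (Am V)} (hH : ∀ x, x ∈ H ↔ x ∈ g.GG X ∧ ∀ y ∈ X₂, x.1 y = y) : TW (sg V) H :=
  Geo.split h (Geo.tw_span Submodule.span_span_coe_preimage) h2 fun x => (hH x).trans
    ⟨fun k => ⟨k.1.1, Geo.mem_St (k.1.1.mem_span fun y hy => by
      rw [k.1.2 y hy]; exact Submodule.subset_span hy), fun y hy => k.1.2 y hy, k.2⟩,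
    fun k => ⟨⟨k.1, fun y hy => k.2.2.1 ⟨y, Submodule.subset_span hy⟩ hy⟩, k.2.2.2⟩⟩

theorem Hm.self_zero (m : Hm g) {y : V} (h : ∀ s : R, g.Q (s • y) = 0) : m.h y y = 0 :=
  m.eq_zero fun s => by
    have := g.polar ((1 : R) • y) (s • y)
    rwa [← add_smul, h, h, h, add_zero, zero_add, one_smul, eq_comm] at this

/-- A hyperbolic pair. -/
structure Par (m : Hm g) (v v' w : V) : Prop where
  th : m.θ = 1
  two : ∀ r : R, r + r = 0
  qv : ∀ s : R, g.Q (s • v) = 0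
  qv' : ∀ s : R, g.Q (s • v') = 0
  hv : m.h v' v = 1
  w1 : m.h w v = 0
  w2 : m.h w v' = 0
  sing : ∀ y, ∃ c, ∀ s : R, g.Q (s • y) = m.β (s * star s * c)

variable {m : Hm g} {v v' w : V}

variable (m v w) in
/-- The unipotent radical. -/
def NN : Subgroup (Am V) where
  carrier := {x | x ∈ K (sg V) (g.GG {v, w}) ∧ ∀ y, m.h y v = 0 → ∃ c : R, x.1 y = y + c • v}
  one_mem' := ⟨one_mem _, fun y _ => ⟨0, by simp⟩⟩
  mul_mem' {a b} ha hb := ⟨mul_mem ha.1 hb.1, fun y hy => by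
    obtain ⟨c, hc⟩ := ha.2 y hy
    obtain ⟨d, hd⟩ := hb.2 y hy
    exact ⟨c + tw a.2 d, by
      simp [hd, ha.1.1.1.add, ha.1.1.1.smul, hc, ha.1.1.2 v, add_smul, add_assoc]⟩⟩
  inv_mem' {a} ha := ⟨inv_mem ha.1, fun y hy => by
    obtain ⟨c, hc⟩ := ha.2 y hy
    exact ⟨tw a.2 c, a.1.injective (by
      simp [ha.1.1.1.add, ha.1.1.1.smul, hc, ha.1.1.2 v, add_assoc, tw_tw, g.two])⟩⟩

variable (v') in
/-- Parameter of an element of the radical. -/
def uu (n : Am V) : V := n.1 v' + v'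

variable (m v v') in
/-- Parameter modulo the centre. -/
def pp (n : Am V) : V := uu v' n + m.h (uu v' n) v' • v

theorem NN_norm : g.GG {v, w} ≤ normalizer (NN m v w : Set (Am V)) ∨ m.θ ≠ 1 := by
  refine or_iff_not_imp_right.2 fun th => ?_
  have k : ∀ a ∈ g.GG {v, w}, ∀ n ∈ NN m v w, a * n * a⁻¹ ∈ NN m v w := fun a ha n hn =>
    ⟨cj_mem_K ha hn.1, fun y hy => by
      obtain ⟨c, hc⟩ := hn.2 (a⁻¹.1 y) (by
        rw [← (inv_mem ha).2 v (by simp), m.iso (not_not.1 th) ha.1.inv, hy]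
        exact tw_of_sa _ (star_zero _))
      exact ⟨tw a.2 c, by simp [-Prod.fst_inv, hc, ha.1.add, ha.1.smul, ha.2 v]; simp⟩⟩
  exact fun a ha => mem_normalizer_iff.2 fun x => ⟨k a ha x, fun h => by
    simpa [mul_assoc] using k _ (inv_mem ha) _ h⟩

namespace Par

variable (p : Par m v v' w) {n n' x : Am V}
include p

theorem vv : m.h v v = 0 := m.self_zero p.qv

theorem vv' : m.h v' v' = 0 := m.self_zero p.qv'

theorem symm (y z : V) : m.h y z = star (m.h z y) := by rw [m.symm, p.th, one_mul]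

theorem hv' : m.h v v' = 1 := by rw [p.symm, p.hv, star_one]

theorem st (r : R) : m.β (star r) = m.β r := by rw [m.st, p.th, one_mul]

theorem norm : g.GG {v, w} ≤ normalizer (NN m v w : Set (Am V)) :=
  NN_norm.resolve_right (not_not.2 p.th)

theorem uu_ok (hx : x ∈ g.GG {v, w}) : m.h (uu v' x) v = 0 ∧
    (∀ s : R, g.Q (s • (v' + uu v' x)) = 0) ∧ m.h w (uu v' x) = 0 := by
  refine ⟨?_, fun s => ?_, ?_⟩
  · rw [uu, m.add_l, ← hx.2 v (by simp), m.iso p.th hx.1, hx.2 v (by simp), p.hv,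
      tw_of_sa _ (star_one _), p.two]
  · rw [uu, add_comm, add_assoc, g.two, add_zero, ← tw_tw x.2 s, ← hx.1.smul, hx.1.q, p.qv']
  · rw [uu, m.add_r, ← hx.2 w (by simp), m.iso p.th hx.1, hx.2 w (by simp), p.w2,
      tw_of_sa _ (star_zero _), add_zero]

theorem app (hn : n ∈ NN m v w) {y : V} (hy : m.h y v = 0) :
    n.1 y = y + m.h y (uu v' n) • v := by
  obtain ⟨c, hc⟩ := hn.2 y hy
  have := m.iso p.th hn.1.1.1 y v'
  rw [show n.2 = 1 from hn.1.2, tw_one, hc, show n.1 v' = uu v' n + v' by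
    rw [uu, add_assoc, g.two, add_zero], m.add_l, m.add_r, m.smul_l, m.add_r, p.symm v (uu v' n),
    (p.uu_ok hn.1.1).1, p.hv', star_zero] at this
  rw [hc, show c = m.h y (uu v' n) by linear_combination this - p.two (m.h y (uu v' n))]

theorem ext' (hn : n ∈ NN m v w) (hn' : n' ∈ NN m v w) (e : uu v' n = uu v' n') : n = n' :=
  Prod.ext (Equiv.ext fun y => by
    have k : m.h (y + m.h y v • v') v = 0 := by rw [m.add_l, m.smul_l, p.hv, mul_one, p.two]
    have := (p.app hn k).trans (e ▸ (p.app hn' k).symm)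
    rw [hn.1.1.1.add, hn'.1.1.1.add, hn.1.1.1.smul, hn'.1.1.1.smul, add_right_cancel e,
      show n.2 = 1 from hn.1.2, show n'.2 = 1 from hn'.1.2] at this
    exact add_right_cancel this) (hn.1.2.trans hn'.1.2.symm)

theorem exists_T {u : V} (h1 : m.h u v = 0) (h2 : ∀ s : R, g.Q (s • (v' + u)) = 0)
    (h3 : m.h w u = 0) : ∃ n ∈ NN m v w, uu v' n = u := by
  have h4 : m.h v u = 0 := by rw [p.symm, h1, star_zero]
  obtain ⟨x, x1, x2, x3⟩ := g.exists_iso 1
    (fun z => z + m.h z v • u + (m.h z u + m.h z v * m.h v' u) • v)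
    (fun y z => by simp only [m.add_l]; module) (fun r y => by
      simp only [m.smul_l, tw_one]; module) fun y => by
      obtain ⟨z, hz, e⟩ : ∃ z, m.h z v = 0 ∧ y = m.h y v • v' + z :=
        ⟨m.h y v • v' + y, by rw [m.add_l, m.smul_l, p.hv, mul_one, p.two], by
          rw [← add_assoc, g.two, zero_add]⟩
      generalize m.h y v = s at e
      subst e
      rw [m.add_l, m.smul_l, add_right_comm (s * _), p.two, zero_add, add_right_comm (s • v'),
        ← smul_add, add_assoc, g.polar, g.polar, g.polar, h2, p.qv, p.qv', g.symm (s • _),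
        g.symm (s • v')]
      simp only [m.B_eq]
      simp only [m.add_l, m.add_r, m.smul_l, m.smul_r, hz, p.hv', h4, mul_zero, map_zero,
        add_zero, mul_add, map_add, mul_one, add_assoc, mul_comm (m.h z u), zm2]
  refine ⟨x, ⟨⟨⟨x1, ?_⟩, x2⟩, fun y hy => ⟨m.h y u, by simp [x3, hy]⟩⟩, ?_⟩
  · rintro _ (rfl | rfl) <;> simp [x3, p.vv, h4, p.w1, h3]
  · rw [uu, x3, p.hv, one_mul, p.two, zero_smul, add_zero, one_smul, add_right_comm, g.two,
      zero_add]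

theorem hm (hx : x ∈ g.GG {v, w}) : ∃ l ∈ g.GG {v, v', w}, x * l⁻¹ ∈ NN m v w := by
  obtain ⟨n, hn, e⟩ := p.exists_T (p.uu_ok hx).1 (p.uu_ok hx).2.1 (p.uu_ok hx).2.2
  have k := mul_mem (inv_mem hn.1.1) hx
  refine ⟨n⁻¹ * x, ⟨k.1, ?_⟩, by simpa using hn⟩
  rintro _ (rfl | rfl | rfl)
  · exact k.2 _ (by simp)
  · simp [← add_right_cancel e]
  · exact k.2 _ (by simp)

theorem uu_mul (hn : n ∈ NN m v w) (hn' : n' ∈ NN m v w) :
    uu v' (n * n') = uu v' n + uu v' n' + m.h (uu v' n') (uu v' n) • v := by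
  rw [add_assoc, ← p.app hn (p.uu_ok hn'.1.1).1, uu, uu, uu, hn.1.1.1.add, add_comm (n.1 v'),
    add_comm (n.1 (_ : V)) (n.1 v'), add_assoc, ← add_assoc (n.1 v'), g.two, zero_add, add_comm]
  rfl

theorem pp_mul (hn : n ∈ NN m v w) (hn' : n' ∈ NN m v w) :
    pp m v v' (n * n') = pp m v v' n + pp m v v' n' := by
  simp only [pp, p.uu_mul hn hn', m.add_l, m.smul_l, p.hv', mul_one, add_smul]
  rw [add_add_add_comm, g.two, add_zero, add_add_add_comm]

theorem pp_one : pp m v v' 1 = 0 := by simp [pp, uu, g.two, m.zero_l]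

theorem pp_inv (hn : n ∈ NN m v w) : pp m v v' n⁻¹ = pp m v v' n :=
  g.eq_of_add (by rw [← p.pp_mul (inv_mem hn) hn, inv_mul_cancel, p.pp_one])

theorem pp_v (hx : x ∈ g.GG {v, w}) : m.h (pp m v v' x) v = 0 := by
  rw [pp, m.add_l, m.smul_l, p.vv, (p.uu_ok hx).1, mul_zero, add_zero]

theorem pp_v' : m.h (pp m v v' x) v' = 0 := by
  rw [pp, m.add_l, m.smul_l, p.hv', mul_one, p.two]

theorem pp_w (hx : x ∈ g.GG {v, w}) : m.h w (pp m v v' x) = 0 := by
  rw [pp, m.add_r, m.smul_r, p.w1, (p.uu_ok hx).2.2, mul_zero, add_zero]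

theorem pp_cj (hx : x ∈ g.GG {v, v', w}) : pp m v v' (x * n * x⁻¹) = x.1 (pp m v v' n) := by
  have : uu v' (x * n * x⁻¹) = x.1 (uu v' n) := by
    rw [uu, uu, hx.1.add, hx.2 v' (by simp)]
    simp [-Prod.fst_inv, (inv_mem hx).2 v']
  rw [pp, pp, this, hx.1.add, hx.1.smul, ← m.iso p.th hx.1, hx.2 v' (by simp), hx.2 v (by simp)]

theorem exists_c {y : V} (h : m.h y v = 1) : ∃ c : R, ∀ s : R, g.Q (s • (y + c • v)) = 0 :=
  (p.sing y).imp fun c hc s => by
    rw [smul_add, g.polar, hc, smul_smul, p.qv, g.symm, m.B_eq, m.smul_l, m.smul_r, p.symm v, h,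
      star_one, mul_one, add_zero, mul_right_comm, zm2]

theorem surj {u : V} (h1 : m.h u v = 0) (h2 : m.h u v' = 0) (h3 : m.h w u = 0) :
    ∃ n ∈ NN m v w, pp m v v' n = u := by
  obtain ⟨c, hc⟩ := p.exists_c (y := v' + u) (by rw [m.add_l, p.hv, h1, add_zero])
  obtain ⟨n, hn, e⟩ := p.exists_T (u := u + c • v) (by simp [m.add_l, m.smul_l, h1, p.vv])
    (by simpa only [add_assoc] using hc) (by simp [m.add_r, m.smul_r, h3, p.w1])
  exact ⟨n, hn, by simp [pp, e, m.add_l, m.smul_l, h2, p.hv', add_assoc, g.two]⟩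

/-- The centre of the radical. -/
def ZZ : Subgroup (Am V) where
  carrier := {x | x ∈ NN m v w ∧ pp m v v' x = 0}
  one_mem' := ⟨one_mem _, p.pp_one⟩
  mul_mem' ha hb := ⟨mul_mem ha.1 hb.1, by rw [p.pp_mul ha.1 hb.1, ha.2, hb.2, add_zero]⟩
  inv_mem' ha := ⟨inv_mem ha.1, by rw [p.pp_inv ha.1, ha.2]⟩

theorem ND : g.ND (Submodule.span R {v, v'}) := fun z hz hz' => by
  obtain ⟨a, b, rfl⟩ := Submodule.mem_span_pair.1 hz
  have k1 := m.mem_perp.1 hz' v (by simp)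
  have k2 := m.mem_perp.1 hz' v' (by simp)
  simp only [m.add_l, m.smul_l, p.vv, p.vv', p.hv, p.hv', mul_zero, mul_one, add_zero,
    zero_add] at k1 k2
  simp [k1, k2]

theorem mem_perp {y : V} : y ∈ g.perp (Submodule.span R {v, v'}) ↔ m.h y v = 0 ∧ m.h y v' = 0 := by
  simp [m.mem_perp]

theorem cla {f : Am V → ℂ} (hf : Bad (sg V) (g.GG {v, w}) f) (hz : ∀ z ∈ p.ZZ, f z = f 1) :
    ∃ y, m.h y v = 0 ∧ m.h y v' = 0 ∧ ∃ M, ¬ TW (sg V) M ∧
      ∀ l, l ∈ M ↔ l ∈ g.GG {v, v', w} ∧ ∃ c : R, l.1 y = y + c • w := by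
  classical
  have hN : NN m v w ≤ K (sg V) (g.GG {v, w}) := fun _ h => h.1
  obtain ⟨lam, h1, h2, h3, h4⟩ := exists_lin (Z := p.ZZ) (hf.1.ch.mono hN) hf.1.one_ne
    (fun _ h => h.1) (fun a ha b hb => ⟨mul_mem (mul_mem (mul_mem ha hb) (inv_mem ha)) (inv_mem hb),
      by rw [commutatorElement_def, p.pp_mul (mul_mem (mul_mem ha hb) (inv_mem ha)) (inv_mem hb),
        p.pp_mul (mul_mem ha hb) (inv_mem ha), p.pp_mul ha hb, p.pp_inv ha, p.pp_inv hb, add_assoc,
        g.two]⟩) hz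
  have k0 : ∀ n ∈ NN m v w, lam n = 1 ∨ lam n = -1 := fun n hn => mul_self_eq_one_iff.1 (by
    rw [← h1.lin_mul h2 hn hn, h4 _ ⟨mul_mem hn hn, by rw [p.pp_mul hn hn, g.two]⟩])
  obtain ⟨ψ, hψ⟩ := exists_fun g.two (fun n : NN m v w => pp m v v' n)
    (fun n => if lam n = 1 then 0 else 1) ⟨1, p.pp_one⟩ (fun a b => ⟨a * b, p.pp_mul a.2 b.2, by
      rw [coe_mul, h1.lin_mul h2 a.2 b.2]
      rcases k0 _ a.2 with e | e <;> rcases k0 _ b.2 with e' | e' <;> norm_num [e, e', zm2]⟩)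
    fun a b e => by
      have := h1.lin_mul h2 (mul_mem a.2 (inv_mem b.2)) b.2
      rw [h4 _ ⟨mul_mem a.2 (inv_mem b.2), by
        rw [p.pp_mul a.2 (inv_mem b.2), p.pp_inv b.2, e, g.two]⟩, inv_mul_cancel_right] at this
      rw [this, one_mul]
  obtain ⟨y', hy⟩ := exists_rep g.two g.B g.nondeg ψ
  obtain ⟨a, ha, y, hy', rfl⟩ := p.ND.exists y'
  have k1 : ∀ n ∈ NN m v w, ∀ n' ∈ NN m v w,
      lam n = lam n' ↔ g.B y (pp m v v' n) = g.B y (pp m v v' n') := fun n hn n' hn' => by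
    have e : ∀ n ∈ NN m v w, g.B y (pp m v v' n) = if lam n = 1 then 0 else 1 := fun n hn => by
      rw [← hψ ⟨n, hn⟩, ← hy, map_add, AddMonoidHom.add_apply,
        p.mem_perp.2 ⟨p.pp_v hn.1.1, p.pp_v'⟩ a ha, zero_add]
    rw [e n hn, e n' hn']
    rcases k0 _ hn with e | e <;> rcases k0 _ hn' with e' | e' <;> norm_num [e, e']
  have hL : g.GG {v, v', w} ≤ g.GG {v, w} := Geo.GG_anti (by grind)
  refine ⟨y, (p.mem_perp.1 hy').1, (p.mem_perp.1 hy').2, _,
    hf.cla p.norm hN (fun _ => p.hm) h1 h2 h3, fun l => and_comm.trans (and_congr_right fun hl =>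
      (and_iff_right (hL hl)).trans ?_)⟩
  have k2 : ∀ n ∈ NN m v w, lam (l * n * l⁻¹) = lam (n ^ (sg V l : ℤ)) ↔
      g.B (l.1 y + y) (l.1 (pp m v v' n)) = 0 := fun n hn => by
    rw [k1 _ (cj_mem (p.norm (hL hl)) hn) _ (zpow_mem hn _), p.pp_cj hl, map_add,
      AddMonoidHom.add_apply, hl.1.b, CharTwo.add_eq_zero, eq_comm]
    rcases Int.units_eq_one_or (sg V l) with e | e <;> simp [e, p.pp_inv hn]
  have k3 := hl.1.st_perp (Geo.mem_St (hl.1.mem_span (X := {v, v'}) fun y hy => by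
    rw [hl.2 y (by grind)]; exact Submodule.subset_span hy))
  refine (forall₂_congr k2).trans ⟨fun h => ?_, fun ⟨c, hc⟩ n hn => ?_⟩
  · obtain ⟨c, hc⟩ := Submodule.mem_span_singleton.1 (Geo.mem_of_perp (g := g)
      (W := Submodule.span R {w}) (z := l.1 y + y) fun z hz => by
        obtain ⟨b, hb, d, hd, rfl⟩ := p.ND.exists z
        have hb' : m.h b w = 0 := by
          obtain ⟨s, t, rfl⟩ := Submodule.mem_span_pair.1 hb
          simp [m.add_l, m.smul_l, p.symm v, p.symm v', p.w1, p.w2]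
        have hd' := m.mem_perp.1 hz w rfl
        rw [m.add_l, hb', zero_add] at hd'
        have := p.mem_perp.1 ((inv_mem k3 d).2 hd)
        obtain ⟨n, hn, e⟩ := p.surj this.1 this.2 (by
          rw [← ((g.GG _).inv_mem hl).2 w (by simp), m.iso p.th hl.1.inv, p.symm, hd', star_zero]
          exact tw_of_sa _ (star_zero _))
        have := h n hn
        rw [map_add g.B, AddMonoidHom.add_apply, add_mem ((k3 y).2 hy') hy' b hb, zero_add, g.symm]
        simpa [e] using this)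
    exact ⟨c, by rw [hc, add_comm, add_assoc, g.two, add_zero]⟩
  · rw [hc, add_right_comm, g.two, zero_add, m.B_eq, m.smul_l, ← hl.2 w (by simp),
      m.iso p.th hl.1, p.pp_w hn.1.1, tw_of_sa _ (star_zero _), mul_zero, map_zero]

end Par

end H85
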