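import Mathlib
import Cfsg.Agent.Lib.H85.Geo3

/-! The Heisenberg case and the parabolic step. -/

set_option autoImplicit false
set_option linter.unusedSectionVars false
set_option linter.style.haveILetI false

namespace H85

open Subgroup

variable {R V : Type*} [CommRing R] [StarRing R] [AddCommGroup V] [Module R V] [Finite V]
  {g : Geo R V}

theorem RG.trace (hR : RG R) (hP : Prim R) {r c : R} (h : star r ≠ r) (hc : star c = c) :
    ∃ k, k * r + star (k * r) = c := by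
  have e : star (star r + r) = star r + r := by rw [star_add, star_star, add_comm]
  obtain ⟨k, hk⟩ := (hP _ e fun e => h (hR.eq e)).exists_left_inv
  have := congrArg star hk
  rw [star_mul, e, star_one] at this
  refine ⟨c * k, ?_⟩
  rw [star_mul, star_mul, hc, show star k = k by linear_combination k * this - star k * hk]
  linear_combination c * hk

theorem RG.q_unit (hR : RG R) (g : Geo R V) {a : R} (h : a * star a = 1) (y : V) :
    g.Q (a • y) = g.Q y := by
  obtain ⟨b, rfl⟩ := hR.sqrt a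
  have : star b * b = 1 := hR.eq (hR.red (by
    rw [star_mul] at h; linear_combination h + hR.two (star b * b + 1)))
  rw [mul_smul, g.qstar, smul_smul, this, one_smul]

theorem Hm.rep [Finite R] (m : Hm g) (two : ∀ r : R, r + r = 0) (ψ : R →+ ZMod 2) :
    ∃ c, ∀ r, m.β (r * c) = ψ r :=
  (exists_rep two ((AddMonoidHom.mul (R := R)).compr₂ m.β)
    (fun r hr => m.nd r fun s => by rw [mul_comm]; exact hr s) ψ).imp fun c h r => by
    rw [mul_comm]; exact h r

theorem RG.self_zero (hR : RG R) (m : Hm g) (hs : ∀ r : R, star r = r) (y : V) : m.h y y = 0 :=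
  m.eq_zero fun s => by
    obtain ⟨t, rfl⟩ := hR.sqrt s
    rw [mul_smul, g.adj', hs, g.B_self]

theorem RG.sing (hR : RG R) (hP : Prim R) (m : Hm g) (th : m.θ = 1) (y : V) :
    ∃ c, ∀ s : R, g.Q (s • y) = m.β (s * star s * c) := by
  have := hR.fin
  by_cases hs : ∀ r : R, star r = r
  · obtain ⟨ψ, hψ⟩ := exists_fun hR.two (fun t : R => t * t) (fun t => g.Q (t • y)) ⟨0, by simp⟩
      (fun a b => ⟨a + b, by linear_combination hR.two (a * b), by
        simp [add_smul, g.polar, m.B_eq, m.smul_l, hR.self_zero m hs, m.smul_r]⟩)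
      fun a b e => by rw [hR.eq (hR.red (r := a + b) (by
        linear_combination e + hR.two (a * b + b * b)))]
    exact (m.rep hR.two ψ).imp fun c hc s => by rw [hc, hs, hψ]
  · obtain ⟨r, hr⟩ := not_forall.1 hs
    obtain ⟨a, ha, hu⟩ := hR.unitary hP hr
    have e : star (m.h y y) = m.h y y := by
      simpa [th] using (m.symm y y).symm
    obtain ⟨k, hk⟩ := hR.trace hP hr e
    refine ⟨k * r, fun s => ?_⟩
    obtain ⟨t, rfl⟩ := hu.dvd (a := s)
    have := m.st (star a * t * star t * (k * r))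
    rw [th, one_mul] at this
    simp only [add_mul, one_mul, add_smul, g.polar, mul_smul a, hR.q_unit g ha, zm2, zero_add]
    rw [m.B_eq, m.smul_l, m.smul_l, m.smul_r, ← hk, ← add_mul, ← add_mul,
      show (a * t + t) * star (a * t + t) * (k * r) = a * t * star t * (k * r) +
        star a * t * star t * (k * r) by
        simp only [star_add, star_mul]
        linear_combination (t * star t * k * r) * ha + hR.two (t * star t * k * r), map_add, ← this,
      ← map_add]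
    congr 1; simp only [star_mul, star_star]; ring

theorem RG.exists_par (hR : RG R) (hP : Prim R) (m : Hm g) (th : m.θ = 1) {v w : V}
    (qv : ∀ s : R, g.Q (s • v) = 0) (e : ∀ s t : R, s • v + t • w = 0 → s = 0)
    (hw : m.h w v = 0) : ∃ v', Par m v v' w := by
  obtain ⟨y, h1, h2⟩ := m.exists_dual e
  obtain ⟨c, hc⟩ := hR.sing hP m th y
  refine ⟨y + c • v, th, hR.two, qv, fun s => ?_, ?_, hw, ?_, hR.sing hP m th⟩
  · rw [smul_add, g.polar, hc, smul_smul, qv, g.symm, m.B_eq, m.smul_l, m.smul_r, m.symm v, h1,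
      star_one, th, mul_one, mul_one, add_zero, mul_right_comm, zm2]
  · rw [m.add_l, m.smul_l, m.self_zero qv, h1, mul_zero, add_zero]
  · rw [m.add_r, m.smul_r, hw, m.symm, h2, star_zero, mul_zero, mul_zero, add_zero]

variable (g) in
/-- Acts as a scalar on the complement. -/
def Sc (W : Submodule R V) (b : R) (x : Am V) : Prop :=
  x.2 = 1 ∧ ∀ y ∈ W, ∀ z ∈ g.perp W, x.1 (y + z) = y + b • z

section sc

variable {W : Submodule R V} {a b : R} {x x' : Am V}

theorem exists_sc (h : g.ND W) (hb : ∀ y, g.Q (b • y) = g.Q y) : ∃ x, g.Iso x ∧ Sc g W b x := by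
  obtain ⟨y, h1, h2, h3⟩ := (g.res _ h.perp).exists_iso 1 (b • ·) (smul_add b)
    (fun r y => by rw [tw_one, smul_comm]) fun y => hb y
  obtain ⟨x, h4, h5, h6⟩ := g.exists_sum h (a := 1) ((g.res W h).GG ∅).one_mem.1 h1 h2
  exact ⟨x, h4, h5, fun y hy z hz => (h6 ⟨y, hy⟩ ⟨z, hz⟩).trans (by rw [h3]; rfl)⟩

theorem Sc.eq (h : g.ND W) (h1 : Sc g W b x) (h2 : Sc g W b x') : x = x' :=
  Prod.ext (Equiv.ext fun y => by
    obtain ⟨c, hc, d, hd, rfl⟩ := h.exists y
    rw [h1.2 c hc d hd, h2.2 c hc d hd]) (h1.1.trans h2.1.symm)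

theorem Sc.one : Sc g W 1 1 := ⟨rfl, fun _ _ _ _ => by simp⟩

theorem Sc.mul (h1 : Sc g W a x) (h2 : Sc g W b x') : Sc g W (a * b) (x * x') :=
  ⟨by simp [h1.1, h2.1], fun y hy z hz => by
    simp [h2.2 y hy z hz, h1.2 y hy _ ((g.perp W).smul_mem b hz), mul_smul]⟩

theorem Sc.pow (h1 : Sc g W a x) (n : ℕ) : Sc g W (a ^ n) (x ^ n) := by
  induction n with
  | zero => simpa using Sc.one
  | succ n ih => simpa only [pow_succ] using ih.mul h1

theorem Sc.cj (h1 : Sc g W a x) {l : Am V} (hl : g.Iso l) (hW : l ∈ Geo.St (W : Set V)) :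
    Sc g W (tw l.2 a) (l * x * l⁻¹) :=
  ⟨by simp [h1.1], fun y hy z hz => by
    have := h1.2 _ ((inv_mem hW y).2 hy) _ ((inv_mem (hl.st_perp hW) z).2 hz)
    simp [-Prod.fst_inv, hl.inv.add, this, hl.add, hl.smul]; simp⟩

end sc

namespace Par

variable {m : Hm g} {v v' w : V} (p : Par m v v' w) {z : Am V}
include p

theorem ZZ_app (hz : z ∈ p.ZZ) : ∃ c : R, star c = c ∧ uu v' z = c • v ∧
    ∀ y, z.1 y = y + (m.h y v * c) • v := by
  have e := g.eq_of_add hz.2
  generalize m.h (uu v' z) v' = c at e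
  have k := m.self_zero (p.uu_ok hz.1.1.1).2.1
  simp only [e, m.add_l, m.add_r, m.smul_l, m.smul_r, p.vv, p.vv', p.hv, p.hv', mul_zero, mul_one,
    add_zero, zero_add] at k
  refine ⟨c, by linear_combination k - p.two c, e, fun y => ?_⟩
  have k1 : m.h (y + m.h y v • v') v = 0 := by rw [m.add_l, m.smul_l, p.hv, mul_one, p.two]
  have := p.app hz.1 k1
  rw [hz.1.1.1.1.add, hz.1.1.1.1.smul, show z.2 = 1 from hz.1.1.2, e, m.smul_r, k1,
    show z.1 v' = c • v + v' by rw [← e, uu, add_assoc, g.two, add_zero], mul_zero, zero_smul,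
    add_zero, tw_one, smul_add, ← add_assoc, add_left_inj] at this
  rw [mul_smul, ← g.sub, eq_sub_iff_add_eq, this]

theorem ZZ_triv (hR : RG R) (hs : ∀ r : R, star r = r) (hz : z ∈ p.ZZ) : z = 1 := by
  obtain ⟨c, -, e, h⟩ := p.ZZ_app hz
  have : c = 0 := m.nd c fun s => by
    obtain ⟨t, rfl⟩ := hR.sqrt s
    have := (p.uu_ok hz.1.1.1).2.1 t
    rwa [e, smul_add, g.polar, smul_smul, p.qv, p.qv', m.B_eq, m.smul_l, m.smul_r, p.hv, hs,
      mul_one, add_zero, zero_add, ← mul_assoc] at this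
  exact Prod.ext (Equiv.ext fun y => by simp [h, this]) hz.1.1.2

theorem heis (hR : RG R) (hP : Prim R) {r : R} (hr : star r ≠ r) (hw : w = 0) :
    ∃ a, Heis (sg V) (g.GG {v, w}) (NN m v w) (g.GG {v, v', w}) p.ZZ a := by
  obtain ⟨a, ha, hu⟩ := hR.unitary hP hr
  obtain ⟨x, hx, sx⟩ := exists_sc p.ND (hR.q_unit g ha)
  have xL : x ∈ g.GG {v, v', w} := ⟨hx, by
    rintro _ (rfl | rfl | rfl)
    · simpa using sx.2 _ (Submodule.subset_span (by simp)) 0 (zero_mem _)
    · simpa using sx.2 _ (Submodule.subset_span (by simp)) 0 (zero_mem _)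
    · rw [hw, hx.zero]⟩
  have k0 : ∀ z ∈ p.ZZ, z * z = 1 := fun z hz => by
    obtain ⟨c, -, e, -⟩ := p.ZZ_app hz
    refine p.ext' (mul_mem hz.1 hz.1) (one_mem _) ?_
    rw [p.uu_mul hz.1 hz.1, e]
    simp [g.two, m.smul_l, m.smul_r, p.vv, uu]
  refine ⟨x, fun _ h => h.1, p.norm, fun n => ⟨2, Subtype.ext ?_⟩, Geo.GG_anti (by grind),
    fun _ => p.hm, fun _ h => h.1, fun z hz y hy => ?_, xL, ?_, fun l hl => ?_, fun d hd h => ?_,
    fun n hn hn' z hz => ?_⟩
  · simpa [pow_succ, mul_assoc] using k0 _ ⟨mul_mem n.2 n.2, by rw [p.pp_mul n.2 n.2, g.two]⟩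
  · obtain ⟨c, hc, -, e⟩ := p.ZZ_app hz
    refine Prod.ext (Equiv.ext fun t => ?_) (mul_comm _ _)
    have := m.iso p.th hy.1 t v
    rw [hy.2 v (by simp)] at this
    simp [e, hy.1.add, hy.1.smul, hy.2 v, tw_mul', tw_of_sa _ hc, this]
  · obtain ⟨k, k0, hk⟩ := hR.pw a
    have := (hk ▸ sx.pow (2 ^ k) : Sc g _ a _).eq p.ND sx
    rw [← Nat.sub_add_cancel (Nat.one_le_two_pow (n := k)), pow_succ, mul_eq_right] at this
    exact Odd.of_dvd_nat (Nat.Even.sub_odd Nat.one_le_two_pow (by simp [Nat.even_pow, k0.ne'])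
      odd_one) (orderOf_dvd_of_pow_eq_one this)
  · have := sx.cj hl.1 (Geo.mem_St (hl.1.mem_span (X := {v, v'}) fun y hy => by
      rw [hl.2 y (by grind)]; exact Submodule.subset_span hy))
    rcases Int.units_eq_one_or l.2 with e | e
    · simpa [e] using (e ▸ this : Sc g _ (tw 1 a) _).eq p.ND (by simpa using sx)
    · have := sx.mul (e ▸ this : Sc g _ (tw (-1) a) _)
      rw [tw_neg, ha] at this
      simpa [e] using eq_inv_of_mul_eq_one_right (this.eq p.ND Sc.one)
  · have h1 := p.pp_cj (n := d) (inv_mem xL)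
    rw [inv_inv] at h1
    have h2 := h.2
    rw [p.pp_mul (by simpa using mul_mem h.1 hd) (inv_mem hd), h1, p.pp_inv hd] at h2
    have h3 := sx.2 0 (zero_mem _) _ (p.mem_perp.2 ⟨p.pp_v hd.1.1, p.pp_v' (x := d)⟩)
    rw [zero_add, zero_add, ← Equiv.Perm.inv_eq_iff_eq.1 (g.eq_of_add h2)] at h3
    exact ⟨hd, hu.smul_eq_zero.1 (by rw [add_smul, ← h3, one_smul, g.two])⟩
  · obtain ⟨c, hc, e, -⟩ := p.ZZ_app hz
    let I : Ideal R :=
      { carrier := {t | ∃ u, (m.h u v = 0 ∧ m.h u v' = 0) ∧ m.h u (pp m v v' n) = t}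
        zero_mem' := ⟨0, by simp [m.zero_l]⟩
        add_mem' := by
          rintro _ _ ⟨a, ha, rfl⟩ ⟨b, hb, rfl⟩
          exact ⟨a + b, by simp [m.add_l, ha, hb]⟩
        smul_mem' := by
          rintro c _ ⟨a, ha, rfl⟩
          exact ⟨c • a, by simp [m.smul_l, ha]⟩ }
    obtain ⟨t, ht, ht'⟩ : ∃ t ∈ I, star t ≠ t := by
      by_contra! H
      refine hn' ⟨hn, p.ND.perp _ (p.mem_perp.2 ⟨p.pp_v hn.1.1, p.pp_v'⟩) fun u hu => ?_⟩
      rw [m.B_eq, hR.eq_zero hP I (fun e => hr (H r (e ▸ trivial)))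
        (fun r h => (H r h).symm ▸ h) ⟨u, p.mem_perp.1 hu, rfl⟩, map_zero]
    obtain ⟨k, hk⟩ := hR.trace hP ht' hc
    obtain ⟨u, hu, e'⟩ := I.mul_mem_left k ht
    obtain ⟨n', h1, rfl⟩ := p.surj hu.1 hu.2 (by rw [hw, m.zero_l])
    refine ⟨n', h1, mul_inv_eq_iff_eq_mul.2 (p.ext' (mul_mem h1 hn)
      (mul_mem (mul_mem hz.1 hn) h1) ?_)⟩
    have a1 := (p.uu_ok hn.1.1).1
    have a2 := (p.uu_ok h1.1.1).1
    simp only [pp, m.add_l, m.add_r, m.smul_l, m.smul_r, p.vv, p.symm v (uu _ _), a1, a2, star_zero,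
      mul_zero, add_zero] at e'
    rw [mul_assoc, p.uu_mul h1 hn, p.uu_mul hz.1 (mul_mem hn h1), p.uu_mul hn h1, e, m.smul_r,
      ← p.uu_mul hn h1, (p.uu_ok (mul_mem hn h1).1.1).1, p.uu_mul hn h1, p.symm, e', ← hk]
    linear_combination (norm := module) -g.two ((k * t) • v)

end Par

end H85
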