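import Mathlib
import Cfsg.Agent.Lib.H85.Geo4

/-! The main induction. -/

set_option autoImplicit false
set_option linter.unusedSectionVars false
set_option linter.style.haveILetI false

namespace H85

open Subgroup

universe u

section

variable {R V : Type*} [CommRing R] [StarRing R] [AddCommGroup V] [Module R V] [Finite V]
  {g : Geo R V}

variable (g) in
/-- A singular and a nonsingular vector, orthogonal. -/
def C2 (v w : V) : Prop := (∀ r : R, star r = r) ∧ (∀ r : R, g.Q (r • v) = 0) ∧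
  (∃ r : R, g.Q (r • w) ≠ 0) ∧ ∀ r : R, g.B w (r • v) = 0

variable (g) in
/-- The inductive statement. -/
def SS : Prop := (∀ u, TW (sg V) (g.GG {u})) ∧
  (Prim R → ∀ v w, C2 g v w → TW (sg V) (g.GG {v, w}))

variable (g) in
/-- The induction hypothesis. -/
def IH : Prop := ∀ W h, W ≠ ⊤ → SS (g.res W h)

theorem IH.bw2 (ih : IH g) {u : V} (h0 : u ≠ 0) {f : Am V → ℂ} (hf : Bad (sg V) (g.GG {u}) f) :
    ∃ P ≤ g.GG {u}, IsPGroup 2 P ∧ NH (sg V) P f := by
  obtain ⟨A, P, h⟩ := hf.exists_el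
  by_cases hA : A = ⊥
  · exact ⟨P, h.hP, h.pg, by simpa [hA] using h.nh⟩
  have hs : ∀ a ∈ A, a.2 = 1 := fun a ha => s_of_odd' (s := sg V) h.odd ha
  let W : Submodule R V :=
    { carrier := {y | ∀ a ∈ A, a.1 y = y}
      zero_mem' := fun a ha => (h.hA ha).1.zero
      add_mem' := fun hy hz a ha => by rw [(h.hA ha).1.add, hy a ha, hz a ha]
      smul_mem' := fun r y hy a ha => by rw [(h.hA ha).1.smul, hy a ha, hs a ha, tw_one] }
  have nd : g.ND W := fun y hy hy' => g.nondeg y fun z => by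
    have := Fintype.ofFinite A
    have k := hy' (∑ a : A, a.1.1 z) fun b hb =>
      (map_sum (h.hA hb).1.hom _ _).trans (Fintype.sum_equiv (Equiv.mulLeft ⟨b, hb⟩) _ _
        fun _ => rfl)
    rw [g.symm, map_sum, Finset.sum_congr rfl (g := fun _ => g.B y z) fun a _ => by
      rw [← (h.hA a.2).1.b y z, hy _ a.2], Finset.sum_const, Finset.card_univ,
      ← Nat.card_eq_fintype_card] at k
    obtain ⟨n, hn⟩ := h.odd
    rwa [hn, add_smul, mul_comm, mul_smul, two_smul, smul_add, zm2, zero_add, one_smul] at k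
  have hu : u ∈ W := fun a ha => (h.hA ha).2 u rfl
  refine (hf.kl (L := g.GG {u} ⊓ Geo.St (W : Set V)) inf_le_left (Geo.split nd
    ((ih W nd fun e => hA (eq_bot_iff.2 fun a ha => Prod.ext (Equiv.ext fun y =>
      (e ▸ trivial : y ∈ W) a ha) (hs a ha))).1 ⟨u, hu⟩) ((ih _ _ (nd.perp_ne hu h0)).1 0)
    fun x => ⟨fun k => ⟨k.1.1, k.2, by simpa using k.1.2, by simpa using k.1.1.zero⟩,
      fun k => ⟨⟨k.1, by simpa using k.2.2.1⟩, k.2.1⟩⟩) (sup_le (fun a ha => ⟨h.hA ha,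
      Geo.mem_St fun y hy => (hy a ha).symm ▸ hy⟩) fun x hx => ⟨h.hP hx,
      Geo.mem_St fun y hy a ha => ?_⟩) h.nh).elim
  have := congrArg x.1 (hy _ (cj_mem (inv_mem (h.norm hx)) ha))
  simpa using this

theorem GG_zero (u : V) : g.GG {u, 0} = g.GG {u} :=
  le_antisymm (Geo.GG_anti (by simp)) fun _ h => ⟨h.1, by simpa [h.1.zero] using h.2⟩

theorem Par.tw_L {m : Hm g} {v v' w : V} (p : Par m v v' w) (ih : IH g) (hR : RG R) (hP : Prim R)
    (h0 : v ≠ 0) (hw : w = 0 ∨ C2 g v w) {y : V} (h1 : m.h y v = 0) (h2 : m.h y v' = 0)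
    {M : Subgroup (Am V)} (hM : ∀ l, l ∈ M ↔ l ∈ g.GG {v, v', w} ∧ ∃ c : R, l.1 y = y + c • w) :
    TW (sg V) M := by
  have s := ih _ p.ND.perp (p.ND.perp_ne (Submodule.subset_span (by simp)) h0)
  have hy := p.mem_perp.2 ⟨h1, h2⟩
  rcases hw with rfl | ⟨hs, -, ⟨r, hr⟩, -⟩
  · exact Geo.split_span p.ND (s.1 ⟨y, hy⟩) fun x => (hM x).trans
      ⟨fun k => ⟨Geo.GG_anti (by grind) k.1, by simpa using k.2⟩, fun k =>
        ⟨⟨k.1.1, by simpa [k.1.1.zero] using k.1.2⟩, by simpa using k.2⟩⟩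
  have un : ∀ c : R, c ≠ 0 → IsUnit c := fun c => hP c (hs c)
  have ww := hR.self_zero m hs w
  by_cases h3 : m.h y w = 0
  · obtain ⟨c, hc⟩ := p.sing y
    obtain ⟨d, hd⟩ := p.sing w
    obtain ⟨e, he⟩ := (un d fun e => hr (by simp [hd, e])).dvd (a := c)
    obtain ⟨t, rfl⟩ := hR.sqrt e
    have k : ∀ s : R, g.Q (s • (y + t • w)) = 0 := fun s => by
      rw [smul_add, g.polar, smul_smul, hc, hd, m.B_eq, m.smul_l, m.smul_r, h3, he, hs, hs,
        ← map_add, ← map_add, ← map_zero m.β]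
      congr 1; linear_combination hR.two (s * s * d * t * t)
    have hw := p.mem_perp.2 ⟨p.w1, p.w2⟩
    refine Geo.split_span p.ND (s.2 hP ⟨y + t • w, add_mem hy (Submodule.smul_mem _ _ hw)⟩
      ⟨w, hw⟩ ⟨hs, k, ⟨r, hr⟩, fun s => (m.B_eq w (s • (y + t • w))).trans ?_⟩) fun x =>
      (hM x).trans ⟨fun ⟨a, b, e⟩ => ⟨Geo.GG_anti (by grind) a, ?_⟩, fun ⟨a, b⟩ => ?_⟩
    · simp [m.smul_r, m.add_r, p.symm w y, h3, ww]
    · have e' : x.1 (y + t • w) = y + t • w + b • w := by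
        rw [a.1.add, a.1.smul, e, a.2 w (by simp), tw_of_sa _ (hs t), add_right_comm]
      suffices b = 0 by simpa [e', this] using a.2 w (by simp)
      by_contra hb
      obtain ⟨s, rfl⟩ := (un b hb).dvd (a := r)
      have := a.1.q (s • (y + t • w))
      rw [a.1.smul, e', tw_of_sa _ (hs s), smul_add, g.polar, k, m.B_eq, smul_smul] at this
      simp [m.smul_l, m.smul_r, m.add_l, h3, ww, mul_comm s, hr] at this
    · simp only [Set.mem_insert_iff, Set.mem_singleton_iff, forall_eq_or_imp, forall_eq] at b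
      refine ⟨⟨a.1, by simpa [b.2] using a.2⟩, 0, ?_⟩
      simpa [a.1.add, a.1.smul, b.2, tw_of_sa _ (hs t)] using b.1
  · let W := Submodule.span R {y, v, v', w}
    have k : ∀ z ∈ W, m.h z v = 0 → m.h z v' = 0 → m.h z w = 0 → ∃ c : R, z = c • w := by
      intro z hz
      simp only [W, Submodule.mem_span_insert, Submodule.mem_span_singleton] at hz
      obtain ⟨a, _, ⟨b, _, ⟨c, _, ⟨d, rfl⟩, rfl⟩, rfl⟩, rfl⟩ := hz
      simp only [m.add_l, m.smul_l, h1, h2, p.vv, p.vv', p.hv, p.hv', p.w1, p.w2, ww, p.symm v w,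
        p.symm v' w, star_zero, mul_zero, mul_one, add_zero, zero_add, (un _ h3).mul_left_eq_zero]
      rintro rfl rfl rfl
      exact ⟨d, by simp⟩
    have nd : g.ND W := fun z hz hz' => by
      have e := m.mem_perp.1 hz'
      obtain ⟨c, rfl⟩ := k z hz (e v (by simp)) (e v' (by simp)) (e w (by simp))
      have := e y (by simp)
      rw [m.smul_l, p.symm, hs, (un _ h3).mul_left_eq_zero] at this
      simp [this]
    have mem : ∀ z ∈ ({y, v, v', w} : Set V), z ∈ W := fun z hz => Submodule.subset_span hz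
    refine Geo.split nd (X₁ := Subtype.val ⁻¹' {v, v', w}) (Geo.tw_coiso hs fun z hz => ?_)
      ((ih _ _ (nd.perp_ne (mem v (by simp)) h0)).1 0) fun x => (hM x).trans
      ⟨fun ⟨a, b, e⟩ => ⟨a.1, Geo.mem_St (a.1.mem_span ?_), fun z hz => a.2 z hz,
        by simpa using a.1.zero⟩, fun ⟨a, b, c, _⟩ => ?_⟩
    · have e : ∀ t ∈ ({v, v', w} : Set V), m.h z t = 0 := fun t ht => m.eq_zero fun s =>
        (g.symm _ _).trans (hz (s • ⟨t, mem t (Or.inr ht)⟩)
          (Submodule.smul_mem _ _ (Submodule.subset_span ht)))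
      obtain ⟨c, hc⟩ := k z z.2 (e v (by simp)) (e v' (by simp)) (e w (by simp))
      rw [show z = c • ⟨w, mem w (by simp)⟩ from Subtype.ext hc]
      exact Submodule.smul_mem _ _ (Submodule.subset_span (by simp))
    · rintro z (rfl | hz)
      · exact e ▸ add_mem (mem _ (by simp)) (W.smul_mem _ (mem _ (by simp)))
      · exact (a.2 z hz).symm ▸ mem z (Or.inr hz)
    · have c' : ∀ t ∈ ({v, v', w} : Set V), x.1 t = t := fun t ht => c ⟨t, mem t (Or.inr ht)⟩ ht
      have e : ∀ t ∈ ({v, v', w} : Set V), m.h (x.1 y + y) t = 0 := fun t ht => by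
        have := m.iso p.th a y t
        rw [m.add_l, ← c' t ht, m.iso p.th a, tw_of_sa _ (hs _), c' t ht, p.two]
      obtain ⟨d, hd⟩ := k _ (add_mem ((b y).2 (mem y (by simp))) (mem y (by simp)))
        (e v (by simp)) (e v' (by simp)) (e w (by simp))
      exact ⟨⟨a, c'⟩, d, by rw [← hd, add_comm, add_assoc, g.two, add_zero]⟩

theorem IH.parab (ih : IH g) (hR : RG R) (hP : Prim R) (m : Hm g) (th : m.θ = 1) {v w : V}
    (h0 : v ≠ 0) (qv : ∀ s : R, g.Q (s • v) = 0) (e : ∀ s t : R, s • v + t • w = 0 → s = 0)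
    (hw : w = 0 ∨ C2 g v w) : TW (sg V) (g.GG {v, w}) := fun f hf => by
  obtain ⟨v', p⟩ := hR.exists_par hP m th qv e
    (hw.elim (fun e => e ▸ m.zero_l v) fun h => m.eq_zero h.2.2.2)
  by_cases hz : ∀ z ∈ p.ZZ, f z = f 1
  · obtain ⟨y, h1, h2, M, h3, h4⟩ := p.cla hf hz
    exact h3 (p.tw_L ih hR hP h0 hw h1 h2 h4)
  push Not at hz
  obtain ⟨z, hz, hz'⟩ := hz
  obtain ⟨r, hr⟩ := not_forall.1 fun hs => hz' (by rw [p.ZZ_triv hR hs hz])
  obtain rfl := hw.resolve_right fun h => hr (h.1 r)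
  obtain ⟨a, ha⟩ := p.heis hR hP hr rfl
  obtain ⟨P, h1, h2, h3⟩ := ih.bw2 h0 (GG_zero (g := g) v ▸ hf)
  exact ha.not_tw hf hz hz' ((GG_zero (g := g) v).symm ▸ h1) h2 h3 (p.tw_L ih hR hP h0 (Or.inl rfl)
    (m.zero_l v) (m.zero_l v') fun l => (and_iff_left_of_imp fun h => ⟨0, by simp [h.1.zero]⟩).symm)

theorem RG.exists_hm (hR : RG R) (hP : Prim R) (g : Geo R V) {u : V} (h0 : u ≠ 0) :
    ∃ m : Hm g, m.θ = 1 := by
  have := nontrivial_of_ne _ _ h0
  have := Module.nontrivial R V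
  have := hR.fin
  obtain ⟨β, h1, h2⟩ := hR.exists_beta hP
  exact (g.exists_hm hR.two β 1 h1 h2).imp fun _ h => h.2

theorem IH.s2 (ih : IH g) (hR : RG R) (hP : Prim R) {v w : V} (h0 : v ≠ 0) (h : C2 g v w) :
    TW (sg V) (g.GG {v, w}) := by
  obtain ⟨m, th⟩ := hR.exists_hm hP g h0
  refine ih.parab hR hP m th h0 h.2.1 (fun s t e => by_contra fun hs => ?_) (Or.inr h)
  by_cases ht : t = 0
  · exact h0 ((hP s (h.1 s) hs).smul_eq_zero.1 (by simpa [ht] using e))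
  · obtain ⟨r, hr⟩ := h.2.2.1
    obtain ⟨c, rfl⟩ := (hP t (h.1 t) ht).dvd (a := r)
    rw [mul_comm, mul_smul, ← g.eq_of_add e, smul_smul] at hr
    exact hr (h.2.1 _)

theorem exists_fix {P : Subgroup (Am V)} (hP : IsPGroup 2 P) (S : Set V)
    (hS : ∀ x ∈ P, ∀ y ∈ S, x.1 y ∈ S) (h0 : 0 ∈ S) (h1 : ∀ x ∈ P, x.1 0 = 0) (σ : S → S)
    (h2 : ∀ y, σ (σ y) = y) (h3 : ∀ y, σ y ≠ y) : ∃ v ∈ S, v ≠ 0 ∧ ∀ x ∈ P, x.1 v = v := by
  classical
  letI : MulAction P S :=
    { smul := fun x y => ⟨x.1.1 y, hS _ x.2 _ y.2⟩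
      one_smul := fun _ => rfl
      mul_smul := fun _ _ _ => rfl }
  have := Fintype.ofFinite S
  have k := Equiv.Perm.card_fixedPoints_modEq (f := σ) (p := 2) (n := 1) (funext h2)
  rw [Fintype.card_eq_zero_iff (α := Function.fixedPoints σ) |>.2 ⟨fun y => h3 _ y.2⟩,
    ← Nat.card_eq_fintype_card] at k
  obtain ⟨v, h4, h5⟩ := hP.exists_fixed_point_of_prime_dvd_card_of_fixed_point S
    (Nat.modEq_zero_iff_dvd.1 k) (a := ⟨0, h0⟩) fun x => Subtype.ext (h1 _ x.2)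
  exact ⟨v, v.2, fun e => h5 (Subtype.ext e.symm), fun x hx => congrArg Subtype.val (h4 ⟨x, hx⟩)⟩

theorem IH.s1_prim (ih : IH g) (hR : RG R) (hP : Prim R) {u : V} (h0 : u ≠ 0) :
    TW (sg V) (g.GG {u}) := fun f hf => by
  obtain ⟨m, th⟩ := hR.exists_hm hP g h0
  obtain ⟨τ, hτ, e, -⟩ := hf.2
  have fr : ∀ s : R, s • u = 0 → s = 0 := fun s hs => hR.eq_zero hP
    (LinearMap.ker (LinearMap.toSpanSingleton R V u))
    (fun e => h0 (by simpa using (e ▸ trivial : 1 ∈ LinearMap.ker (LinearMap.toSpanSingleton R V u))))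
    (fun r hr => by
      have := hτ.1.smul r u
      rw [show r • u = 0 from hr, hτ.1.zero, hτ.2 u rfl, show τ.2 = -1 from e] at this
      exact this.symm) hs
  by_cases h1 : m.h u u = 0
  swap
  · have nd : g.ND (Submodule.span R {u}) := fun z hz hz' => by
      obtain ⟨c, rfl⟩ := Submodule.mem_span_singleton.1 hz
      have := m.mem_perp.1 hz' u rfl
      rw [m.smul_l, (hP _ (by simpa [th] using (m.symm u u).symm) h1).mul_left_eq_zero] at this
      simp [this]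
    exact Geo.split_span nd ((ih _ _ (nd.perp_ne (Submodule.subset_span rfl) h0)).1 0)
      (fun x => (and_iff_left_of_imp fun h => by simpa using h.1.zero).symm) f hf
  by_cases h2 : ∀ s : R, g.Q (s • u) = 0
  · exact ih.parab hR hP m th h0 h2 (fun s t e => fr s (by simpa using e)) (Or.inl rfl) f
      ((GG_zero (g := g) u).symm ▸ hf)
  have hs : ∀ r : R, star r = r := fun r => by_contra fun hr => h2 fun s => by
    obtain ⟨a, ha, hu⟩ := hR.unitary hP hr
    obtain ⟨t, rfl⟩ := hu.dvd (a := s)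
    rw [add_mul, one_mul, add_smul, g.polar, mul_smul, hR.q_unit g ha, zm2, m.B_eq]
    simp [m.smul_l, m.smul_r, h1]
  by_cases h3 : g.perp (Submodule.span R {u}) ≤ Submodule.span R {u}
  · exact Geo.tw_coiso hs h3 f hf
  obtain ⟨y₀, h4, h5⟩ := SetLike.not_le_iff_exists.1 h3
  replace h4 := m.mem_perp.1 h4 u rfl
  obtain ⟨P, p1, p2, p3⟩ := ih.bw2 h0 hf
  push Not at h2
  obtain ⟨r, hr⟩ := h2
  have un : ∀ c : R, c ≠ 0 → IsUnit c := fun c => hP c (hs c)
  have k1 : ∀ y, m.h y u = 0 → ∃ t : R, ∀ s : R, g.Q (s • (y + t • u)) = 0 := fun y hy => by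
    obtain ⟨c, hc⟩ := hR.sing hP m th y
    obtain ⟨d, hd⟩ := hR.sing hP m th u
    obtain ⟨e, he⟩ := (un d fun e => hr (by simp [hd, e])).dvd (a := c)
    obtain ⟨t, rfl⟩ := hR.sqrt e
    refine ⟨t, fun s => ?_⟩
    rw [smul_add, g.polar, smul_smul, hc, hd, m.B_eq, m.smul_l, m.smul_r, hy, he, hs, hs,
      ← map_add, ← map_add, ← map_zero m.β]
    congr 1; linear_combination hR.two (s * s * d * t * t)
  choose! t ht using k1
  let S : Set V := {y | m.h y u = 0 ∧ ∀ s : R, g.Q (s • y) = 0}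
  have k2 : ∀ y ∈ S, ∀ b : R, y + b • u ∈ S → b = 0 := fun y hy b h => by_contra fun hb => by
    obtain ⟨s, rfl⟩ := (un b hb).dvd (a := r)
    have := h.2 s
    rw [smul_add, g.polar, hy.2, m.B_eq, smul_smul] at this
    simp [m.smul_l, m.smul_r, hy.1, mul_comm s, hr] at this
  have k3 : ∀ y : S, m.h (y + y₀) u = 0 := fun y => by rw [m.add_l, y.2.1, h4, add_zero]
  let σ : S → S := fun y => ⟨y + y₀ + t (y + y₀) • u, by
    rw [m.add_l, k3, m.smul_l, h1, mul_zero, add_zero], ht _ (k3 y)⟩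
  obtain ⟨v, v1, v2, v3⟩ := exists_fix p2 S (fun x hx y hy => ⟨by
    rw [← (p1 hx).2 u rfl, m.iso th (p1 hx).1, hy.1, tw_of_sa _ (hs _)], fun s => by
    rw [← tw_tw x.2 s, ← (p1 hx).1.smul, (p1 hx).1.q, hy.2]⟩) ⟨m.zero_l u, by simp [g.Q_zero]⟩
    (fun x hx => (p1 hx).1.zero) σ (fun y => Subtype.ext (by
      have e : (σ (σ y) : V) = y + (t (y + y₀) + t (σ y + y₀)) • u := by
        linear_combination (norm := module) g.two y₀
      rw [e, k2 _ y.2 (t (y + y₀) + t (σ y + y₀)) (e ▸ (σ (σ y)).2), zero_smul, add_zero])) fun y e => h5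
      (Submodule.mem_span_singleton.2 ⟨_, (g.eq_of_add (by
        simpa [σ, add_assoc, Subtype.ext_iff] using e)).symm⟩)
  exact hf.kl (Geo.GG_anti (by simp)) (ih.s2 hR hP v2 ⟨hs, v1.2, ⟨r, hr⟩, fun s => by
    rw [m.B_eq, m.smul_r, m.symm, v1.1]; simp⟩) (fun x hx => ⟨(p1 hx).1, by
      simpa [v3 x hx] using (p1 hx).2⟩) p3

theorem IH.s1_faith (ih : IH g) (hR : RG R) (fa : ∀ r : R, (∀ y : V, r • y = 0) → r = 0) {u : V}
    (h0 : u ≠ 0) : TW (sg V) (g.GG {u}) := by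
  by_cases hP : Prim R
  · exact ih.s1_prim hR hP h0
  simp only [Prim, not_forall] at hP
  obtain ⟨t, h1, h2, h3⟩ := hP
  obtain ⟨k, k0, hk⟩ := hR.pw t
  obtain ⟨j, hj⟩ : ∃ j, 2 ^ k = j + 2 := Nat.exists_eq_add_of_le' (Nat.le_self_pow k0.ne' 2)
  rw [hj] at hk
  obtain ⟨e, e1, e2, e3, e4⟩ : ∃ e : R, star e = e ∧ e * e = e ∧ e ≠ 0 ∧ e ≠ 1 :=
    ⟨t ^ (j + 1), by rw [star_pow, h1], by linear_combination t ^ j * hk,
      fun e => h2 (by linear_combination t * e - hk),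
      fun e => h3 (IsUnit.of_pow_eq_one e j.succ_ne_zero)⟩
  let W : Submodule R V := LinearMap.eqLocus (LinearMap.lsmul R V e) LinearMap.id
  have m1 : ∀ y, e • y ∈ W := fun y => (smul_smul _ _ _).trans (by rw [e2]; rfl)
  have m2 : ∀ y, e • y + y ∈ g.perp W := fun y z hz => by
    rw [map_add, g.adj', e1, show e • z = z from hz, zm2]
  have nd : g.ND W := fun y hy hy' => g.nondeg y fun z => by
    rw [← show e • y = y from hy, g.adj, e1, g.symm, hy' _ (m1 z)]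
  refine Geo.split nd ((ih W nd fun h => e4 (g.eq_of_smul fa fun y => ?_)).1 ⟨_, m1 u⟩)
    ((ih _ _ fun h => e3 (fa _ fun y => nd _ (m1 y) (h.ge trivial))).1 ⟨_, m2 u⟩) fun x =>
    ⟨fun h => ⟨h.1, Geo.mem_St fun y hy => ?_, ?_⟩, fun ⟨a, _, b, c⟩ => ⟨a, ?_⟩⟩
  · rw [one_smul]; exact (h ▸ trivial : y ∈ W)
  · change e • x.1 y = x.1 y
    rw [← tw_of_sa x.2 e1, ← h.1.smul, show e • y = y from hy]
  · simp [h.1.add, h.1.smul, tw_of_sa _ e1, h.2 u]
  · simp only [Set.mem_singleton_iff, forall_eq] at b c ⊢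
    rwa [a.add, b, add_right_inj] at c

end

theorem SS_all (n : ℕ) : ∀ (R V : Type u) [CommRing R] [StarRing R] [AddCommGroup V] [Module R V]
    [Finite V] (g : Geo R V), RG R → Nat.card V < n → SS g := by
  induction n with
  | zero => exact fun _ _ _ _ _ _ _ _ _ h => absurd h (Nat.not_lt_zero _)
  | succ n ih =>
  intro R V _ _ _ _ _ g hR hn
  have k0 : ∀ (R : Type u) [CommRing R] [StarRing R] [Module R V] (g : Geo R V), RG R → IH g :=
    fun R _ _ _ g hR W h hW => ih R W _ hR (lt_of_lt_of_le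
      (Finite.card_subtype_lt (not_forall.1 (mt Submodule.eq_top_iff'.2 hW)).choose_spec)
      (Nat.lt_succ_iff.1 hn))
  have k1 : ∀ (R : Type u) [CommRing R] [StarRing R] [Module R V] (g : Geo R V), RG R →
      ∀ u ≠ 0, TW (sg V) (g.GG {u}) := fun R _ _ _ g hR u hu => by
    obtain ⟨R', _, _, _, g', h1, h2, h3⟩ := g.exists_env' hR (A := ⊥) bot_le (by simp) (by simp)
    rw [show g.GG {u} = g'.GG {u} from Subgroup.ext fun x => by simp [h3]]
    exact (k0 R' g' h1).s1_faith h1 h2 hu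
  refine ⟨fun u => ?_, fun hP v w h => ?_⟩
  · by_cases hu : u = 0
    swap
    · exact k1 R g hR u hu
    rcases subsingleton_or_nontrivial V with _ | _
    · exact Geo.tw_span (Subsingleton.elim _ _)
    intro f hf
    obtain ⟨A, P, h, ht⟩ := hf.exists_el_tw
    obtain ⟨y, hy⟩ := exists_ne (0 : V)
    obtain ⟨v, -, v2, v3⟩ := exists_fix h.pg Set.univ (fun _ _ _ _ => trivial) trivial
      (fun x hx => (h.hP hx).1.zero) (fun z => ⟨z + y, trivial⟩)
      (fun z => Subtype.ext (by simp [add_assoc, g.two])) fun z e => hy (by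
        simpa [Subtype.ext_iff] using e)
    obtain ⟨R', _, _, _, g', h1, -, h3⟩ := g.exists_env' hR
      (h.hA.trans (Geo.GG_anti (Set.empty_subset _))) h.comm h.odd
    exact hf.kl (sup_le h.hA fun x hx => ⟨((h3 _ x).1 hx).1.1, by
      simpa [hu] using ((h3 _ x).1 hx).1.1.zero⟩) ((k1 R' g' h1 v v2).sup h.comm
      (fun a ha => s_of_odd' h.odd ha) fun x hx => ((h3 _ x).1 hx).2)
      (sup_le_sup_left (fun x hx => (h3 _ x).2 ⟨⟨(h.hP hx).1, by simpa using v3 x hx⟩, ht x hx⟩) _)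
      h.nh
  · by_cases hv : v = 0
    · obtain ⟨r, hr⟩ := h.2.2.1
      rw [hv, Set.pair_comm, GG_zero]
      exact k1 R g hR w fun e => hr (by simp [e, g.Q_zero])
    · exact (k0 R g hR).s2 hR hP hv h

theorem Geo.tw {R V : Type u} [CommRing R] [StarRing R] [AddCommGroup V] [Module R V] [Finite V]
    (g : Geo R V) (hR : RG R) (u : V) : TW (sg V) (g.GG {u}) :=
  (SS_all _ R V g hR (Nat.lt_succ_self _)).1 u

end H85
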