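import Mathlib
import Cfsg.Agent.Lib.H85.Geo4

/-! Star algebras generated by a unitary element, in characteristic two. -/

set_option autoImplicit false
set_option linter.unusedSectionVars false
set_option linter.style.haveILetI false

namespace H85

open Polynomial

variable {F R : Type*} [Field F] [Finite F] [CharP F 2] [CommRing R] [StarRing R] [Algebra F R]

variable (F) in
/-- Generated by a unitary element. -/
structure RL (x : R) : Prop where
  st : ∀ c : F, star (algebraMap F R c) = algebraMap F R c
  ux : x * star x = 1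
  gen : ∀ r : R, ∃ p : F[X], r = aeval x p

/-- Fixed points are traces. -/
def FI (κ : R) : Prop := ∀ α, κ * star α = α → ∃ δ, α = δ + κ * star δ

theorem FI.mul {κ c : R} (h : FI κ) (hc : c * star c = 1) : FI (κ * c * c) := fun α e => by
  obtain ⟨δ, hδ⟩ := h (star c * α) (by
    rw [star_mul, star_star]; linear_combination star c * e - κ * star α * c * hc)
  exact ⟨c * δ, by
    rw [star_mul]; linear_combination c * hδ - (α + κ * c * star δ) * hc⟩

theorem FI.of_one {z κ : R} (h : z + star z = 1) : FI κ := fun α e =>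
  ⟨z * α, by rw [star_mul]; linear_combination -α * h - star z * e⟩

theorem exists_b0 : ∃ β : F →+ ZMod 2, ∀ a, (∀ c, β (c * a) = 0) → a = 0 := by
  obtain ⟨β, h, -⟩ := exists_fun_ne (CharTwo.add_self_eq_zero (R := F)) ⊥ (z := 1) one_ne_zero
  exact ⟨β, fun a k => by_contra fun e => by simpa [e, h] using k a⁻¹⟩

theorem f_sqrt (c : F) : ∃ t, t * t = c := by
  simpa [frobenius_def, pow_two] using
    (Finite.injective_iff_surjective.1 (frobenius F 2).injective) c

variable {x : R}

theorem RL.two (_ : RL F x) (r : R) : r + r = 0 := by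
  rw [← one_smul F r, ← add_smul, CharTwo.add_self_eq_zero, zero_smul]

theorem RL.refl (h : RL F x) {N : ℕ} {p : F[X]} (hp : p.natDegree ≤ N) :
    aeval x (reflect N p) = x ^ N * star (aeval x p) := by
  letI : Invertible (star x) := ⟨x, h.ux, by rw [mul_comm, h.ux]⟩
  have := eval₂_reflect_mul_pow (algebraMap F R) (star x) N p hp
  have e := hom_eval₂ p (algebraMap F R) (starRingEnd R) x
  rw [show (starRingEnd R).comp (algebraMap F R) = algebraMap F R from RingHom.ext h.st] at e
  rw [aeval_def, aeval_def, show star (eval₂ _ x p) = _ from e, starRingEnd_apply, ← this,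
    mul_left_comm, ← mul_pow, h.ux, one_pow, mul_one]; rfl

theorem RL.dec (h : RL F x) (r : R) : ∃ c s, r = algebraMap F R c + (x + 1) * s := by
  obtain ⟨p, rfl⟩ := h.gen r
  obtain ⟨q, hq⟩ := X_sub_C_dvd_sub_C_eval (p := p) (a := 1)
  have := congrArg (aeval x) hq
  simp only [map_sub, map_mul, aeval_X, aeval_C, map_one] at this
  exact ⟨p.eval 1, aeval x q, by linear_combination this - h.two (aeval x q)⟩

theorem RL.dvd (h : RL F x) (δ : R) (n : ℕ) : x + 1 ∣ δ + x ^ n * star x * star δ := by
  obtain ⟨c, s, rfl⟩ := h.dec δ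
  obtain ⟨t, ht⟩ := sub_dvd_pow_sub_pow x 1 n
  rw [star_add, star_mul, star_add, star_one, h.st]
  refine ⟨s + star x * (algebraMap F R c * (t + 1) + x ^ n * star s * star x), ?_⟩
  linear_combination star x * algebraMap F R c * ht - (algebraMap F R c +
    x ^ n * star x * star s) * h.ux - h.two (star x * algebraMap F R c * t)

theorem RL.pkg [Finite R] [Nontrivial R] (h : RL F x) : ∃ (β : R →+ ZMod 2) (n : ℕ),
    (∀ r, β (star r) = β (x ^ n * star x * r)) ∧ (∀ r, (∀ s, β (s * r) = 0) → r = 0) ∧
    Nat.card R = Nat.card F ^ (n + 1) ∧ (Odd n → FI (x ^ n) ∧ FI (x ^ n * (x ^ n * star x))) ∧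
    (Even n → ∀ α, x ^ n * star x * star α = α → (∀ c, β (algebraMap F R c * α) = 0) →
      ∃ δ, α = δ + x ^ n * star x * star δ) := by
  let pb := PowerBasis.ofAdjoinEqTop (K := F) (x := x) (IsIntegral.of_finite F x)
    (eq_top_iff.2 fun r _ => Algebra.adjoin_singleton_eq_range_aeval F x ▸
      (h.gen r).imp fun _ e => e.symm)
  have hx : pb.gen = x := rfl
  clear_value pb
  obtain ⟨n, hn⟩ := Nat.exists_eq_succ_of_ne_zero pb.dim_ne_zero
  let b : R →ₗ[F] F := pb.basis.coord ⟨n, by omega⟩
  have b1 : ∀ i ≤ n, b (x ^ i) = if i = n then 1 else 0 := fun i hi => by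
    rw [← hx, show pb.gen ^ i = pb.basis ⟨i, by omega⟩ by simp]
    simp [b, Finsupp.single_apply, -PowerBasis.coe_basis]
  have b2 : ∀ p : F[X], p.natDegree ≤ n → b (aeval x p) = p.coeff n := fun p hp => by
    rw [aeval_eq_sum_range' (Nat.lt_succ_of_le hp), map_sum, Finset.sum_range_succ,
      Finset.sum_eq_zero fun i hi => by
        rw [map_smul, b1 i (Finset.mem_range.1 hi).le, if_neg (Finset.mem_range.1 hi).ne, smul_zero]]
    simp [b1]
  have ex : ∀ r, ∃ p : F[X], p.natDegree ≤ n ∧ r = aeval x p := fun r =>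
    (pb.exists_eq_aeval r).imp fun p hp => ⟨by omega, hx ▸ hp.2⟩
  have b3 : ∀ r, b (x ^ n * star x * star r) = b (star x) * b r := fun r => by
    obtain ⟨p, hp, rfl⟩ := ex r
    rw [mul_right_comm, ← h.refl hp, ← divX_mul_X_add (reflect n p), b2 p hp]
    have := natDegree_reflect_le (N := n) (p := p)
    simp only [map_add, map_mul, aeval_X, aeval_C, add_mul, mul_assoc, h.ux, mul_one]
    rw [b2 _ (natDegree_divX_le.trans (by omega)), ← Algebra.smul_def, map_smul, coeff_divX,
      coeff_eq_zero_of_natDegree_lt (by omega)]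
    simp [mul_comm]
  have un : x ^ n * star x ^ n = 1 := by rw [← mul_pow, h.ux, one_pow]
  have b4 : b (star x) = 1 := by
    have := b3 (x ^ n * star x * star (x ^ n))
    rw [b3 (x ^ n), b1 n le_rfl, if_pos rfl, show x ^ n * star x * star (x ^ n * star x * star (x ^ n)) =
      x ^ n by
        simp only [star_mul, star_star, star_pow]
        linear_combination x ^ n * star x ^ n * x ^ n * h.ux + x ^ n * un, b1 n le_rfl,
      if_pos rfl, mul_one, eq_comm, mul_self_eq_one_iff, CharTwo.neg_eq, or_self] at this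
    exact this
  have L : ∀ e N, N + 1 = 2 * e → N ≤ n → ∀ p : F[X], p.natDegree ≤ N →
      x ^ N * star (aeval x p) = aeval x p → ∃ δ, aeval x p = δ + x ^ N * star δ := by
    intro e N h1 h2 p h3 h4
    have h5 : reflect N p = p := sub_eq_zero.1 (by_contra fun h0 => by
      have := pb.dim_le_natDegree_of_root h0 (by rw [map_sub, hx, h.refl h3, h4, sub_self])
      have := natDegree_sub_le (reflect N p) p
      have := natDegree_reflect_le (N := N) (p := p)
      omega)
    let q := PowerSeries.trunc e (p : PowerSeries F)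
    have h6 : q.natDegree ≤ N := natDegree_le_iff_coeff_eq_zero.2 fun i hi => by
      simp [q, PowerSeries.coeff_trunc, show ¬ i < e by omega]
    refine ⟨aeval x q, ?_⟩
    rw [← h.refl h6, ← map_add]
    congr 1
    ext i
    have := congrArg (coeff · i) h5
    simp only [coeff_reflect, coeff_add, q, PowerSeries.coeff_trunc, coeff_coe] at this ⊢
    by_cases hi : i ≤ N
    · rw [revAt_le hi] at this ⊢
      split_ifs <;> first | omega | simp [this]
    · rw [revAt_eq_self_of_lt (not_le.1 hi), coeff_eq_zero_of_natDegree_lt (by omega)]; simp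
  obtain ⟨β, hβ⟩ := exists_b0 (F := F)
  have k : ∀ r, (∀ c, β (b (algebraMap F R c * r)) = 0) → b r = 0 := fun r e =>
    hβ _ fun c => by rw [← e c, ← Algebra.smul_def, map_smul, smul_eq_mul]
  refine ⟨β.comp b.toAddMonoidHom, n, fun r => ?_, fun r hr => ?_, ?_, fun ⟨e, he⟩ => ?_,
    fun ⟨e, he⟩ α h1 h2 => ?_⟩
  · have := b3 (star r)
    rw [b4, one_mul, star_star] at this
    exact congrArg β this.symm
  · obtain ⟨p, hp, rfl⟩ := ex r
    have := k (aeval x (X ^ (n - p.natDegree) * p)) fun c => by
      simpa [mul_assoc] using hr (algebraMap F R c * x ^ (n - p.natDegree))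
    rw [b2 _ (natDegree_mul_le.trans (by simp; omega)), coeff_X_pow_mul', if_pos (Nat.sub_le _ _),
      Nat.sub_sub_self hp, coeff_natDegree, leadingCoeff_eq_zero] at this
    simp [this]
  · rw [Module.natCard_eq_pow_finrank (K := F), pb.finrank, hn]
  · have : FI (x ^ n) := fun α hα => by
      obtain ⟨p, hp, rfl⟩ := ex α
      exact L (e + 1) n (by omega) le_rfl p hp hα
    refine ⟨this, ?_⟩
    convert this.mul (c := x ^ e) (by rw [star_pow, ← mul_pow, h.ux, one_pow]) using 1
    rw [he]; linear_combination x ^ (2 * e + 1) * x ^ (2 * e) * h.ux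
  · obtain ⟨p, hp, rfl⟩ := ex α
    have := k _ h2
    rw [b2 p hp] at this
    rcases e with _ | e
    · rw [eq_C_of_natDegree_le_zero (p := p) (by omega), show p.coeff 0 = 0 by rwa [he] at this]
      exact ⟨0, by simp⟩
    · have e1 : x ^ n * star x = x ^ (2 * e + 1) := by
        rw [he]; linear_combination x ^ (2 * e + 1) * h.ux
      rw [e1] at h1 ⊢
      refine L (e + 1) _ (by omega) (by omega) p (natDegree_le_iff_coeff_eq_zero.2 fun i hi => ?_) h1
      rcases (show n ≤ i by omega).eq_or_lt with rfl | hi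
      exacts [this, coeff_eq_zero_of_natDegree_lt (by omega)]

end H85
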