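import Mathlib
import Cfsg.Agent.Lib.H85.Real1

/-! Semilinear involutions: reality in characteristic two. -/

set_option autoImplicit false
set_option linter.unusedSectionVars false
set_option linter.style.haveILetI false

namespace H85

open Polynomial

universe u

section

variable {F R V : Type*} [Field F] [Finite F] [CharP F 2] [CommRing R] [StarRing R] [Algebra F R]
  [AddCommGroup V] [Module R V] [Finite V] {q : ℕ} {g : Geo R V} {W : Submodule R V}

variable (g) in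
/-- A semilinear involution. -/
def T1 (τ : Am V) : Prop := g.Iso τ ∧ τ.2 = -1 ∧ ∀ y, τ.1 (τ.1 y) = y

/-- Free involution. -/
def FX (τ : Am V) : Prop := ∀ y, τ.1 y = y → ∃ z, y = z + τ.1 z

variable (q g) in
/-- A linear isometry of odd rank. -/
def RR : Prop := ∃ ρ, g.Iso ρ ∧ ρ.2 = 1 ∧
  ∃ e, Nat.card (Set.range fun y => ρ.1 y + y) = q ^ (2 * e + 1)

variable (q g) in
/-- The inductive statement. -/
def RS : Prop := ∃ τ, T1 g τ ∧ (FX τ ∨ RR q g)

theorem RR.lift (h : g.ND W) (k : RR q (g.res W h)) : RR q g := by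
  obtain ⟨a, h1, h2, e, h3⟩ := k
  obtain ⟨x, h4, h5, h6⟩ := g.exists_sum h (b := 1) h1 ((g.res _ h.perp).GG ∅).one_mem.1 h2.symm
  refine ⟨x, h4, h5.trans h2, e, ?_⟩
  rw [← h3, ← Nat.card_image_of_injective Subtype.val_injective, ← Set.range_comp]
  have k : ∀ (y : W) (z : g.perp W), x.1 (y + z) + (y + z) = a.1 y + y := fun y z => by
    rw [h6, add_add_add_comm]; simp [g.two]
  congr 2
  ext y
  refine ⟨?_, fun ⟨z, hz⟩ => ⟨_, (k z 0).trans hz⟩⟩
  rintro ⟨z, rfl⟩
  obtain ⟨c, hc, d, hd, rfl⟩ := h.exists z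
  exact ⟨⟨c, hc⟩, (k ⟨c, hc⟩ ⟨d, hd⟩).symm⟩

theorem RS.of (h : g.ND W) (h1 : ∃ a, T1 (g.res W h) a ∧ (FX a ∨ RR q g))
    (h2 : RS q (g.res _ h.perp)) : RS q g := by
  obtain ⟨a, a1, a2⟩ := h1
  obtain ⟨b, b1, b2⟩ := h2
  obtain ⟨x, h4, h5, h6⟩ := g.exists_sum h a1.1 b1.1 (b1.2.1.trans a1.2.1.symm)
  refine ⟨x, ⟨h4, h5.trans a1.2.1, fun y => ?_⟩, a2.elim (fun a2 => b2.elim (fun b2 => Or.inl
    fun y hy => ?_) fun k => Or.inr (k.lift _)) Or.inr⟩
  · obtain ⟨c, hc, d, hd, rfl⟩ := h.exists y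
    rw [h6 ⟨c, hc⟩ ⟨d, hd⟩, h6, a1.2.2, b1.2.2]
  · obtain ⟨c, hc, d, hd, rfl⟩ := h.exists y
    rw [h6 ⟨c, hc⟩ ⟨d, hd⟩] at hy
    have e : (a.1 ⟨c, hc⟩ : V) - c = d - b.1 ⟨d, hd⟩ := by rw [sub_eq_sub_iff_add_eq_add, hy, add_comm]
    have e' := h _ (sub_mem (a.1 _).2 hc) (e ▸ sub_mem hd (b.1 _).2)
    obtain ⟨s, hs⟩ := a2 _ (Subtype.ext (sub_eq_zero.1 e'))
    obtain ⟨t, ht⟩ := b2 ⟨d, hd⟩ (Subtype.ext (sub_eq_zero.1 (e.symm.trans e')).symm)
    refine ⟨s + t, ?_⟩
    rw [h6, add_add_add_comm]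
    exact congrArg₂ _ (congrArg Subtype.val hs) (congrArg Subtype.val ht)

variable (g) in
/-- Unitary scalars preserving the form. -/
def UU (κ : R) : Prop := κ * star κ = 1 ∧ ∀ y, g.Q (κ • y) = g.Q y

theorem UU.mul {a b : R} (h : UU g a) (k : UU g b) : UU g (a * b) :=
  ⟨by rw [star_mul]; linear_combination b * star b * h.1 + k.1, fun y => by rw [mul_smul, h.2, k.2]⟩

theorem UU.pow {a : R} (h : UU g a) (n : ℕ) : UU g (a ^ n) := by
  induction n with
  | zero => exact ⟨by simp, by simp⟩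
  | succ n ih => exact pow_succ a n ▸ ih.mul h

theorem UU.star {a : R} (h : UU g a) : UU g (star a) :=
  ⟨by rw [star_star, mul_comm, h.1], fun y => by rw [← g.qstar, h.2]⟩

theorem exists_tau (m : Hm g) (hθ : UU g m.θ) {v v' : V} (nd : g.ND (Submodule.span R {v, v'}))
    (h1 : ∀ r s : R, r • v + s • v' = 0 → r = 0 ∧ (v' = 0 ∨ s = 0)) (h2 : v' = 0 ∨ m.h v' v = 1)
    {κ : R} (hκ : UU g κ) : ∃ a, T1 (g.res _ nd) a ∧ (FI κ → FI (κ * m.θ) → FX a) := by
  have k0 : ∀ r s r' s' : R, r • v + s • v' = r' • v + s' • v' → r = r' ∧ (v' = 0 ∨ s = s') :=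
    fun r s r' s' e => by
      simpa [sub_eq_zero] using h1 (r - r') (s - s') (by linear_combination (norm := module) e)
  have : ∀ y : Submodule.span R {v, v'}, ∃ z : Submodule.span R {v, v'}, ∀ r s : R,
      (y : V) = r • v + s • v' → (z : V) = (κ * star r) • v + (κ * m.θ * star s) • v' := fun y => by
    obtain ⟨r, s, e⟩ := Submodule.mem_span_pair.1 y.2
    refine ⟨⟨_, Submodule.mem_span_pair.2 ⟨κ * star r, κ * m.θ * star s, rfl⟩⟩, fun r' s' e' => ?_⟩
    obtain ⟨rfl, rfl | rfl⟩ := k0 _ _ _ _ (e.trans e') <;> simp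
  choose φ hφ using this
  have k : ∀ y : Submodule.span R {v, v'}, ∃ r s : R, (y : V) = r • v + s • v' ∧
      (φ y : V) = (κ * star r) • v + (κ * m.θ * star s) • v' := fun y => by
    obtain ⟨r, s, e⟩ := Submodule.mem_span_pair.1 y.2
    exact ⟨r, s, e.symm, hφ _ _ _ e.symm⟩
  obtain ⟨a, a1, a2, a3⟩ := (g.res _ nd).exists_iso (-1) φ (fun y z => Subtype.ext (by
      obtain ⟨r, s, e1, e2⟩ := k y
      obtain ⟨r', s', e3, e4⟩ := k z
      rw [hφ _ (r + r') (s + s') (by simp only [Submodule.coe_add, e1, e3]; module)]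
      simp only [Submodule.coe_add, e2, e4, star_add]; module))
    (fun c y => Subtype.ext (by
      obtain ⟨r, s, e1, e2⟩ := k y
      rw [hφ _ (c * r) (c * s) (by simp only [Submodule.coe_smul, e1]; module)]
      simp only [Submodule.coe_smul, e2, star_mul, tw_neg]; module)) fun y => by
      obtain ⟨r, s, e1, e2⟩ := k y
      change g.Q (φ y) = g.Q y
      rw [e1, e2, g.polar, g.polar, mul_smul, mul_smul, hκ.2, (hκ.mul hθ).2, ← g.qstar, ← g.qstar]
      congr 1
      rcases h2 with rfl | h2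
      · simp
      · rw [← mul_smul, ← mul_smul, m.B_eq, m.B_eq, m.smul_l, m.smul_l, m.smul_r, m.smul_r, m.symm v,
          h2, show r * (star s * (m.θ * star 1)) = m.θ * (r * star s) by simp; ring, ← m.st]
        congr 1
        simp only [star_mul, star_star, star_one]
        linear_combination star r * s * m.θ * star m.θ * hκ.1 + star r * s * hθ.1
  refine ⟨a, ⟨a1, a2, fun y => Subtype.ext ?_⟩, fun f1 f2 y hy => ?_⟩
  · obtain ⟨r, s, e1, e2⟩ := k y
    rw [a3, a3, hφ _ _ _ e2, e1]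
    simp only [star_mul, star_star]
    congr 2
    · linear_combination r * hκ.1
    · linear_combination s * m.θ * star m.θ * hκ.1 + s * hθ.1
  · obtain ⟨r, s, e1, e2⟩ := k y
    rw [← a3, hy, e1] at e2
    obtain ⟨e3, e4⟩ := k0 _ _ _ _ e2
    obtain ⟨c, hc⟩ := f1 r e3.symm
    obtain ⟨d, hd⟩ : ∃ d, s • v' = (d + κ * m.θ * star d) • v' := e4.elim (fun e => ⟨0, by simp [e]⟩)
      fun e => (f2 s e.symm).imp fun d hd => congrArg (· • v') hd
    refine ⟨⟨_, Submodule.mem_span_pair.2 ⟨c, d, rfl⟩⟩, Subtype.ext ?_⟩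
    rw [Submodule.coe_add, a3, hφ _ c d rfl, e1, hd, hc]
    module

variable {x : R}

theorem RL.delta [Finite R] [Nontrivial R] (h : RL F x) (hx : UU g x) (hy : IsNilpotent (x + 1))
    (m : Hm g) (hK : ∀ α, m.θ * star α = α → (∀ c, m.β (algebraMap F R c * α) = 0) →
      ∃ δ, α = δ + m.θ * star δ) (w : V) : (∃ δ, m.h w w = δ + m.θ * star δ) ∧
    ∃ δ, ∀ s : R, g.Q (s • w) = m.β (s * star s * δ) := by
  obtain ⟨δ, hδ⟩ := hK _ (m.symm w w).symm fun c => by
    obtain ⟨t, rfl⟩ := f_sqrt c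
    rw [← h.st, m.spec, map_mul, mul_smul, g.adj', h.st, g.B_self]
  refine ⟨⟨δ, hδ⟩, ?_⟩
  let D : R →+ ZMod 2 := AddMonoidHom.mk' (fun s => g.Q (s • w) + m.β (s * star s * δ))
    fun s t => by
      have := m.st (s * star t * star δ)
      simp only [star_mul, star_star] at this
      rw [add_smul, g.polar, m.B_eq, m.smul_l, m.smul_r, hδ, star_add,
        show (s + t) * (star s + star t) * δ = s * star s * δ + t * star t * δ +
          (s * star t * δ + δ * (t * star s)) by ring,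
        show s * (star t * (δ + m.θ * star δ)) = s * star t * δ + m.θ * (s * star t * star δ) by
          ring]
      simp only [map_add, this]
      linear_combination zm2 (m.β (s * star t * δ) + m.β (m.θ * (s * star t * star δ)))
  have k : ∀ s, D ((x + 1) * s) = 0 := fun s => by
    rw [add_mul, one_mul, map_add, CharTwo.add_eq_zero]
    simp only [D, AddMonoidHom.mk'_apply]
    rw [mul_smul, hx.2, star_mul]
    congr 2; linear_combination s * star s * δ * hx.1
  obtain ⟨ψ, hψ⟩ := exists_fun h.two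
    (fun a : F × R => algebraMap F R (a.1 * a.1) + (x + 1) * a.2) (fun a => D (algebraMap F R a.1))
    ⟨0, by simp⟩ (fun a b => ⟨a + b, by
      simp only [Prod.fst_add, Prod.snd_add, map_mul, map_add]
      linear_combination h.two (algebraMap F R a.1 * algebraMap F R b.1), by simp⟩) fun a b e => by
      have : IsNilpotent (algebraMap F R ((a.1 - b.1) * (a.1 - b.1))) := by
        convert (Commute.all _ (b.2 - a.2)).isNilpotent_mul_right hy using 1
        simp only [map_mul, map_sub] at e ⊢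
        linear_combination e + h.two (algebraMap F R b.1 * (algebraMap F R b.1 - algebraMap F R a.1))
      rw [IsNilpotent.map_iff (algebraMap F R).injective, isNilpotent_iff_eq_zero, mul_self_eq_zero,
        sub_eq_zero] at this
      rw [this]
  obtain ⟨c, hc⟩ := m.rep h.two ψ
  refine ⟨δ + c, fun s => ?_⟩
  obtain ⟨a, t, rfl⟩ := h.dec s
  have := hψ (a, algebraMap F R a * (t + star x * star t) + (x + 1) * star x * t * star t)
  rw [← add_zero (D _), ← k t, ← map_add, ← hc] at this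
  rw [mul_add, map_add, ← CharTwo.add_eq_zero, ← add_assoc, CharTwo.add_eq_zero]
  refine this.symm.trans (congrArg _ ?_)
  simp only [star_add, star_mul, star_one, h.st, map_mul]
  linear_combination (algebraMap F R a + (x + 1) * t) * star t * c * h.ux

theorem Hm.rr [Finite R] (m : Hm g) {w : V} {δ : R} (hδ : IsUnit δ)
    (h : ∀ s : R, g.Q (s • w) = m.β (s * star s * δ)) (fr : ∀ s : R, s • w = 0 → s = 0) {e : ℕ}
    (hq : Nat.card R = q ^ (2 * e + 1)) : RR q g := by
  obtain ⟨k, hk⟩ := hδ.exists_left_inv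
  obtain ⟨x, h1, h2, h3⟩ := g.exists_iso 1 (fun y => y + (k * m.h y w) • w)
    (fun y z => by rw [m.add_l]; module) (fun r y => by rw [m.smul_l, tw_one]; module) fun y => by
      rw [g.polar, h, m.B_eq, m.smul_r, show k * m.h y w * star (k * m.h y w) * δ =
        star (k * m.h y w) * m.h y w by linear_combination star (k * m.h y w) * m.h y w * hk,
        add_assoc, zm2, add_zero]
  obtain ⟨u, hu, -⟩ := m.exists_dual (v := w) (w := 0) fun s t e => fr s (by simpa using e)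
  refine ⟨x, h1, h2, e, ?_⟩
  rw [← hq, ← Nat.card_range_of_injective (f := fun s : R => s • w) fun s t e =>
    sub_eq_zero.1 (fr _ (by rw [sub_smul, sub_eq_zero]; exact e))]
  have k : ∀ y, x.1 y + y = (k * m.h y w) • w := fun y => by
    rw [h3, add_right_comm, g.two, zero_add]
  congr 2
  ext y
  exact ⟨fun ⟨z, hz⟩ => ⟨_, (k z).symm.trans hz⟩, fun ⟨s, hs⟩ => ⟨(δ * s) • u, by
    simp only [k, m.smul_l, hu, mul_one, ← mul_assoc, hk, one_mul]; exact hs⟩⟩

theorem RL.exists_free (h : RL F x) (fa : ∀ r : R, (∀ y : V, r • y = 0) → r = 0) :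
    ∃ v : V, ∀ r : R, r • v = 0 → r = 0 := by
  letI : Module F[X] V := Module.compHom V (aeval x : F[X] →ₐ[F] R).toRingHom
  obtain ⟨v, hv⟩ := Module.exists_ker_toSpanSingleton_eq_annihilator F[X] V
  refine ⟨v, fun r hr => fa r fun y => ?_⟩
  obtain ⟨p, rfl⟩ := h.gen r
  exact Module.mem_annihilator.1 (hv ▸ hr : p ∈ Module.annihilator F[X] V) y

theorem RL.step [Finite R] [Nontrivial V] (h : RL F x) (hx : UU g x)
    (fa : ∀ r : R, (∀ y : V, r • y = 0) → r = 0)
    (hP : ∀ t : R, star t = t → IsNilpotent t ∨ IsUnit t) :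
    ∃ W, ∃ nd : g.ND W, g.perp W ≠ ⊤ ∧ ∃ a, T1 (g.res W nd) a ∧ (FX a ∨ RR (Nat.card F) g) := by
  have := Module.nontrivial R V
  obtain ⟨β, n, h1, h2, h3, h4, h5⟩ := h.pkg
  obtain ⟨m, rfl, th⟩ := g.exists_hm h.two β _ h1 h2
  have hθ : UU g m.θ := th ▸ (hx.pow n).mul hx.star
  obtain ⟨v, hv⟩ := h.exists_free fa
  have v0 : v ≠ 0 := fun e => one_ne_zero (hv 1 (by simp [e]))
  obtain ⟨v', nd, k1, k2, k3⟩ : ∃ v', g.ND (Submodule.span R {v, v'}) ∧
      (∀ r s : R, r • v + s • v' = 0 → r = 0 ∧ (v' = 0 ∨ s = 0)) ∧ (v' = 0 ∨ m.h v' v = 1) ∧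
      (v' = 0 → IsUnit (m.h v v)) := by
    rcases hP (m.h v v * star (m.h v v)) (by simp [mul_comm]) with e | e
    · obtain ⟨v', h', -⟩ := m.exists_dual (v := v) (w := 0) fun s t e => hv s (by simpa using e)
      have e' : IsNilpotent (m.h v v) := IsNilpotent.of_pow (m := 2) (by
        convert (Commute.all m.θ _).isNilpotent_mul_left e using 1
        linear_combination m.h v v * m.symm v v)
      have k : ∀ r s : R, m.h (r • v + s • v') v = 0 → m.h (r • v + s • v') v' = 0 →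
          r = 0 ∧ s = 0 := fun r s a b => by
        rw [m.add_l, m.smul_l, m.smul_l] at a b
        rw [h'] at a
        rw [m.symm v, h', star_one] at b
        have : r = 0 := (((Commute.all _ (m.h v' v')).isNilpotent_mul_right
          e').neg.isUnit_add_left_of_commute (IsUnit.of_mul_eq_one _ hθ.1)
          (Commute.all _ _)).mul_left_eq_zero.1 (by linear_combination b - m.h v' v' * a)
        exact ⟨this, by simpa [this] using a⟩
      refine ⟨v', fun z hz hz' => ?_, fun r s e => (k r s (e ▸ m.zero_l _) (e ▸ m.zero_l _)).imp_right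
        Or.inr, Or.inr h', fun e => absurd h' (by simp [e, m.zero_l])⟩
      obtain ⟨r, s, rfl⟩ := Submodule.mem_span_pair.1 hz
      simp [k r s (m.mem_perp.1 hz' v (by simp)) (m.mem_perp.1 hz' v' (by simp))]
    · replace e := isUnit_of_mul_isUnit_left e
      refine ⟨0, fun z hz hz' => ?_, fun r s e => ⟨hv r (by simpa using e), Or.inl rfl⟩, Or.inl rfl,
        fun _ => e⟩
      obtain ⟨r, s, rfl⟩ := Submodule.mem_span_pair.1 hz
      have := m.mem_perp.1 hz' v (by simp)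
      rw [smul_zero, add_zero, m.smul_l, e.mul_left_eq_zero] at this
      simp [this]
  refine ⟨_, nd, nd.perp_ne (Submodule.subset_span (by simp)) v0, ?_⟩
  obtain ⟨a, a1, a2⟩ := exists_tau m hθ nd k1 k2 (hx.pow n)
  refine ⟨a, a1, ?_⟩
  rcases Nat.even_or_odd n with hn | hn
  swap
  · exact Or.inl (a2 (h4 hn).1 (th ▸ (h4 hn).2))
  rcases hP ((x + 1) * star (x + 1)) (by simp [mul_comm]) with e | e
  swap
  · obtain ⟨z, hz⟩ := (isUnit_of_mul_isUnit_left e).exists_left_inv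
    have e1 := congrArg star hz
    rw [star_mul, star_add, star_one] at e1
    have : z + star z = 1 := by
      linear_combination (1 - star z) * hz + z * x * e1 - z * star z * h.ux
    exact Or.inl (a2 (FI.of_one this) (FI.of_one this))
  have hy : IsNilpotent (x + 1) := IsNilpotent.of_pow (m := 2) (by
    convert (Commute.all x _).isNilpotent_mul_left e using 1
    rw [star_add, star_one]; linear_combination -(x + 1) * h.ux)
  have nu : ∀ r, x + 1 ∣ r → ¬ IsUnit r := fun r hr e => hy.not_isUnit (isUnit_of_dvd_unit hr e)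
  rw [← th] at h5
  have dv : ∀ δ, x + 1 ∣ δ + m.θ * star δ := fun δ => th ▸ h.dvd δ n
  have dl := h.delta hx hy m (h5 hn)
  obtain ⟨e, rfl⟩ := hn
  have v0' : v' ≠ 0 := fun e => by
    obtain ⟨δ, hδ⟩ := (dl v).1
    exact nu _ (hδ ▸ dv δ) (k3 e)
  replace k2 := k2.resolve_left v0'
  refine Or.inr (by_contra fun H => ?_)
  have k : ∀ w, (∀ s : R, s • w = 0 → s = 0) → ∃ t, ∀ s : R,
      g.Q (s • w) = m.β (s * star s * ((x + 1) * t)) := fun w fr => by
    obtain ⟨δ, hδ⟩ := (dl w).2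
    obtain ⟨c, t, rfl⟩ := h.dec δ
    by_cases hc : c = 0
    · exact ⟨t, by simpa [hc] using hδ⟩
    exact (H (m.rr (((Commute.all _ t).isNilpotent_mul_right hy).isUnit_add_left_of_commute
      ((IsUnit.mk0 c hc).map _) (Commute.all _ _)) hδ fr (e := e) (by rw [h3, two_mul]))).elim
  obtain ⟨t₁, e₁⟩ := k v hv
  obtain ⟨t₂, e₂⟩ := k v' fun s e => (k1 0 s (by simpa using e)).2.resolve_left v0'
  obtain ⟨t₃, e₃⟩ := k (v' + v) fun s e => (k1 s s (by rw [← smul_add, add_comm, e])).1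
  obtain ⟨u, hu⟩ : ∃ u, u = 1 + (x + 1) * (t₁ + t₂ + t₃) := ⟨_, rfl⟩
  have k4 : ∀ s, m.β (s * star s * u) = 0 := fun s => by
    have := e₃ s
    rw [smul_add, g.polar, e₁, e₂, m.B_eq, m.smul_l, m.smul_r, k2, ← CharTwo.add_eq_zero,
      ← map_add, ← map_add, ← map_add] at this
    rw [← this, hu]; congr 1; ring
  obtain ⟨δ, hδ⟩ := h5 ⟨e, rfl⟩ u (m.ext' fun s => by
    have := k4 (s + 1)
    rw [star_add, star_one, show (s + 1) * (star s + 1) * u = s * star s * u + 1 * star 1 * u +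
      (s * u + star s * u) by simp; ring, map_add, map_add, map_add, k4, k4, zero_add, zero_add,
      CharTwo.add_eq_zero] at this
    rw [mul_left_comm, ← m.st, ← this, star_mul, star_star, star_star, mul_comm]) fun c => by
    obtain ⟨t, rfl⟩ := f_sqrt c
    simpa [h.st] using k4 (algebraMap F R t)
  exact nu 1 ((dvd_add_left (dvd_mul_right _ _)).1 (hu ▸ hδ ▸ dv δ)) isUnit_one

theorem Geo.exists_split (g : Geo R V) [Finite R] (fa : ∀ r : R, (∀ y : V, r • y = 0) → r = 0)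
    {t : R} (h1 : star t = t) (h2 : ¬ IsNilpotent t) (h3 : ¬ IsUnit t) :
    ∃ W, g.ND W ∧ W ≠ ⊤ ∧ g.perp W ≠ ⊤ := by
  obtain ⟨i, j, hij, e⟩ := Set.Finite.exists_lt_map_eq_of_forall_mem (f := fun n : ℕ => t ^ n)
    (fun _ => Set.mem_univ _) Set.finite_univ
  obtain ⟨d, rfl⟩ := Nat.exists_eq_add_of_lt hij
  have k : ∀ n, t ^ (i + (d + 1) * n) = t ^ i := fun n => by
    induction n with
    | zero => simp
    | succ n ih => linear_combination ih - t ^ ((d + 1) * n) * e
  obtain ⟨e, e1, e2, e3, e4⟩ : ∃ e : R, star e = e ∧ e * e = e ∧ e ≠ 0 ∧ e ≠ 1 :=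
    ⟨t ^ ((d + 1) * (i + 1)), by rw [star_pow, h1], by
      linear_combination t ^ (d * (i + 1) + 1) * k (i + 1), fun e => h2 ⟨_, e⟩,
      fun e => h3 (IsUnit.of_pow_eq_one e (by positivity))⟩
  let W : Submodule R V := LinearMap.eqLocus (LinearMap.lsmul R V e) LinearMap.id
  have m1 : ∀ y, e • y ∈ W := fun y => (smul_smul _ _ _).trans (by rw [e2]; rfl)
  have nd : g.ND W := fun y hy hy' => g.nondeg y fun z => by
    rw [← show e • y = y from hy, g.adj, e1, g.symm, hy' _ (m1 z)]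
  exact ⟨W, nd, fun h => e4 (g.eq_of_smul fa fun y => by
    rw [one_smul]; exact (h.ge trivial : y ∈ W)),
    fun h => e3 (fa _ fun y => nd _ (m1 y) (h.ge trivial))⟩

end

theorem RS_all (F : Type*) [Field F] [Finite F] [CharP F 2] (n : ℕ) : ∀ (R V : Type u) [CommRing R]
    [StarRing R] [Algebra F R] [AddCommGroup V] [Module R V] [Finite V] (g : Geo R V) (x : R),
    RL F x → UU g x → Nat.card V < n → RS (Nat.card F) g := by
  induction n with
  | zero => exact fun _ _ _ _ _ _ _ _ _ _ _ _ h => absurd h (Nat.not_lt_zero _)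
  | succ n ih =>
  intro R V _ _ _ _ _ _ g x h hx hn
  rcases subsingleton_or_nontrivial V with _ | _
  · exact ⟨(1, -1), ⟨⟨fun _ _ => rfl, fun _ _ => Subsingleton.elim _ _, fun _ => rfl⟩, rfl,
      fun _ => rfl⟩, Or.inl fun _ _ => ⟨0, Subsingleton.elim _ _⟩⟩
  obtain ⟨R', _, _, _, g', φ, h1, h2, h3, h4, fa, -, ind⟩ := g.exists_env (A := ⊥) bot_le (by simp)
  have k1 : ∀ r, star (φ r) = φ (star r) := fun r => g'.eq_of_smul fa
    (g'.star_smul fun x y => by rw [h3, h4, h4, g.adj])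
  have k2 : ∀ r', ∃ r, r' = φ r := ind _ (fun r => ⟨r, rfl⟩) (fun a ha r e => ⟨1, g'.eq_of_smul fa
    fun y => by simp [e, Subgroup.mem_bot.1 ha]⟩) (by
      rintro _ _ ⟨a, rfl⟩ ⟨b, rfl⟩; exact ⟨_, (map_add _ _ _).symm⟩) (by
      rintro _ _ ⟨a, rfl⟩ ⟨b, rfl⟩; exact ⟨_, (map_mul _ _ _).symm⟩)
  letI := (φ.comp (algebraMap F R)).toAlgebra
  have h' : RL F (φ x) := ⟨fun c => (k1 _).trans (congrArg φ (h.st c)),
    by rw [k1, ← map_mul, h.ux, map_one], fun r => by
      obtain ⟨r, rfl⟩ := k2 r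
      obtain ⟨p, rfl⟩ := h.gen r
      exact ⟨p, hom_eval₂ p _ φ x⟩⟩
  have hx' : UU g' (φ x) := ⟨h'.ux, fun y => by rw [h2, h4, hx.2]⟩
  have k3 : ∀ W nd, W ≠ ⊤ → RS (Nat.card F) (g'.res W nd) := fun W nd hW =>
    ih R' W _ _ h' ⟨h'.ux, fun y => hx'.2 y⟩ (lt_of_lt_of_le
      (Finite.card_subtype_lt (not_forall.1 (mt Submodule.eq_top_iff'.2 hW)).choose_spec)
      (Nat.lt_succ_iff.1 hn))
  have k4 : ∀ a, g'.Iso a → g.Iso a := fun a ha => ⟨ha.add, fun r y => by
    rw [← h4, ha.smul, ← h4]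
    rcases Int.units_eq_one_or a.2 with e | e <;> simp [e, k1], fun y => h2 ▸ ha.q y⟩
  suffices RS (Nat.card F) g' from this.imp fun _ k => ⟨⟨k4 _ k.1.1, k.1.2⟩,
    k.2.imp_right fun k => k.imp fun _ k => ⟨k4 _ k.1, k.2⟩⟩
  by_cases hP : ∀ t : R', star t = t → IsNilpotent t ∨ IsUnit t
  · obtain ⟨W, nd, a, b⟩ := h'.step hx' fa hP
    exact RS.of nd b (k3 _ _ a)
  · push Not at hP
    obtain ⟨t, t1, t2, t3⟩ := hP
    obtain ⟨W, nd, a, b⟩ := g'.exists_split fa t1 t2 t3
    exact RS.of nd ((k3 W nd a).imp fun _ k => k.imp_right fun k => k.imp_right (RR.lift nd))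
      (k3 _ _ b)

end H85
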