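import Mathlib
import Cfsg.Agent.Lib.H85.Geo5
import Cfsg.Agent.Lib.H85.Real2
import Cfsg.Agent.Lib.Orth12.Forms
import Cfsg.Agent.Lib.Sp.Basic

/-! Frobenius-Schur indicators of symplectic and orthogonal groups in characteristic two. -/

set_option autoImplicit false
set_option linter.unusedSectionVars false
set_option linter.style.haveILetI false

namespace H85

open Cfsg H87 H12 QuadraticMap Module Subgroup Polynomial
open scoped Matrix

universe u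

/-- All indicators are one. -/
def TO (G : Type*) [Group G] : Prop :=
  ∀ χ : G → ℂ, IsIrrCharacter G χ → (Nat.card G : ℂ)⁻¹ * ∑ᶠ s : G, χ (s * s) = 1

section grp

variable {G G' : Type*} [Group G] [Group G'] [Fintype G]

theorem TO.of (h1 : ∀ g : G, ∃ t, t * g * t⁻¹ = g⁻¹)
    (h2 : ∀ χ, IsIrrCharacter G χ → nu χ ≠ -1) : TO G := fun χ hχ => by
  rw [nu_eq_finsum]
  refine (nu_of_isReal hχ ((isReal_iff_inv (H6.irr_isCharacter hχ)).2 fun g => ?_)).resolve_right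
    (h2 χ hχ)
  obtain ⟨t, ht⟩ := h1 g
  rw [← ht, H6.char_isClassFunction (H6.irr_isCharacter hχ)]

theorem TO.congr (h : TO G) (e : G ≃* G') : TO G' := fun χ hχ => by
  have := Fintype.ofEquiv G e.toEquiv
  rw [nu_eq_finsum, ← nu_comp_surjective e.toMonoidHom e.surjective, ← nu_eq_finsum]
  exact h _ (H6.isIrrCharacter_comp_surjective e.toMonoidHom e.surjective hχ)

theorem TO.nu_pos (h : TO G) {ψ : G → ℂ} (h1 : IsCharacter G ψ) (h2 : ψ 1 ≠ 0) :
    ∃ n : ℕ, nu ψ = n ∧ n ≠ 0 := by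
  choose c hc using fun γ : IrrCharacter G => H6.char_inner_nat h1 (H6.irr_isCharacter γ.2)
  have e := H6.classFun_eq_sum_irr (H6.char_isClassFunction h1)
  refine ⟨∑ γ, c γ, ?_, fun k => h2 ?_⟩
  · rw [e, nu_sum, Nat.cast_sum]
    exact Finset.sum_congr rfl fun γ _ => by rw [nu_smul, ← nu_eq_finsum, h _ γ.2, hc, mul_one]
  · rw [e, Finset.sum_eq_zero fun γ hγ => by
      rw [hc, Finset.sum_eq_zero_iff.1 k γ hγ, Nat.cast_zero, zero_smul]]; rfl

theorem TO.ker (h : TO G) (s : G →* ℤˣ) {τ : G} (hτ : s τ = -1) [Fintype (K s ⊤)]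
    {χ : K s ⊤ → ℂ} (hχ : IsIrrCharacter _ χ) : nu χ ≠ -1 := fun e => by
  obtain ⟨f, rfl⟩ := exists_ext χ
  have := Fintype.ofFinite (⊤ : Subgroup G)
  obtain ⟨n, h1, h2⟩ := (h.congr topEquiv.symm).nu_pos (ch_ind (Irr.ch hχ) (mem_top τ) hτ) (by
    simpa [ind_of_mem (one_mem _)] using Irr.one_ne hχ)
  rw [nu_ind (mem_top τ) hτ, av_eq] at h1
  erw [show _ * _ = (-1 : ℂ) from e] at h1
  rcases Irr.eps_tri hχ (mem_top τ) hτ with k | k | k <;> (rw [k] at h1; norm_cast at h1; try omega)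

end grp

variable {F V : Type u} [Field F] [Finite F] [CharP F 2] [AddCommGroup V] [Module F V] [Finite V]

theorem exists_geo [StarRing F] (hs : ∀ c : F, star c = c) {Q : QuadraticForm F V} (hQ : Nondeg Q)
    {β : F →+ ZMod 2} (hβ : ∀ a, (∀ c, β (c * a) = 0) → a = 0) (ψ : V →+ ZMod 2) :
    ∃ g : Geo F V, (∀ y, g.Q y = β (Q y) + ψ y) ∧ ∀ y z, g.B y z = β (polar Q y z) :=
  ⟨⟨fun y => β (Q y) + ψ y, AddMonoidHom.mk' (fun x => AddMonoidHom.mk' (fun y => β (polar Q x y))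
      (by simp)) (fun _ _ => AddMonoidHom.ext (by simp)),
    fun x => by rw [← one_smul F x, ← add_smul, CharTwo.add_self_eq_zero, zero_smul],
    fun x y => by simp [Q_add]; ring, fun r x y => by simp [hs], fun r x => by rw [hs],
    fun x h => hQ x fun y => hβ _ fun c => by simpa using h (c • y)⟩, fun _ => rfl, fun _ _ => rfl⟩

theorem rg_field [StarRing F] (hs : ∀ c : F, star c = c) : RG F :=
  ⟨CharTwo.add_self_eq_zero, inferInstance, fun r => by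
    have := Fintype.ofFinite F
    obtain ⟨n, -, h⟩ := FiniteField.card F 2
    exact ⟨n, n.2, by rw [← h, FiniteField.pow_card]⟩,
    fun r => by simp [hs, CharTwo.add_self_eq_zero]⟩

/-- The linear map of an isometry. -/
def Geo.Iso.lin [StarRing F] (hs : ∀ c : F, star c = c) {g : Geo F V} {x : Am V} (h : g.Iso x) :
    V ≃ₗ[F] V :=
  { x.1 with map_add' := h.add, map_smul' := fun r y => (h.smul r y).trans (by
      rw [tw_of_sa _ (hs r)]; rfl) }

theorem Geo.Iso.mem_O [StarRing F] (hs : ∀ c : F, star c = c) {g : Geo F V} {x : Am V}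
    (h : g.Iso x) {Q : QuadraticForm F V} {β : F →+ ZMod 2}
    (hβ : ∀ a, (∀ c, β (c * a) = 0) → a = 0) (hg : ∀ y, g.Q y = β (Q y) + (0 : V →+ ZMod 2) y) :
    h.lin hs ∈ O Q := fun y => sub_eq_zero.1 (hβ _ fun c => by
  obtain ⟨t, rfl⟩ := f_sqrt c
  have := h.q (t • y)
  rw [h.smul, tw_of_sa _ (hs t), hg, hg, Q_smul, Q_smul] at this
  rw [mul_sub, map_sub, ← pow_two, sub_eq_zero]; exact add_right_cancel this)

theorem nq_stab {Q : QuadraticForm F V} (hQ : Nondeg Q) (w : V) {S : Subgroup (O Q)}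
    (hS : ∀ k, k ∈ S ↔ k.1 w = w) {G : Type*} [Group G] [Fintype G] (φ : S →* G)
    (hφ : Function.Surjective φ) {χ : G → ℂ} (hχ : IsIrrCharacter G χ) : nu χ ≠ -1 := by
  letI : StarRing F := starRingOfComm
  have hs : ∀ c : F, star c = c := fun _ => rfl
  obtain ⟨β, hβ⟩ := exists_b0 (F := F)
  obtain ⟨g, h1, -⟩ := exists_geo hs hQ hβ 0
  let ψ : g.GG {w} →* S := MonoidHom.mk' (fun x => ⟨⟨x.2.1.lin hs, x.2.1.mem_O hs hβ h1⟩,
    (hS _).2 (x.2.2 w rfl)⟩) fun _ _ => rfl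
  refine (g.tw (rg_field hs) w).nu_ne (φ.comp ψ) (fun y => ?_) (z := ⟨(1, -1), ⟨fun _ _ => rfl,
    fun r y => by simp [hs], fun _ => rfl⟩, fun _ _ => rfl⟩) rfl (map_one φ) hχ
  obtain ⟨k, rfl⟩ := hφ y
  exact ⟨⟨(k.1.1.toEquiv, 1), ⟨by simp, by simp, fun y => by simp [h1, O.map_Q]⟩,
    by simpa using (hS _).1 k.2⟩, rfl, rfl⟩

theorem Geo.real [StarRing F] (hs : ∀ c : F, star c = c) (g : Geo F V) {a : Am V} (ha : g.Iso a)
    (h1 : a.2 = 1) : ∃ τ, g.Iso τ ∧ (∀ y, a.1 (τ.1 (a.1 y)) = τ.1 y) ∧ (∀ y, τ.1 (τ.1 y) = y) ∧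
      (FX τ ∨ ∃ ρ, g.Iso ρ ∧ (∀ y, ρ.1 (a.1 y) = a.1 (ρ.1 y)) ∧
        ∃ e, Nat.card (Set.range fun y => ρ.1 y + y) = Nat.card F ^ (2 * e + 1)) := by
  obtain ⟨R, _, _, _, g', φ, h2, h3, h4, h5, fa, h6, ind⟩ := g.exists_env (A := zpowers a)
    (zpowers_le.2 ⟨⟨ha, by simp⟩, h1⟩) (by rintro _ ⟨i, rfl⟩ _ ⟨j, rfl⟩; exact zpow_mul_comm _ _ _)
  obtain ⟨x, hx⟩ := h6 a (mem_zpowers a)
  letI := φ.toAlgebra
  have k1 : ∀ r, star (φ r) = φ r := fun r => g'.eq_of_smul fa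
    (g'.star_smul fun x y => by rw [h4, h5, h5, g.adj, hs])
  have k2 : x * star x = 1 := g'.eq_of_smul fa fun y => by
    rw [mul_smul, hx, g'.star_smul (t := a⁻¹.1) fun x y => by rw [h4, hx, ← ha.b x]; simp]; simp
  have k3 : ∀ n y, x ^ n • y = (a ^ n).1 y := fun n => by
    induction n with
    | zero => simp
    | succ n ih => intro y; rw [pow_succ, mul_smul, ih, hx, pow_succ]; rfl
  have k4 : ∀ b, g'.Iso b → g.Iso b := fun b hb => ⟨hb.add, fun r y => by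
    rw [← h5, hb.smul, tw_of_sa _ (k1 r), tw_of_sa _ (hs r), h5], fun y => h3 ▸ hb.q y⟩
  obtain ⟨τ, t1, t2⟩ := RS_all F _ R V g' x ⟨k1, k2, ind _ (fun r => ⟨C r, (aeval_C x r).symm⟩)
    (fun b hb r e => by
      obtain ⟨n, rfl⟩ := mem_powers_iff_mem_zpowers.2 hb
      exact ⟨X ^ n, g'.eq_of_smul fa fun y => by simp [e, k3]⟩)
    (by rintro _ _ ⟨p, rfl⟩ ⟨q, rfl⟩; exact ⟨p + q, by simp⟩)
    (by rintro _ _ ⟨p, rfl⟩ ⟨q, rfl⟩; exact ⟨p * q, by simp⟩)⟩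
    ⟨k2, fun y => by rw [h3, hx, ha.q]⟩ (Nat.lt_succ_self _)
  exact ⟨τ, k4 _ t1.1, fun y => by
    rw [← hx, ← hx, t1.1.smul, t1.2.1, tw_neg, smul_smul, k2, one_smul], t1.2.2,
    t2.imp_right fun ⟨ρ, r1, r2, r3⟩ => ⟨ρ, k4 _ r1, fun y => by
      rw [← hx, ← hx, r1.smul, r2, tw_one], r3⟩⟩

theorem real_O {Q : QuadraticForm F V} (hQ : Nondeg Q) (k : O Q) : ∃ t, t * k * t⁻¹ = k⁻¹ ∧
    (2 * finrank F (mov t) = finrank F V ∨ ∃ r, r * k = k * r ∧ Odd (finrank F (mov r))) := by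
  letI : StarRing F := starRingOfComm
  have hs : ∀ c : F, star c = c := fun _ => rfl
  obtain ⟨β, hβ⟩ := exists_b0 (F := F)
  obtain ⟨g, h1, -⟩ := exists_geo hs hQ hβ 0
  obtain ⟨τ, t1, t2, t3, t4⟩ := g.real hs (a := (k.1.toEquiv, 1))
    ⟨by simp, by simp, fun y => by simp [h1, O.map_Q]⟩ rfl
  refine ⟨⟨_, t1.mem_O hs hβ h1⟩, mul_inv_eq_iff_eq_mul.2 (eq_inv_mul_iff_mul_eq.2 (O.ext t2)),
    t4.imp (fun h => ?_) fun ⟨ρ, r1, r2, e, r3⟩ => ⟨⟨_, r1.mem_O hs hβ h1⟩, O.ext r2, e, ?_⟩⟩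
  · rw [← LinearMap.finrank_range_add_finrank_ker (LinearMap.id - (t1.lin hs).toLinearMap : V →ₗ[F] V),
      two_mul]
    refine congrArg (fun W : Submodule F V => _ + finrank F W) (le_antisymm ?_ fun y hy => ?_)
    · rintro _ ⟨y, rfl⟩
      change y - τ.1 y - τ.1 (y - τ.1 y) = 0
      rw [g.sub, g.sub, t1.add, t3, add_comm (τ.1 y), g.two]
    · obtain ⟨z, rfl⟩ := h y (sub_eq_zero.1 hy).symm
      exact ⟨z, g.sub _ _⟩
  · refine Nat.pow_right_injective (Finite.one_lt_card (α := F)) ?_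
    simp only [← r3, ← natCard_eq_pow_finrank (K := F)]
    congr 2
    ext y
    exact mem_mov.trans (exists_congr fun z => by rw [g.sub, add_comm]; rfl)

instance finite_O (Q : QuadraticForm F V) : Finite (O Q) :=
  Finite.of_injective (fun k => (k.1 : V → V)) fun _ _ h => O.ext (congrFun h)

theorem to_O {Q : QuadraticForm F V} (hQ : Nondeg Q) : TO (O Q) := by
  have := Fintype.ofFinite (O Q)
  exact TO.of (fun k => (real_O hQ k).imp fun _ h => h.1) fun χ =>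
    nq_stab hQ 0 (S := ⊤) (by simp) (Subgroup.subtype _) fun k => ⟨⟨k, trivial⟩, rfl⟩

theorem to_Om {Q : QuadraticForm F V} (hQ : Nondeg Q) {m : ℕ} (hm : 2 ≤ m)
    (h : finrank F V = 4 * m) : TO (Om Q) := by
  classical
  have := Fintype.ofFinite (O Q)
  have := Fintype.ofFinite F
  have hG := good_of_finrank_ne hQ (by omega)
  obtain ⟨τ, hτ⟩ := dk_surjective hQ hG (by omega) (-1)
  rw [show Om Q = K (dk hQ hG) ⊤ from (Om_eq_ker_dk hQ hG CharTwo.two_eq_zero).trans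
    (Subgroup.ext fun _ => by simp [mem_K])]
  have := Fintype.ofFinite (K (dk hQ hG) ⊤)
  refine TO.of (fun k => ?_) fun χ => (to_O hQ).ker _ hτ
  obtain ⟨t, h1, h2⟩ := real_O hQ k
  rcases Int.units_eq_one_or (dk hQ hG t) with e | e
  · exact ⟨⟨t, trivial, e⟩, Subtype.ext h1⟩
  obtain ⟨r, h3, h4⟩ := h2.resolve_left fun h2 => by
    rw [dk_apply, Even.neg_one_pow ⟨m, by omega⟩] at e
    exact absurd e (by decide)
  refine ⟨⟨t * r, trivial, by rw [map_mul, e, dk_apply, h4.neg_one_pow]; rfl⟩, Subtype.ext ?_⟩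
  change t * r * k * (t * r)⁻¹ = (k : O Q)⁻¹
  rw [mul_assoc t, h3, ← h1]; group

theorem polar_sp {n : ℕ} (y z : H11.Sp.V n F) : polar (QPlus F n) y z = sympForm n F y z := by
  simp [polar_QPlus, H11.Sp.form_eq_sum, CharTwo.sub_eq_add, add_comm]

theorem real_Sp {n : ℕ} (k : H11.Sp.G n F) : ∃ t, t * k * t⁻¹ = k⁻¹ := by
  letI : StarRing F := starRingOfComm
  have hs : ∀ c : F, star c = c := fun _ => rfl
  obtain ⟨β, hβ⟩ := exists_b0 (F := F)
  have k0 : ∀ y z, β (QPlus F n (k.1 *ᵥ (y + z))) + β (QPlus F n (y + z)) =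
      β (QPlus F n (k.1 *ᵥ y)) + β (QPlus F n y) + (β (QPlus F n (k.1 *ᵥ z)) + β (QPlus F n z)) :=
    fun y z => by
      simp only [Matrix.mulVec_add, Q_add, polar_sp, H11.Sp.form_apply, map_add]
      linear_combination zm2 (β (sympForm n F y z))
  have two : ∀ y : H11.Sp.V n F, y + y = 0 := fun y => funext fun _ => CharTwo.add_self_eq_zero _
  obtain ⟨ψ, hψ⟩ := exists_fun two (fun y : H11.Sp.V n F => k.1 *ᵥ y + y)
    (fun y => β (QPlus F n (k.1 *ᵥ y)) + β (QPlus F n y)) ⟨0, by simp⟩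
    (fun y z => ⟨y + z, by simp [Matrix.mulVec_add, add_add_add_comm], k0 y z⟩) fun y z e => by
      rw [← CharTwo.add_eq_zero, ← k0, show k.1 *ᵥ (y + z) = y + z by
        rw [Matrix.mulVec_add]
        linear_combination e + two (k.1 *ᵥ z - y), zm2]
  obtain ⟨g, h1, h2⟩ := exists_geo hs (nondeg_QPlus (F := F) n) hβ ψ
  obtain ⟨a, a1, a2, a3⟩ := g.exists_iso 1 (k.1 *ᵥ ·) (Matrix.mulVec_add _)
    (fun r y => by simp [Matrix.mulVec_smul]) fun y => by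
      have := hψ y
      rw [map_add] at this
      rw [h1, h1]
      linear_combination this + zm2 (β (QPlus F n (k.1 *ᵥ y)) - ψ y)
  obtain ⟨τ, t1, t2, -⟩ := g.real hs a1 a2
  obtain ⟨M, e⟩ : ∃ M : Matrix _ _ F, ∀ y, M *ᵥ y = τ.1 y :=
    ⟨_, LinearMap.toMatrix'_mulVec (t1.lin hs).toLinearMap⟩
  refine ⟨⟨M, H11.Sp.mem_iff_form.2 fun y z => sub_eq_zero.1 (hβ _ fun c => ?_)⟩,
    mul_inv_eq_iff_eq_mul.2 (eq_inv_mul_iff_mul_eq.2 (H11.Sp.ext_mulVec fun y => ?_))⟩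
  · have := t1.b (c • y) z
    rw [t1.smul, tw_of_sa _ (hs c), h2, h2, B_smul_left, B_smul_left, polar_sp, polar_sp] at this
    rw [e, e, mul_sub, map_sub, this, sub_self]
  · simp only [H11.Sp.coe_mul_mulVec]
    rw [e, e, ← a3, ← a3, t2]

theorem to_Sp (n : ℕ) : TO (H11.Sp.G n F) := by
  have := Fintype.ofFinite (H11.Sp.G n F)
  let Q : QuadraticForm F (H11.Sp.V n F × F × F) :=
    (QPlus F n).prod (linMulLin (LinearMap.fst F F F) (LinearMap.snd F F F))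
  have p1 : ∀ y z, polar Q y z = sympForm n F y.1 z.1 + (y.2.1 * z.2.2 + y.2.2 * z.2.1) :=
    fun y z => by
      rw [polar_prod, polar_sp]; simp [polar]; ring
  have z0 := H11.Sp.form_zero_right (m := n) (F := F)
  have hQ : Nondeg Q := fun y h => Prod.ext (H11.Sp.eq_zero_of_form_eq_zero fun z => by
    simpa [p1] using h (z, 0, 0)) (Prod.ext (by simpa [p1, z0] using h (0, 0, 1))
    (by simpa [p1, z0] using h (0, 1, 0)))
  let S : Subgroup (O Q) :=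
    { carrier := {k | k.1 (0, 1, 1) = (0, 1, 1)}
      one_mem' := rfl
      mul_mem' := fun {a b} ha hb => (congrArg a.1 hb).trans ha
      inv_mem' := fun ha => (O.inv_apply_eq_iff _).2 ha.symm }
  let M : S → Matrix _ _ F := fun k => LinearMap.toMatrix'
    (LinearMap.fst F _ _ ∘ₗ k.1.1.toLinearMap ∘ₗ LinearMap.inl F (H11.Sp.V n F) (F × F))
  have e : ∀ k y, M k *ᵥ y = (k.1.1 (y, 0)).1 := fun k y => LinearMap.toMatrix'_mulVec _ _
  have e' : ∀ (k : S) y, ∃ c : F, k.1.1 (y, 0) = (M k *ᵥ y, 0) + c • (0, 1, 1) := fun k y => by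
    have := O.map_B k.1 (y, 0) (0, 1, 1)
    rw [k.2, p1, p1] at this
    refine ⟨(k.1.1 (y, 0)).2.1, Prod.ext (by simp [e]) (Prod.ext (by simp) ?_)⟩
    simpa [z0, CharTwo.add_eq_zero, eq_comm (a := (k.1.1 _).2.2)] using this
  let φ : S →* H11.Sp.G n F := MonoidHom.mk' (fun k => ⟨M k, H11.Sp.mem_iff_form.2 fun y z => by
      have := O.map_B k.1 (y, 0) (z, 0)
      obtain ⟨c, hc⟩ := e' k y
      obtain ⟨d, hd⟩ := e' k z
      simpa [hc, hd, p1, CharTwo.add_self_eq_zero] using this⟩)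
    fun a b => H11.Sp.ext_mulVec fun y => by
      obtain ⟨c, hc⟩ := e' b y
      change M (a * b) *ᵥ y = (M a * M b) *ᵥ y
      rw [← Matrix.mulVec_mulVec, e, e a, Subgroup.coe_mul, O.mul_apply, hc, map_add, map_smul, a.2]
      simp
  refine TO.of real_Sp fun χ => nq_stab hQ _ (S := S) (fun _ => Iff.rfl) φ
    (MonoidHom.range_eq_top.1 (H11.Sp.eq_top_of_tv_mem fun u _ c => ?_))
  by_cases hc : c = 0
  · rw [hc, H11.Sp.tv_zero]; exact one_mem _
  obtain ⟨a, ha⟩ := f_sqrt (c⁻¹ + QPlus F n u)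
  refine ⟨⟨refl Q (u, a, a), refl_apply_of_orth (by
    simp [p1, CharTwo.add_self_eq_zero, H11.Sp.form_zero_left])⟩,
    H11.Sp.ext_mulVec fun y => (e _ y).trans ?_⟩
  rw [refl_apply, H11.Sp.tv_mulVec, p1, show Q (u, a, a) = c⁻¹ by
    simp [Q, ha, CharTwo.add_cancel_left, add_comm c⁻¹]]
  ext i
  simp [CharTwo.sub_eq_add]

end H85
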