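import Mathlib
import Cfsg.Agent.Lib.H85.AbFrob
import Cfsg.Agent.Lib.H85.Contrib
import Cfsg.Agent.Lib.Blk86.Pairs

/-! Gluing of signs on an abelian `p`-group. -/

set_option autoImplicit false
set_option linter.unusedSectionVars false
set_option linter.style.haveILetI false
attribute [local irreducible] H33.instFieldF

namespace H85

open Cfsg Finset
open H33 (red O)
open Subgroup (zpowers)
open scoped ComplexConjugate

variable {D : Type*} [CommGroup D] [Fintype D] {p : ℕ} [hp : Fact p.Prime] {M : Ideal AlgInt}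
  [M.IsMaximal] {f g y : D → ℂ}

theorem isGen_intCast (D : Type*) [Group D] (n : ℤ) :
    IsGeneralizedCharacter D fun _ => (n : ℂ) := by
  have := H6.isGen_intCast_smul n (H6.isGen_one (G := D))
  convert this using 1
  ext; simp

theorem isGen_prod {K ι : Type*} [Group K] (s : Finset ι) {θ : ι → K → ℂ}
    (h : ∀ i ∈ s, IsGeneralizedCharacter K (θ i)) : IsGeneralizedCharacter K (∏ i ∈ s, θ i) :=
  prod_induction _ _ (fun _ _ => H6.isGen_mul) H6.isGen_one h

/-- Functions agreeing with a generalized character away from the identity. -/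
def RA (D : Type*) [Group D] : Subalgebra ℤ (D → ℂ) where
  carrier := {f | ∃ g, IsGeneralizedCharacter D g ∧ ∀ v, v ≠ 1 → f v = g v}
  mul_mem' := by
    rintro a b ⟨g, hg, h⟩ ⟨g', hg', h'⟩
    exact ⟨g * g', H6.isGen_mul hg hg', fun v hv => by simp [h v hv, h' v hv]⟩
  add_mem' := by
    rintro a b ⟨g, hg, h⟩ ⟨g', hg', h'⟩
    exact ⟨g + g', H6.isGen_add hg hg', fun v hv => by simp [h v hv, h' v hv]⟩
  algebraMap_mem' n := ⟨fun _ => n, isGen_intCast D n, fun v _ => by simp⟩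

theorem mem_RA : f ∈ RA D ↔ ∃ g, IsGeneralizedCharacter D g ∧ ∀ v, v ≠ 1 → f v = g v := Iff.rfl

theorem RA_of_gen (h : IsGeneralizedCharacter D f) : f ∈ RA D := ⟨f, h, fun _ _ => rfl⟩

theorem RA_congr (h : f ∈ RA D) (h' : ∀ v, v ≠ 1 → g v = f v) : g ∈ RA D := by
  obtain ⟨a, ha, h⟩ := h
  exact ⟨a, ha, fun v hv => (h' v hv).trans (h v hv)⟩

theorem coef_congr (h : ∀ v, v ≠ 1 → f v = g v) (ψ : D →* ℂˣ) : coef f ψ = coef g ψ := by
  rw [coef, coef]
  congr 1
  refine sum_congr rfl fun v _ => ?_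
  by_cases hv : v = 1
  · simp [hv]
  · rw [h v hv]

theorem coef_smul (c : ℂ) (f : D → ℂ) (ψ : D →* ℂˣ) : coef (c • f) ψ = c * coef f ψ := by
  simp only [coef, Pi.smul_apply, smul_eq_mul, mul_sum]
  exact sum_congr rfl fun v _ => by ring

theorem mem_RA_iff : f ∈ RA D ↔ ∀ ψ, ∃ n : ℤ, coef f ψ = n := by
  refine ⟨fun ⟨g, hg, h⟩ ψ => coef_congr h ψ ▸ coef_int_of_gen hg ψ, fun h => ?_⟩
  refine ⟨fun u => ∑ ψ : D →* ℂˣ, ((ψ u : ℂˣ) : ℂ) * coef f ψ,
    isGen_of_eq_sum univ id (coef f) (fun ψ _ => h ψ) fun _ => rfl, fun v hv => ?_⟩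
  rw [← sum_coef_mul f hv]
  exact sum_congr rfl fun _ _ => mul_comm _ _

theorem RA_comp (h : f ∈ RA D) (α : MulAut D) : (fun v => f (α v)) ∈ RA D := by
  obtain ⟨g, hg, h⟩ := h
  exact ⟨fun v => g (α v), H6.isGen_comp α.toMonoidHom hg, fun v hv =>
    h _ (by simpa using hv)⟩

theorem RA_isIntegral (h : f ∈ RA D) {v : D} (hv : v ≠ 1) : IsIntegral ℤ (f v) := by
  obtain ⟨g, hg, h⟩ := h
  exact h v hv ▸ H6.gen_isIntegral hg v

theorem RA_red (hM : IsPModular p M) (hD : IsPGroup p D) (h : f ∈ RA D) {u v : D} (hu : u ≠ 1)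
    (hv : v ≠ 1) : red M (f u) = red M (f v) := by
  obtain ⟨g, hg, h⟩ := h
  rw [h u hu, h v hv, red_gen_eq hM hg (H35.isPElt_iff_pow.2 (hD u)),
    red_gen_eq hM hg (H35.isPElt_iff_pow.2 (hD v))]

theorem isIntegral_card_mul_coef (hg : ∀ v, v ≠ 1 → IsIntegral ℤ (g v)) (ψ : D →* ℂˣ) :
    IsIntegral ℤ ((Fintype.card D : ℂ) * coef g ψ) := by
  rw [coef, mul_inv_cancel_left₀ (Nat.cast_ne_zero.2 Fintype.card_ne_zero)]
  refine IsIntegral.sum _ fun v _ => ?_
  by_cases hv : v = 1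
  · simp [hv, isIntegral_zero]
  · rw [map_sub, map_one, conj_dual]
    exact (hg v hv).mul ((H6.gen_isIntegral (H6.char_isGen (H6.isCharacter_hom ψ)) _).sub
      isIntegral_one)

theorem RA_of_smul (hD : IsPGroup p D) {c : ℤ} (hc : ¬ (p : ℤ) ∣ c) (h : (c : ℂ) • g ∈ RA D)
    (hg : ∀ v, v ≠ 1 → IsIntegral ℤ (g v)) : g ∈ RA D := by
  rw [mem_RA_iff] at h ⊢
  intro ψ
  obtain ⟨n, hn⟩ := h ψ
  rw [coef_smul] at hn
  have hc0 : (c : ℂ) ≠ 0 := Int.cast_ne_zero.2 fun h => hc (h ▸ dvd_zero _)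
  have h1 := isIntegral_card_mul_coef hg ψ
  have h2 : (Fintype.card D : ℂ) * coef g ψ = ((Fintype.card D * n / c : ℚ) : ℂ) := by
    push_cast; rw [← hn]; field_simp
  obtain ⟨z, hz⟩ := H8.exists_int_of_isIntegral_rat (h2 ▸ h1)
  rw [hz, Rat.cast_intCast] at h2
  obtain ⟨k, hk⟩ := IsPGroup.iff_card.1 hD
  have h3 : IsCoprime (Fintype.card D : ℤ) c := by
    rw [← Nat.card_eq_fintype_card, hk, Nat.cast_pow]
    exact (((Nat.prime_iff_prime_int.1 hp.out).coprime_iff_not_dvd).2 hc).pow_left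
  obtain ⟨a, b, hab⟩ := h3
  refine ⟨a * z + b * n, ?_⟩
  have h4 : (a : ℂ) * Fintype.card D + b * c = 1 := by exact_mod_cast hab
  push_cast
  rw [← h2, ← hn]
  linear_combination (-coef g ψ) * h4

open Polynomial in
theorem RA_div_int (hD : IsPGroup p D) (hf : f ∈ RA D) {N : D → ℤ}
    (hN : (fun v => (N v : ℂ)) ∈ RA D) (hp' : ∀ v, v ≠ 1 → ¬ (p : ℤ) ∣ N v)
    (h : ∀ v, v ≠ 1 → g v * N v = f v) (hg : ∀ v, v ≠ 1 → IsIntegral ℤ (g v)) : g ∈ RA D := by
  classical
  let R : ℤ[X] := ∏ w ∈ univ.erase (1 : D), (X - C (N w))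
  have hc : ¬ (p : ℤ) ∣ R.coeff 0 := by
    rw [coeff_zero_eq_eval_zero, eval_prod,
      (Nat.prime_iff_prime_int.1 hp.out).dvd_finsetProd_iff]
    rintro ⟨w, hw, hd⟩
    exact hp' w (ne_of_mem_erase hw) (by simpa using hd)
  refine RA_of_smul hD hc (RA_congr ((RA D).neg_mem ((RA D).mul_mem hf
    (Algebra.adjoin_le (Set.singleton_subset_iff.2 hN)
      (aeval_mem_adjoin_singleton ℤ (p := R.divX) _)))) fun v hv => ?_) hg
  have h1 : aeval (N v : ℂ) R = 0 := by
    rw [map_prod]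
    exact prod_eq_zero (mem_erase.2 ⟨hv, mem_univ v⟩) (by simp)
  have h2 : aeval (fun v => (N v : ℂ)) R.divX v = aeval (N v : ℂ) R.divX :=
    (aeval_algHom_apply (Pi.evalAlgHom ℤ (fun _ : D => ℂ) v) _ _).symm
  rw [← X_mul_divX_add R, map_add, map_mul, aeval_X, aeval_C] at h1
  simp only [Pi.smul_apply, smul_eq_mul, Pi.neg_apply, Pi.mul_apply, h2, ← h v hv]
  simp only [eq_intCast] at h1
  linear_combination g v * h1

theorem RA_div (hM : IsPModular p M) (hD : IsPGroup p D) (hf : f ∈ RA D) (hy : y ∈ RA D)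
    (hy' : ∀ v, v ≠ 1 → red M (y v) ≠ 0) (h : ∀ v, v ≠ 1 → g v * y v = f v)
    (hg : ∀ v, v ≠ 1 → IsIntegral ℤ (g v)) : g ∈ RA D := by
  classical
  obtain ⟨z, hz, hyz⟩ := hy
  have hgen : IsGeneralizedCharacter D (∏ α : MulAut D, fun v => z (α v)) :=
    isGen_prod _ fun α _ => H6.isGen_comp α.toMonoidHom hz
  have hint : ∀ v, ∃ n : ℤ, (∏ α : MulAut D, fun v => z (α v)) v = n := fun v => by
    refine H8.exists_int_of_forall_pow_eq hgen v fun m hm => ?_
    by_cases hv : v = 1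
    · simp [hv]
    have hm' : (Nat.card D).Coprime m := by
      obtain ⟨k, hk⟩ := IsPGroup.iff_card.1 hD
      obtain ⟨j, hj⟩ := IsPGroup.iff_orderOf.1 hD v
      have hj0 : j ≠ 0 := by
        rintro rfl
        exact hv (orderOf_eq_one_iff.1 hj)
      rw [hk]
      exact Nat.Coprime.pow_left _ ((Nat.coprime_pow_right_iff (Nat.pos_of_ne_zero hj0) _ _).1
        (hj ▸ hm)).symm
    let β : MulAut D := MulEquiv.ofBijective (powMonoidHom m) (powCoprime hm').bijective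
    simp only [prod_apply]
    exact Fintype.prod_equiv (Equiv.mulRight β) _ _ fun α => rfl
  choose N hN using hint
  refine RA_div_int hD (N := N) (f := f * ∏ α ∈ univ.erase (1 : MulAut D), fun v => z (α v))
    ((RA D).mul_mem hf ((RA D).prod_mem fun α _ => RA_comp (RA_of_gen hz) α))
    (RA_congr (RA_of_gen hgen) fun v _ => (hN v).symm) (fun v hv hd => ?_) (fun v hv => ?_) hg
  · have h1 : red M (N v : ℂ) = 0 := by
      obtain ⟨k, hk⟩ := hd
      haveI := H33.charP hM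
      rw [H33.red_intCast, hk]
      simp
    rw [← hN v, prod_apply, H33.red_prod _ fun α _ =>
      H33.mem_O_of_isIntegral M (H6.gen_isIntegral hz _), prod_eq_zero_iff] at h1
    obtain ⟨α, -, h1⟩ := h1
    have h2 : α v ≠ 1 := by simpa using hv
    exact hy' _ h2 (hyz _ h2 ▸ h1)
  · rw [← hN v, ← mul_prod_erase _ _ (mem_univ 1), Pi.mul_apply, Pi.mul_apply, ← h v hv, hyz v hv,
      mul_assoc]
    rfl

theorem isGen_reg (D : Type*) [CommGroup D] [Fintype D] [DecidableEq D] :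
    IsGeneralizedCharacter D fun v => if v = 1 then (Fintype.card D : ℂ) else 0 :=
  isGen_of_eq_sum univ id (fun _ => 1) (fun _ _ => ⟨1, by simp⟩) fun v => by
    simp [← sum_dual v]

theorem isGen_ind (S : Subgroup D) [DecidablePred (· ∈ S)] :
    IsGeneralizedCharacter D fun v => if v ∈ S then (S.index : ℂ) else 0 := by
  classical
  haveI := Fintype.ofFinite (D ⧸ S)
  convert H6.isGen_comp (QuotientGroup.mk' S) (isGen_reg (D ⧸ S)) using 2 with v
  simp only [QuotientGroup.mk'_apply, QuotientGroup.eq_one_iff, ← Nat.card_eq_fintype_card]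
  rfl

theorem exists_desc (Q : Subgroup D) (hf : IsGeneralizedCharacter D f)
    (h : ∀ v, ∀ q ∈ Q, f (v * q) = f v) :
    ∃ f' : D ⧸ Q → ℂ, IsGeneralizedCharacter (D ⧸ Q) f' ∧ ∀ v : D, f' v = f v := by
  haveI := Fintype.ofFinite (D ⧸ Q)
  have h1 : ∀ v : D, f (v : D ⧸ Q).out = f v := fun v => by
    obtain ⟨q, hq⟩ := QuotientGroup.mk_out_eq_mul Q v
    rw [hq, h v q q.2]
  refine ⟨fun x => f x.out, H6.isGen_of_inner (fun a b => by rw [mul_inv_cancel_comm])
    fun ψ hψ => ?_, h1⟩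
  rw [← H6.classInner_comp_surjective (QuotientGroup.mk' Q) (QuotientGroup.mk'_surjective Q)]
  simp only [QuotientGroup.mk'_apply, h1]
  exact H6.gen_inner_int hf (H6.isGen_comp (QuotientGroup.mk' Q) (H6.irr_isGen hψ))

theorem card_dvd_of_gen (hf : IsGeneralizedCharacter D f) (h : ∀ v, v ≠ 1 → f v = 0) :
    ∃ c : ℤ, f 1 = c * Fintype.card D := by
  obtain ⟨c, hc⟩ := H6.gen_inner_int hf H6.isGen_one
  rw [H6.classInner_def, sum_eq_single 1 (fun v _ hv => by rw [h v hv, zero_mul]) (by simp),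
    Nat.card_eq_fintype_card] at hc
  refine ⟨c, ?_⟩
  rw [← hc]
  field_simp
  simp

theorem exists_abs_le (hf : IsGeneralizedCharacter D f) {t : ℤ} (ht : f 1 = t) :
    ∃ N : ℤ, |t| ≤ N ∧ ∑ u, f u * conj (f u) = Fintype.card D * N := by
  have hq : (Fintype.card D : ℂ) ≠ 0 := Nat.cast_ne_zero.2 Fintype.card_ne_zero
  have h1 : ∀ ψ : D →* ℂˣ, ∃ n : ℤ,
      (Fintype.card D : ℂ)⁻¹ * ∑ x, f x * conj ((ψ x : ℂˣ) : ℂ) = n := fun ψ => by
    have := H6.gen_inner_int hf (H6.char_isGen (H6.isCharacter_hom ψ))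
    rwa [H6.classInner_def, Nat.card_eq_fintype_card] at this
  choose n hn using h1
  have h2 : ∀ u, f u = ∑ ψ : D →* ℂˣ, (n ψ : ℂ) * ψ u := fun u => by
    rw [← fourier_inv f u]
    exact sum_congr rfl fun ψ _ => by rw [hn]
  refine ⟨∑ ψ, n ψ ^ 2, ?_, ?_⟩
  · have h3 : t = ∑ ψ, n ψ := by
      have := h2 1
      simp only [map_one, Units.val_one, mul_one, ht] at this
      exact_mod_cast this
    rw [h3]
    refine (abs_sum_le_sum_abs _ _).trans (sum_le_sum fun ψ _ => ?_)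
    rw [← sq_abs]
    exact Int.le_self_sq _
  · have h3 : ∀ u, f u * conj (f u) = ∑ ψ : D →* ℂˣ, (n ψ : ℂ) * (f u * conj ((ψ u : ℂˣ) : ℂ)) :=
      fun u => by
        conv_lhs => rw [h2 u, map_sum, ← h2 u, mul_sum]
        exact sum_congr rfl fun ψ _ => by rw [map_mul, map_intCast]; ring
    rw [sum_congr rfl fun u _ => h3 u, sum_comm]
    push_cast
    rw [mul_sum]
    refine sum_congr rfl fun ψ _ => ?_
    rw [← mul_sum, sq, mul_left_comm]
    congr 1
    rw [← hn, mul_inv_cancel_left₀ hq]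

theorem norm_sign (hM : IsPModular p M) (hD : IsPGroup p D) {ρ π τ : D → ℂ}
    (hρ : IsGeneralizedCharacter D ρ) (hπ : IsGeneralizedCharacter D π)
    (hπ' : ∀ v, v ≠ 1 → red M (π v) ≠ 0) (h : ∀ v, v ≠ 1 → τ v * π v = ρ v)
    (hτ : ∀ v, v ≠ 1 → IsIntegral ℤ (τ v)) (hn : ∀ v, v ≠ 1 → τ v * conj (τ v) = 1) :
    ∃ c : ℤ, (π 1 + c * Fintype.card D) ^ 2 = ρ 1 ^ 2 := by
  classical
  obtain ⟨a, ha⟩ := H6.gen_one_int hπ
  by_cases hq : Fintype.card D = 1
  · obtain ⟨b, hb⟩ := H6.gen_one_int hρ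
    exact ⟨b - a, by simp [hq, ha, hb]⟩
  have hq0 : 0 < Fintype.card D := Fintype.card_pos
  obtain ⟨σ, hσ, hτσ⟩ := RA_div hM hD (RA_of_gen hρ) (RA_of_gen hπ) hπ' h hτ
  obtain ⟨t₀, ht₀⟩ := H6.gen_one_int hσ
  set q := Fintype.card D with hqd
  let σ' : D → ℂ := σ - ((t₀.bdiv q : ℤ) : ℂ) • fun v => if v = 1 then (q : ℂ) else 0
  have hσ' : IsGeneralizedCharacter D σ' := H6.isGen_sub hσ (H6.isGen_intCast_smul _ (isGen_reg D))
  have h1 : σ' 1 = (t₀.bmod q : ℤ) := by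
    have := Int.bmod_add_bdiv t₀ q
    simp only [σ', Pi.sub_apply, Pi.smul_apply, if_true, smul_eq_mul, ht₀]
    rw [sub_eq_iff_eq_add]
    conv_lhs => rw [← this]
    push_cast; ring
  have h2 : ∀ v, v ≠ 1 → σ' v = τ v := fun v hv => by simp [σ', hv, hτσ v hv]
  set t := t₀.bmod q
  have h3 : t ^ 2 = 1 := by
    obtain ⟨N, hN, hN'⟩ := exists_abs_le hσ' h1
    rw [← add_sum_erase _ _ (mem_univ 1), h1, sum_congr rfl fun v hv => by
      rw [h2 v (ne_of_mem_erase hv), hn v (ne_of_mem_erase hv)], sum_const,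
      card_erase_of_mem (mem_univ _), card_univ, ← hqd, map_intCast, nsmul_eq_mul, mul_one,
      Nat.cast_sub hq0] at hN'
    have h4 : t * t + (q - 1) = q * N := by exact_mod_cast hN'
    have h5 : -((q : ℤ) / 2) ≤ t := Int.le_bmod hq0
    have h6 : t < (q + 1) / 2 := Int.bmod_lt hq0
    have h7 : (2 : ℤ) ≤ q := by omega
    have h8 : 2 * |t| ≤ q := by rcases abs_cases t with h | h <;> omega
    rw [← sq_abs]
    rw [← abs_mul_abs_self] at h4
    have h9 := abs_nonneg t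
    generalize |t| = s at *
    have h10 : s ≠ 0 := by
      rintro rfl
      have : (q : ℤ) * (1 - N) = 1 := by linarith
      have := Int.eq_one_of_mul_eq_one_right (by omega) this
      omega
    have h11 : s ≤ 1 := by
      by_contra h
      nlinarith
    have : s = 1 := by omega
    rw [this]; rfl
  obtain ⟨c, hc⟩ := card_dvd_of_gen (H6.isGen_sub hρ (H6.isGen_mul hσ' hπ)) fun v hv => by
    simp [h2 v hv, h v hv]
  simp only [Pi.sub_apply, Pi.mul_apply, h1, ← hqd] at hc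
  have h4 : (t : ℂ) ^ 2 = 1 := by exact_mod_cast h3
  refine ⟨t * c, ?_⟩
  rw [sub_eq_iff_eq_add] at hc
  rw [hc]
  push_cast
  linear_combination (c ^ 2 * q ^ 2 - π 1 ^ 2) * h4

/-- Local data: for every nontrivial subgroup a generalized character of the quotient whose
absolute values are prescribed by `m`. -/
def GlueData {D : Type*} [Group D] (m : Subgroup D → ℤ) : Prop :=
  ∀ Q : Subgroup D, Q ≠ ⊥ → ∃ ρ t : D → ℂ, IsGeneralizedCharacter D ρ ∧
    (∀ v, ∀ q ∈ Q, ρ (v * q) = ρ v) ∧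
    ∀ v, ρ v = t v * m (Q ⊔ zpowers v) ∧ IsIntegral ℤ (t v) ∧ t v * conj (t v) = 1

theorem red_ne_zero_of_mul_conj {t : ℂ} (ht : IsIntegral ℤ t) (h : t * conj t = 1) :
    red M t ≠ 0 := by
  have h1 : IsIntegral ℤ (conj t) := ht.map (starRingEnd ℂ).toIntAlgHom
  have := congrArg (red M) h
  rw [H33.red_mul (H33.mem_O_of_isIntegral M ht) (H33.mem_O_of_isIntegral M h1), H33.red_one] at this
  exact left_ne_zero_of_mul_eq_one this

theorem GlueData.red_ne_zero (hM : IsPModular p M) (hD : IsPGroup p D) {m : Subgroup D → ℤ}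
    (h : GlueData m) (h0 : red M (m ⊤ : ℂ) ≠ 0) (Q : Subgroup D) (hQ : Q ≠ ⊥) :
    red M (m Q : ℂ) ≠ 0 := by
  induction Q using H86.subgroup_up_induction with
  | h Q ih =>
  by_cases hT : Q = ⊤
  · rwa [hT]
  obtain ⟨v, hv⟩ : ∃ v, v ∉ Q := by
    by_contra! h'
    exact hT (eq_top_iff.2 fun v _ => h' v)
  have hlt : Q < Q ⊔ zpowers v := left_lt_sup.2 (by rwa [Subgroup.zpowers_le])
  obtain ⟨ρ, t, hρ, -, ht⟩ := h Q hQ
  have h1 := red_gen_eq hM hρ (H35.isPElt_iff_pow.2 (hD v))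
  have hi : ∀ n : ℤ, (n : ℂ) ∈ O M := fun n => intCast_mem _ n
  rw [(ht v).1, (ht 1).1, Subgroup.zpowers_one_eq_bot, sup_bot_eq,
    H33.red_mul (H33.mem_O_of_isIntegral M (ht v).2.1) (hi _),
    H33.red_mul (H33.mem_O_of_isIntegral M (ht 1).2.1) (hi _)] at h1
  exact right_ne_zero_of_mul (h1 ▸ mul_ne_zero (red_ne_zero_of_mul_conj (ht v).2.1 (ht v).2.2)
    (ih _ hlt (ne_bot_of_gt hlt)))

theorem index_lt_of_lt {Q S : Subgroup D} (h : Q < S) : S.index < Q.index :=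
  Subgroup.index_strictAnti h

open Classical in
theorem GlueData.exists_marks (hM : IsPModular p M) (hD : IsPGroup p D) {m : Subgroup D → ℤ}
    (h : GlueData m) (h0 : red M (m ⊤ : ℂ) ≠ 0) (n : ℕ) : ∃ a : Subgroup D → ℤ,
      ∀ Q : Subgroup D, Q ≠ ⊥ → Q.index ≤ n →
        (∑ S, if Q ≤ S then a S * S.index else 0) ^ 2 = m Q ^ 2 := by
  induction n with
  | zero => exact ⟨0, fun Q _ hQ => absurd (Nat.le_zero.1 hQ) Subgroup.index_ne_zero_of_finite⟩
  | succ n ih =>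
  obtain ⟨a, ha⟩ := ih
  have key : ∀ Q : Subgroup D, ∃ c : ℤ, Q ≠ ⊥ → Q.index = n + 1 →
      ((∑ S, if Q < S then a S * S.index else 0) + c * Q.index) ^ 2 = m Q ^ 2 := by
    intro Q
    by_cases hQ : Q = ⊥
    · exact ⟨0, fun h => absurd hQ h⟩
    by_cases hn : Q.index = n + 1
    swap
    · exact ⟨0, fun _ h => absurd h hn⟩
    haveI := Fintype.ofFinite (D ⧸ Q)
    obtain ⟨ρ, t, hρ, hρQ, ht⟩ := h Q hQ
    let π : D → ℂ := ∑ S ∈ univ.filter (Q < ·), (a S : ℂ) • fun v => if v ∈ S then (S.index : ℂ) else 0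
    have hπ : IsGeneralizedCharacter D π :=
      H6.isGen_sum _ fun S _ => H6.isGen_intCast_smul _ (isGen_ind S)
    have hπv : ∀ v, π v = ((∑ S, if Q < S ∧ v ∈ S then a S * S.index else 0 : ℤ) : ℂ) := fun v => by
      simp only [π, Finset.sum_apply, sum_filter, Pi.smul_apply, smul_eq_mul]
      push_cast
      refine sum_congr rfl fun S _ => ?_
      by_cases h1 : Q < S <;> by_cases h2 : v ∈ S <;> simp [h1, h2]
    obtain ⟨π', hπ', hπq⟩ := exists_desc Q hπ fun v q hq => by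
      rw [hπv, hπv]
      congr 1
      refine sum_congr rfl fun S _ => if_congr (and_congr_right fun h1 => ?_) rfl rfl
      exact S.mul_mem_cancel_right (h1.le hq)
    obtain ⟨ρ', hρ', hρq⟩ := exists_desc Q hρ hρQ
    have hs : ∀ x : D ⧸ Q, ∃ s : ℂ, x ≠ 1 → (s = 1 ∨ s = -1) ∧
        π' x = s * m (Q ⊔ zpowers x.out) := fun x => by
      by_cases hx : x = 1
      · exact ⟨0, fun h => absurd hx h⟩
      have hv : x.out ∉ Q := by rwa [← QuotientGroup.eq_one_iff, QuotientGroup.out_eq']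
      have hlt : Q < Q ⊔ zpowers x.out := left_lt_sup.2 (by rwa [Subgroup.zpowers_le])
      have h1 := ha _ (ne_bot_of_gt hlt) (by have := index_lt_of_lt hlt; omega)
      have h2 : π' x = ((∑ S, if Q ⊔ zpowers x.out ≤ S then a S * S.index else 0 : ℤ) : ℂ) := by
        rw [← QuotientGroup.out_eq' x, hπq, hπv, QuotientGroup.out_eq' x]
        congr 1
        refine sum_congr rfl fun S _ => if_congr ?_ rfl rfl
        rw [sup_le_iff, Subgroup.zpowers_le]
        exact and_congr_left fun h => ⟨le_of_lt, fun h' => lt_of_le_of_ne h' fun h'' => hv (h'' ▸ h)⟩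
      rcases sq_eq_sq_iff_eq_or_eq_neg.1 h1 with h1 | h1
      · exact ⟨1, fun _ => ⟨Or.inl rfl, by rw [h2, h1, one_mul]⟩⟩
      · exact ⟨-1, fun _ => ⟨Or.inr rfl, by rw [h2, h1]; simp⟩⟩
    choose s hs using hs
    obtain ⟨c, hc⟩ := norm_sign hM (hD.to_quotient Q) hρ' hπ' (τ := fun x => t x.out * s x)
      (fun x hx => by
        have h1 := h.red_ne_zero hM hD h0 (Q ⊔ zpowers x.out) (ne_bot_of_le_ne_bot hQ le_sup_left)
        rcases hs x hx with ⟨h2 | h2, h3⟩ <;> rw [h3, h2]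
        · rwa [one_mul]
        · rwa [neg_one_mul, H33.red_neg, neg_ne_zero])
      (fun x hx => by
        conv_rhs => rw [← QuotientGroup.out_eq' x, hρq, (ht _).1]
        rcases hs x hx with ⟨h2 | h2, h3⟩ <;> rw [h3, h2] <;> ring)
      (fun x hx => by
        rcases (hs x hx).1 with h2 | h2 <;> rw [h2]
        · exact (ht _).2.1.mul isIntegral_one
        · exact (ht _).2.1.mul isIntegral_one.neg)
      (fun x hx => by
        rcases (hs x hx).1 with h2 | h2 <;> simpa [h2] using (ht x.out).2.2)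
    refine ⟨c, fun _ _ => ?_⟩
    obtain ⟨b, hb⟩ := H6.gen_one_int hρ
    have h1 : ρ 1 ^ 2 = m Q ^ 2 := by
      have h2 : ρ 1 ^ 2 = ρ 1 * conj (ρ 1) := by rw [hb, map_intCast, sq]
      rw [h2, (ht 1).1, Subgroup.zpowers_one_eq_bot, sup_bot_eq, map_mul, map_intCast]
      linear_combination (m Q : ℂ) ^ 2 * (ht 1).2.2
    rw [← QuotientGroup.mk_one, hπq, hρq, h1, hπv, ← Nat.card_eq_fintype_card,
      ← Subgroup.index_eq_card] at hc
    simp only [one_mem, and_true] at hc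
    exact_mod_cast hc
  choose c hc using key
  refine ⟨fun S => if S.index = n + 1 then c S else a S, fun Q hQ hn => ?_⟩
  dsimp only
  rcases hn.lt_or_eq with hn | hn
  · rw [← ha Q hQ (by omega)]
    congr 1
    refine sum_congr rfl fun S _ => if_ctx_congr Iff.rfl (fun h => ?_) fun _ => rfl
    have := Subgroup.index_antitone h
    rw [if_neg (by omega)]
  · rw [← hc Q hQ hn, ← add_sum_erase _ _ (mem_univ Q), ← add_sum_erase _ _ (mem_univ Q),
      if_pos le_rfl, if_pos hn, if_neg (lt_irrefl Q), zero_add, add_comm]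
    congr 2
    refine sum_congr rfl fun S hS => if_ctx_congr
      ⟨fun h => lt_of_le_of_ne h (ne_of_mem_erase hS).symm, le_of_lt⟩ (fun h => ?_) fun _ => rfl
    have := index_lt_of_lt h
    rw [if_neg (by omega)]

theorem GlueData.exists_sign (hM : IsPModular p M) (hD : IsPGroup p D) {m : Subgroup D → ℤ}
    (h : GlueData m) (h0 : red M (m ⊤ : ℂ) ≠ 0) : ∃ ε : D → ℤ, (∀ v, ε v = 1 ∨ ε v = -1) ∧
      ∀ d : D → ℂ, (∀ v, v ≠ 1 → IsIntegral ℤ (d v)) → (fun v => d v * m (zpowers v)) ∈ RA D →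
        (fun v => ε v * d v) ∈ RA D := by
  classical
  obtain ⟨a, ha⟩ := h.exists_marks hM hD h0 (Nat.card D)
  let y : D → ℤ := fun v => ∑ S, if zpowers v ≤ S then a S * S.index else 0
  have hy : IsGeneralizedCharacter D fun v => (y v : ℂ) := by
    convert H6.isGen_sum univ fun (S : Subgroup D) _ => H6.isGen_intCast_smul (a S) (isGen_ind S)
      using 2 with v
    simp [y]
  have hne : ∀ v : D, v ≠ 1 → zpowers v ≠ ⊥ := fun v hv => by simpa using hv
  have hy' : ∀ v, v ≠ 1 → y v = m (zpowers v) ∨ y v = - m (zpowers v) := fun v hv =>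
    sq_eq_sq_iff_eq_or_eq_neg.1 (ha _ (hne v hv)
      (Nat.le_of_dvd Nat.card_pos (Subgroup.index_dvd_card _)))
  refine ⟨fun v => if y v = m (zpowers v) then 1 else -1, fun v => by dsimp only; split_ifs <;> simp,
    fun d hd hd' => RA_div hM hD hd' (RA_of_gen hy) (fun v hv => ?_) (fun v hv => ?_)
      fun v hv => (isIntegral_algebraMap (R := ℤ)).mul (hd v hv)⟩
  · have := h.red_ne_zero hM hD h0 _ (hne v hv)
    rcases hy' v hv with h1 | h1 <;> simp only [h1]
    · exact this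
    · rwa [Int.cast_neg, H33.red_neg, neg_ne_zero]
  · dsimp only
    split_ifs with h1
    · simp [h1]
    · simp [(hy' v hv).resolve_left h1]

/-- The signs may be chosen invariant under a `p'`-group of automorphisms. -/
theorem exists_inv_sign (hM : IsPModular p M) (hD : IsPGroup p D) {I : Type*} (d : I → D → ℂ)
    (E : Subgroup (MulAut D)) (hE : ¬ p ∣ Nat.card E)
    (hdE : ∀ i, ∀ g ∈ E, ∀ v, v ≠ 1 → d i (g v) = d i v) {i₀ : I}
    (h0 : ∀ v, v ≠ 1 → red M (d i₀ v) ≠ 0) {ε : D → ℤ} (hε : ∀ v, ε v = 1 ∨ ε v = -1)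
    (h : ∀ i, (fun v => ε v * d i v) ∈ RA D) : ∃ ε : D → ℤ, (∀ v, ε v = 1 ∨ ε v = -1) ∧
      (∀ g ∈ E, ∀ v, v ≠ 1 → ε (g v) = ε v) ∧ ∀ i, (fun v => ε v * d i v) ∈ RA D := by
  classical
  have hsq : ∀ v, (ε v : ℂ) * ε v = 1 := fun v => by rcases hε v with h | h <;> simp [h]
  have hr : ∀ v, v ≠ 1 → red M (ε v * d i₀ v) = ε v * red M (d i₀ v) := fun v hv => by
    rw [H33.red_mul (intCast_mem _ _) (H33.mem_O_of_red_ne_zero (h0 v hv)), H33.red_intCast]
  by_cases h2 : p = 2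
  swap
  · refine ⟨ε, hε, fun g hg v hv => ?_, h⟩
    have hv' : g v ≠ 1 := by simpa using hv
    have h1 := RA_red hM hD (h i₀) hv' hv
    rw [hr _ hv, hr _ hv', hdE i₀ g hg v hv] at h1
    have h3 := mul_right_cancel₀ (h0 v hv) h1
    haveI := H33.charP hM
    have h4 : (2 : H33.F M) ≠ 0 := fun h => h2 ((Nat.prime_dvd_prime_iff_eq hp.out Nat.prime_two).1
      ((CharP.cast_eq_zero_iff (H33.F M) p 2).1 (by exact_mod_cast h)))
    rcases hε v with h5 | h5 <;> rcases hε (g v) with h6 | h6 <;> rw [h5, h6] at h3 ⊢ <;>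
      exact absurd (by push_cast at h3; first | linear_combination h3 | linear_combination -h3) h4
  haveI := Fintype.ofFinite E
  have hδ : ∀ g : E, (fun v => (ε v * ε ((g : MulAut D) v) : ℂ)) ∈ RA D := fun g =>
    RA_div hM hD (RA_comp (h i₀) g) (h i₀)
      (fun v hv => by
        rw [hr v hv]
        rcases hε v with h | h <;> simpa [h] using h0 v hv)
      (fun v hv => by
        rw [hdE i₀ g g.2 v hv]
        linear_combination (ε ((g : MulAut D) v) * d i₀ v) * hsq v)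
      fun v _ => (isIntegral_algebraMap (R := ℤ)).mul (isIntegral_algebraMap (R := ℤ))
  refine ⟨fun v => ∏ g : E, ε ((g : MulAut D) v), fun v => ?_, fun g hg v _ => ?_, fun i => ?_⟩
  · refine prod_induction _ (fun x => x = 1 ∨ x = -1) ?_ (Or.inl rfl) fun g _ => hε _
    rintro _ _ (rfl | rfl) (rfl | rfl) <;> simp
  · exact Fintype.prod_equiv (Equiv.mulRight ⟨g, hg⟩) _ _ fun α => rfl
  · refine RA_congr ((RA D).mul_mem (h i) ((RA D).prod_mem (t := univ) fun g _ => hδ g))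
      fun v _ => ?_
    obtain ⟨k, hk⟩ : Odd (Fintype.card E) := by
      rwa [← Nat.card_eq_fintype_card, ← Nat.not_even_iff_odd, even_iff_two_dvd, ← h2]
    simp only [Pi.mul_apply, prod_apply, prod_mul_distrib, prod_const, card_univ, hk]
    rw [pow_succ, pow_mul, sq, hsq, one_pow, one_mul]
    push_cast
    linear_combination (-d i v * ∏ g : E, (ε ((g : MulAut D) v) : ℂ)) * hsq v

end H85
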