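import Mathlib
import Cfsg.Agent.Lib.H85.AbDef
import Cfsg.Agent.Lib.H85.Sign
import Cfsg.Agent.Lib.H85.Lift

/-! Source idempotents and the signs of a block with a free inertial action. -/

set_option autoImplicit false
set_option linter.unusedSectionVars false
set_option linter.style.haveILetI false
attribute [local irreducible] H33.instFieldF

namespace H85

open Cfsg H84 H35 Finset MonoidAlgebra
open H33 (F eB fB chiL OG redA red O)
open H86 (Cen Nor Supp Inv br emb cj cs trI csEquiv eS fS IsMaxPair PairOf St)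
open Subgroup (zpowers)
open scoped ComplexConjugate SubFin IsMulCommutative

variable {G : Type*} [Group G] [Fintype G] {p : ℕ} [hp : Fact p.Prime] {M : Ideal AlgInt}
  [M.IsMaximal] {B : Set (IrrCharacter G)} {P Q K : Subgroup G} {e : MonoidAlgebra (F M) G}
  {u v w : G} {θ η : G → ℂ}

theorem isClassFunction_brc (b : Set (IrrCharacter G)) : IsClassFunction G (brc p b) :=
  isClassFunction_of_mem_regSpan (brc_mem_regSpan b)

theorem chiL_lat_int (hM : IsPModular p M) {b : Set (IrrCharacter G)} {f : G → ℂ}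
    (hf : f ∈ lat p b) {i : MonoidAlgebra ℂ G} (hi : i ∈ OG M G) (hii : i * i = i) :
    ∃ n : ℤ, chiL f i = n := by
  obtain ⟨θ, hθ, -, rfl⟩ := exists_gen_of_lat hf
  rw [chiL_idem_reg hM hi hii (H6.gen_isClassFunction hθ)]
  exact chiL_idem_int hii hθ

theorem chiL_eq_of_redA (hM : IsPModular p M) {i j : MonoidAlgebra ℂ G} (hi : i ∈ OG M G)
    (hj : j ∈ OG M G) (hii : i * i = i) (hjj : j * j = j) (h : redA M i = redA M j)
    (hθ : IsClassFunction G θ) : chiL θ i = chiL θ j := by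
  have h1 : ∀ x : MonoidAlgebra ℂ G, Inv (zpowers (1 : G)) x := fun x n hn g => by
    rw [Subgroup.zpowers_one_eq_bot, Subgroup.mem_bot] at hn
    simp [hn]
  have := chiL_congr hM hi hj hii hjj (h1 i) (h1 j) (by rw [h]) hθ
  rwa [← one_def, mul_one, mul_one] at this

theorem exists_idem_unit (hM : IsPModular p M) (hB : IsPBlock M B) (hl : blockRank p B = 1) :
    ∃ i ∈ OG M G, i * i = i ∧ eB M B * redA M i = redA M i ∧ red M (chiL (brc p B) i) ≠ 0 := by
  obtain ⟨s, hs⟩ := H33.exists_defectClass hB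
  obtain ⟨χ, hχ, h0⟩ := H33.exists_height_zero (p := p) hB
  have h1 := (H33.red_irr_ne_zero_iff_height_zero hM hB hs hχ).2 h0
  have hd : ¬ p ∣ Fintype.card (zpowers s) := by
    rw [← Nat.card_eq_fintype_card, Nat.card_zpowers]; exact H33.defectClass_not_dvd hM hB hs
  have hO : ∀ l, fB B * eL (zpowers s).subtype l ∈ OG M G := fun l =>
    mul_mem (H33.fB_mem_OG hB) (eL_mem_OG hM hd _ l)
  have hI : ∀ l, fB B * eL (zpowers s).subtype l * (fB B * eL (zpowers s).subtype l) =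
      fB B * eL (zpowers s).subtype l := fun l => by
    rw [mul_assoc, ← mul_assoc (eL _ l), (H33.isCent_fB B).comm (eL _ l), mul_assoc, eL_idem,
      ← mul_assoc, H33.fB_idem]
  have h2 : (χ : G → ℂ) s = ∑ l : zpowers s →* ℂˣ, (l ⟨s, Subgroup.mem_zpowers s⟩ : ℂ) *
      chiL χ (fB B * eL (zpowers s).subtype l) := by
    have h3 := congrArg (fun x => chiL (χ : G → ℂ) (fB B * x))
      (single_eq_sum_eL (zpowers s).subtype ⟨s, Subgroup.mem_zpowers s⟩)
    simp only [mul_sum, map_sum, mul_smul_comm, map_smul, smul_eq_mul] at h3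
    rw [← h3, chiL_fB_mul B (irr_class χ), blockPart_irr_of_mem hχ, H33.chiL_single, one_mul]
    rfl
  have hlO : ∀ l : zpowers s →* ℂˣ, (l ⟨s, Subgroup.mem_zpowers s⟩ : ℂ) ∈ O M := fun l =>
    H33.mem_O_of_isIntegral M (H6.gen_isIntegral (H6.char_isGen (H6.isCharacter_hom l)) _)
  have hcO : ∀ l, chiL (χ : G → ℂ) (fB B * eL (zpowers s).subtype l) ∈ O M := fun l =>
    H33.chiL_mem_O (H33.irr_mem_O M χ) (hO l)
  rw [h2, H33.red_sum _ fun l _ => mul_mem (hlO l) (hcO l)] at h1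
  obtain ⟨l, -, h3⟩ := exists_ne_zero_of_sum_ne_zero h1
  refine ⟨_, hO l, hI l, ?_, ?_⟩
  · rw [eB, ← H33.redA_mul (H33.fB_mem_OG hB) (hO l), ← mul_assoc, H33.fB_idem]
  · obtain ⟨n, -, hn⟩ := (isBr_brc hM hB hl).irr χ hχ
    obtain ⟨m, hm⟩ := chiL_lat_int hM (brc_mem_lat (p := p) B) (hO l) (hI l)
    rw [H33.red_mul (hlO l) (hcO l), ← chiL_idem_reg hM (hO l) (hI l) (irr_class χ), hn,
      H33.chiL_smul_fun, hm, H33.red_mul (natCast_mem _ _) (intCast_mem _ _)] at h3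
    exact hm ▸ right_ne_zero_of_mul (right_ne_zero_of_mul h3)

/-- `m` is the rank of the idempotent `x` on the simple module of `b`. -/
def IsRk (p : ℕ) (M : Ideal AlgInt) [M.IsMaximal] {G : Type*} [Group G] [Finite G]
    {C : Subgroup G} (b : Set (IrrCharacter C)) (x : MonoidAlgebra (F M) G) (m : ℂ) : Prop :=
  ∃ j ∈ OG M C, j * j = j ∧ emb C.subtype (redA M j) = x ∧ chiL (brc p b) j = m

theorem IsRk.unique (hM : IsPModular p M) {b : Set (IrrCharacter K)} {x : MonoidAlgebra (F M) G}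
    {m m' : ℂ} (h : IsRk p M b x m) (h' : IsRk p M b x m') : m = m' := by
  obtain ⟨i, hi, hii, hx, rfl⟩ := h
  obtain ⟨j, hj, hjj, hx', rfl⟩ := h'
  exact chiL_eq_of_redA hM hi hj hii hjj (H86.emb_injective K.subtype_injective (hx.trans hx'.symm))
    (isClassFunction_brc b)

theorem exists_isRk (hM : IsPModular p M) (b : Set (IrrCharacter K)) {x : MonoidAlgebra (F M) G}
    (hx : Supp K x) (hxx : x * x = x) : ∃ m : ℤ, IsRk p M b x m := by
  obtain ⟨y, rfl⟩ := H86.exists_emb_subtype hx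
  obtain ⟨j, hj, -, hjj, rfl⟩ := exists_idem_lift (H := ⊤) (N := ⊥) (e := y)
    ⟨H86.supp_top _, H86.inv_bot _⟩ (H86.emb_injective K.subtype_injective (by rw [map_mul, hxx]))
  obtain ⟨m, hm⟩ := chiL_lat_int hM (brc_mem_lat (p := p) b) hj hjj
  exact ⟨m, j, hj, hjj, rfl, hm⟩

theorem IsRk.emb {L : Type*} [Group L] [Fintype L] {φ : L →* G} {A : Subgroup L} {A' : Subgroup G}
    (ψ : A ≃* A') (hψ : ∀ a, (ψ a : G) = φ a) {b : Set (IrrCharacter A)}
    {x : MonoidAlgebra (F M) L} {m : ℂ} (h : IsRk p M b x m) :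
    IsRk p M (trI ψ '' b) (emb φ x) m := by
  obtain ⟨j, hj, hjj, rfl, rfl⟩ := h
  refine ⟨H86.emb ψ.toMonoidHom j, (H86.emb_mem_OG ψ.injective).2 hj, by rw [← map_mul, hjj], ?_,
    by rw [brc_trI, chiL_trF]⟩
  rw [H86.redA_emb ψ.injective, H86.emb_comp, H86.emb_comp]
  congr 2
  exact MonoidHom.ext hψ

/-- An idempotent adapted to the pairs below `(P, e)`. -/
structure Src (p : ℕ) {G : Type*} [Group G] [Finite G] (M : Ideal AlgInt) [M.IsMaximal]
    (P : Subgroup G) (e j : MonoidAlgebra (F M) G) : Prop where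
  inv : Inv P j
  idem : j * j = j
  mul : ∀ Q ≤ P, eS M (Cen Q) (loc p M P e Q) * br Q j = br Q j

namespace MP

variable {j : MonoidAlgebra (F M) G}

theorem br_idem (h : MP p M B P e) (hj : Src p M P e j) (hQ : Q ≤ P) :
    br Q j * br Q j = br Q j := by
  haveI := H33.charP h.hM
  rw [← H86.br_mul (h.pgrp.to_le hQ) (hj.inv.anti hQ) (hj.inv.anti hQ), hj.idem]

theorem chiL_eq_dv (h : MP p M B P e) (hu : u ∈ P)
    (hl : blockRank p (loc p M P e (zpowers u)) = 1) {i : MonoidAlgebra ℂ G} (hi : i ∈ OG M G)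
    (hii : i * i = i) (hiu : Inv (zpowers u) i) (hj : Src p M P e (redA M i)) {m : ℂ}
    (hm : IsRk p M (loc p M P e (zpowers u)) (br (zpowers u) (redA M i)) m)
    (hθ : IsClassFunction G θ) : chiL θ (i * single u 1) = dv p M P e θ u * m := by
  obtain ⟨j, hj', hjj, hx, rfl⟩ := hm
  have hu' := Subgroup.zpowers_le.2 hu
  rw [chiL_mul_single_eq_sub h.hM (h.isPElt hu) (isCen_zpowers u) (h.blk hu') hi hii hiu hj' hjj
    (H86.emb_injective (Subgroup.subtype_injective _) (by rw [map_mul, hx]; exact hj.mul _ hu'))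
    hx hθ, h.sub_eq hu hl, H33.chiL_smul_fun]

theorem exists_src (h : MP p M B P e) (hab : P ≤ Cen P) (hl : blockRank p (loc p M P e P) = 1) :
    ∃ j, Src p M P e j ∧ ∃ m, IsRk p M (loc p M P e P) (br P j) m ∧ red M m ≠ 0 := by
  haveI := H33.charP h.hM
  letI : DecidablePred fun Q : Subgroup G => Q ≤ P := fun _ => Classical.propDecidable _
  letI := Fintype.ofFinite (Subgroup G)
  obtain ⟨i, hi, hii, hbi, h0⟩ := exists_idem_unit h.hM (h.blk le_rfl) hl
  have he : e * emb (Cen P).subtype (redA M i) = emb (Cen P).subtype (redA M i) := by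
    conv_lhs => rw [← h.eS_top]
    rw [eS, ← map_mul, hbi]
  have hns : ∀ Q ≤ P, H86.NSub p ⊤ Q (eS M (Cen Q) (loc p M P e Q)) P e := fun Q hQ =>
    (h.sub hQ).nsub h.max.toPair ((hab.trans (H86.Cen_anti hQ)).trans (H86.Cen_le_Nor Q))
  obtain ⟨j, h1, h2, h3, h4⟩ := exists_source h.pgrp (H86.supp_emb_subtype (redA M i))
    (by rw [← map_mul, ← H33.redA_mul hi hi, hii]) (univ.filter (· ≤ P))
    (fun Q => eS M (Cen Q) (loc p M P e Q)) (fun Q hQ => (mem_filter.1 hQ).2)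
    (fun Q hQ => (H86.isBlk_eS (h.blk (mem_filter.1 hQ).2)).mem)
    (fun Q hQ => (H86.isBlk_eS (h.blk (mem_filter.1 hQ).2)).idem)
    (fun Q hQ => (hns Q (mem_filter.1 hQ).2).inv)
    fun Q hQ => by rw [← he, ← mul_assoc, (hns Q (mem_filter.1 hQ).2).br_mul]
  exact ⟨j, ⟨h1, h2, fun Q hQ => h4 Q (mem_filter.2 ⟨mem_univ _, hQ⟩)⟩, _,
    ⟨i, hi, hii, h3.symm, rfl⟩, h0⟩

theorem src_down (h : MP p M B P e) (hQ : Q ≤ P) (hc : P ≤ Cen Q) (hj : Src p M P e j)
    {e' j' : MonoidAlgebra (F M) (Cen Q)} (he : emb (Cen Q).subtype e' = e)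
    (hj' : emb (Cen Q).subtype j' = br Q j) {b : Set (IrrCharacter (Cen Q))}
    (h' : MP p M b (P.subgroupOf (Cen Q)) e') : Src p M (P.subgroupOf (Cen Q)) e' j' := by
  have hi := (Cen Q).subtype_injective
  have hP : (P.subgroupOf (Cen Q)).map (Cen Q).subtype = P := Subgroup.map_subgroupOf_eq_of_le hc
  refine ⟨?_, H86.emb_injective hi (by rw [map_mul, hj', h.br_idem hj hQ]), fun R hR => ?_⟩
  · rw [← H86.inv_emb hi, hP, hj']
    exact hj.inv.res (hc.trans ((H86.Cen_le_Nor Q).trans (H86.Nor_le_Nor_Cen Q)))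
  · refine H86.emb_injective hi ?_
    rw [map_mul, h.emb_loc hQ hc he h' hR, ← H86.br_emb hi, hj', H86.br_br, sup_comm _ Q]
    exact hj.mul _ (sup_le hQ ((Subgroup.map_mono hR).trans hP.le))

theorem wt_of_ctrl (h : MP p M B P e) (hab : P ≤ Cen P) (hc : Ctrl p P e) (u : P) :
    wt p P e (u : G) = 1 := by
  haveI : IsMulCommutative P := ⟨⟨fun a b => Subtype.ext (hab b.2 a a.2)⟩⟩
  rw [wt, Nat.card_eq_one_iff_exists]
  exact ⟨⟨u, h.fus_refl u.2⟩, fun v => Subtype.ext (isConj_iff_eq.1 (hc u v v.2)).symm⟩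

theorem dv_mul_conj_of_ctrl (h : MP p M B P e) (hab : P ≤ Cen P) (hc : Ctrl p P e)
    {χ : IrrCharacter G} (hχ : χ ∈ B) (h0 : blockHeight p B (χ : G → ℂ) = 0) (u : P)
    (hl : blockRank p (loc p M P e (zpowers (u : G))) = 1) :
    dv p M P e χ u * conj (dv p M P e χ u) = 1 := by
  have := h.ctr_self_eq_one hc hχ h0 u
  rwa [h.ctr_eq_dv u (hab.trans (H86.Cen_anti (Subgroup.zpowers_le.2 u.2))) hl,
    h.wt_of_ctrl hab hc, Nat.cast_one, inv_one, one_mul] at this

theorem isGen_chiL_src [IsMulCommutative P] {D : Type*} [CommGroup D] [Fintype D] (ι : D →* G)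
    (hι : ∀ v, ι v ∈ P) {i : MonoidAlgebra ℂ G} (hii : i * i = i) (hi : Inv P i)
    (hθ : IsGeneralizedCharacter G θ) :
    IsGeneralizedCharacter D fun v => chiL θ (i * single (ι v) 1) :=
  isGen_chiL ι hii (fun v => comm_of_inv hi (hι v)) hθ

theorem glueData [IsMulCommutative P] (h : MP p M B P e) (hab : P ≤ Cen P) (hf : Free P e)
    (hj : Src p M P e j) {m : Subgroup P → ℤ} (hm : ∀ Q : Subgroup P,
      IsRk p M (loc p M P e (Q.map P.subtype)) (br (Q.map P.subtype) j) (m Q)) : GlueData m := by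
  intro Q₀ hQ₀
  set Q := Q₀.map P.subtype with hQd
  have hQ : Q ≤ P := Subgroup.map_subtype_le _
  have hQ1 : Q ≠ ⊥ := by rwa [Ne, Subgroup.map_eq_bot_iff_of_injective _ P.subtype_injective]
  have hc : P ≤ Cen Q := hab.trans (H86.Cen_anti hQ)
  obtain ⟨e', he, h'⟩ := h.down hQ hc
  obtain ⟨j', hj'⟩ := H86.exists_emb_subtype (H86.supp_res (Cen Q) j)
  have hs := h.src_down hQ hc hj he hj' h'
  obtain ⟨i, hi, hi', hii, rfl⟩ := exists_idem_lift (H := ⊤) ⟨H86.supp_top _, hs.inv⟩ hs.idem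
  have hab' := ab_subgroupOf hc hab
  have hct := h'.ctrl_of_nil (h.nil_loc hab hf hQ hQ1)
  obtain ⟨χ, hχ, h0⟩ := H33.exists_height_zero (p := p) h'.hB
  let ι : P →* Cen Q := Subgroup.inclusion hc
  have hι : ∀ v, ι v ∈ P.subgroupOf (Cen Q) := fun v => v.2
  have hgen := isGen_chiL ι hii (fun v => comm_of_inv hi'.2 (hι v)) (irr_gen χ)
  have hch : CenHom (P.subtype.comp Q₀.subtype) (Cen Q) :=
    ⟨fun v => hc v.1.2, fun v c hc => hc _ ⟨v, v.2, rfl⟩⟩
  obtain ⟨ω, hω⟩ := hch.exists_hom χ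
  obtain ⟨l, hl⟩ := MonoidHom.domRestrict_surjective ℂ Q₀ ω
  have hl' : ∀ q : Q₀, l q = ω q := fun q => DFunLike.congr_fun hl q
  have hlg : IsGeneralizedCharacter P fun v => ((l⁻¹ v : ℂˣ) : ℂ) :=
    H6.char_isGen (H6.isCharacter_hom l⁻¹)
  refine ⟨_, fun v => ((l⁻¹ v : ℂˣ) : ℂ) * dv p M (P.subgroupOf (Cen Q)) e' χ (ι v),
    H6.isGen_mul hlg hgen, fun v q hq => ?_, fun v => ?_⟩
  · have h1 : chiL (χ : Cen Q → ℂ) (i * single (ι (v * q)) 1) =
        ω ⟨q, hq⟩ * chiL χ (i * single (ι v) 1) := by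
      rw [map_mul ι, show single (ι v * ι q) (1 : ℂ) = single (ι v) 1 * single (ι q) 1 by
        rw [single_mul_single, one_mul], ← mul_assoc,
        H33.chiL_mul_comm (irr_class χ), H33.chiL_single_mul, H33.chiL_apply, mul_sum]
      exact sum_congr rfl fun g _ => by rw [mul_left_comm, ← hω]; rfl
    simp only [Pi.mul_apply, h1]
    simp only [← hl' ⟨q, hq⟩, MonoidHom.inv_apply, map_mul, mul_inv,
      Units.val_mul, mul_assoc, Units.inv_mul_cancel_left]
  · have hR : zpowers (ι v) ≤ P.subgroupOf (Cen Q) := Subgroup.zpowers_le.2 (hι v)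
    have hS : Q ⊔ (zpowers (ι v)).map (Cen Q).subtype = (Q₀ ⊔ zpowers v).map P.subtype := by
      rw [Subgroup.map_sup, MonoidHom.map_zpowers, MonoidHom.map_zpowers]; rfl
    obtain ⟨ψ, hψ, hb⟩ := h.exists_equiv_loc hQ hc he h' hR hS
    have hl1 : blockRank p (loc p M (P.subgroupOf (Cen Q)) e' (zpowers (ι v))) = 1 := by
      rw [← blockRank_trI ψ, ← hb]
      exact h.rank_loc hab hf (Subgroup.map_subtype_le _) (hS ▸ ne_bot_of_le_ne_bot hQ1 le_sup_left)
    obtain ⟨n, hn⟩ := exists_isRk h.hM (loc p M (P.subgroupOf (Cen Q)) e' (zpowers (ι v))) (H86.supp_res _ _)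
      (h'.br_idem hs hR)
    have h2 := hn.emb (φ := (Cen Q).subtype) ψ hψ
    rw [← hb, ← H86.br_emb (Cen Q).subtype_injective, hj', H86.br_br, sup_comm _ Q, hS] at h2
    refine ⟨?_, (H6.gen_isIntegral hlg v).mul (h'.isIntegral_dv (hι v) (irr_gen χ)), ?_⟩
    · rw [Pi.mul_apply, h'.chiL_eq_dv (hι v) hl1 hi hii (hi'.2.anti hR) hs hn (irr_class χ),
        h2.unique h.hM (hm _), mul_assoc]
    · have h3 := h'.dv_mul_conj_of_ctrl hab' hct hχ h0 ⟨ι v, hι v⟩ hl1
      have h4 : ((l⁻¹ v : ℂˣ) : ℂ) * conj ((l⁻¹ v : ℂˣ) : ℂ) = 1 := by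
        rw [conj_dual, ← Units.val_mul, ← map_mul, mul_inv_cancel, map_one, Units.val_one]
      rw [map_mul, mul_mul_mul_comm, h3, h4, one_mul]

/-- The signs making all generalized decomposition numbers restrictions of generalized
characters. -/
theorem exists_eps [IsMulCommutative P] (h : MP p M B P e) (hab : P ≤ Cen P) (hf : Free P e)
    (h1 : P ≠ ⊥) : ∃ ε : P → ℤ, (∀ v, ε v = 1 ∨ ε v = -1) ∧
      (∀ α ∈ inq P e, ∀ v, v ≠ 1 → ε (α v) = ε v) ∧ ∀ θ, IsGeneralizedCharacter G θ →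
        (fun v : P => ε v * dv p M P e θ v) ∈ RA P := by
  obtain ⟨j, hj, m₀, hm₀, h0⟩ := h.exists_src hab (h.rank_loc hab hf le_rfl h1)
  choose m hm using fun Q : Subgroup P => exists_isRk h.hM (loc p M P e (Q.map P.subtype))
    (H86.supp_res _ _) (h.br_idem hj (Subgroup.map_subtype_le Q))
  have h2 : m₀ = m ⊤ := by
    have := hm ⊤
    rw [H86.top_map_subtype] at this
    exact hm₀.unique h.hM this
  obtain ⟨ε, hε, hε'⟩ := (h.glueData hab hf hj hm).exists_sign h.hM h.pgrp (h2 ▸ h0)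
  obtain ⟨i, hi, hi', hii, rfl⟩ := exists_idem_lift (H := ⊤) ⟨H86.supp_top _, hj.inv⟩ hj.idem
  obtain ⟨χ, hχ, h3⟩ := H33.exists_height_zero (p := p) h.hB
  have hl : ∀ v : P, v ≠ 1 → blockRank p (loc p M P e (zpowers (v : G))) = 1 := fun v hv =>
    h.rank_loc_z hab hf v.2 fun h => hv (Subtype.ext h)
  obtain ⟨ε', h4, h5, h6⟩ := exists_inv_sign h.hM h.pgrp
    (fun (θ : {θ // IsGeneralizedCharacter G θ}) (v : P) => dv p M P e θ v) (inq P e)
    (h.not_dvd_card_inq hab)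
    (fun θ α hα v _ => h.dv_fus (h.fus_inq hab hα v) (H6.gen_isClassFunction θ.2))
    (i₀ := ⟨χ, irr_gen χ⟩) (fun v hv => (h.red_dv_ne_zero_iff v.2 (hl v hv) hχ).2 h3) hε
    fun θ => hε' _ (fun v _ => h.isIntegral_dv v.2 θ.2) (RA_congr (RA_of_gen
      (isGen_chiL P.subtype hii (fun v => comm_of_inv hi'.2 v.2) θ.2)) fun v hv => by
        have := hm (zpowers v)
        rw [MonoidHom.map_zpowers] at this
        exact (h.chiL_eq_dv v.2 (hl v hv) hi hii (hi'.2.anti (Subgroup.zpowers_le.2 v.2)) hj this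
          (H6.gen_isClassFunction θ.2)).symm)
  exact ⟨ε', h4, h5, fun θ hθ => h6 ⟨θ, hθ⟩⟩

end MP

end H85
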