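import Mathlib
import Cfsg.Agent.Lib.H85.Src
import Cfsg.Agent.Lib.Cyc.Dade

/-! Blocks with abelian defect group and a free inertial action: exceptional characters. -/

set_option autoImplicit false
set_option linter.unusedSectionVars false
set_option linter.style.haveILetI false
attribute [local irreducible] H33.instFieldF

namespace H85

open Cfsg H84 H35 Finset MonoidAlgebra
open H33 (F eB fB chiL OG redA red O)
open H86 (Cen Nor Supp Inv br emb cj cs trI csEquiv eS fS IsMaxPair PairOf St)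
open Subgroup (zpowers)
open scoped ComplexConjugate SubFin IsMulCommutative

variable {G : Type*} [Group G] [Fintype G] {p : ℕ} [hp : Fact p.Prime] {M : Ideal AlgInt}
  [M.IsMaximal] {B : Set (IrrCharacter G)} {P Q K : Subgroup G} {e : MonoidAlgebra (F M) G}
  {u v w : G} {θ η : G → ℂ}

theorem sum_coe_bset {A : Type*} [AddCommMonoid A] (B : Set (IrrCharacter G)) [Fintype B]
    (f : IrrCharacter G → A) : ∑ χ : B, f χ = ∑ χ ∈ bset B, f χ :=
  (sum_subtype (bset B) (fun _ => mem_bset) f).symm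

theorem card_le_sum_sq {I : Type*} (S : Finset I) {a : I → ℤ} (h : ∀ i ∈ S, a i ≠ 0) :
    (S.card : ℤ) ≤ ∑ i ∈ S, a i ^ 2 ∧ (∑ i ∈ S, a i ^ 2 = S.card ∨
      (S.card : ℤ) + 3 ≤ ∑ i ∈ S, a i ^ 2) := by
  classical
  have h1 : ∀ i ∈ S, 1 ≤ a i ^ 2 := fun i hi => by have := sq_pos_of_ne_zero (h i hi); omega
  have h2 : ∀ T : Finset I, T ⊆ S → (T.card : ℤ) ≤ ∑ i ∈ T, a i ^ 2 := fun T hT => by
    simpa using card_nsmul_le_sum T _ 1 fun i hi => h1 i (hT hi)
  refine ⟨h2 S subset_rfl, ?_⟩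
  by_cases h3 : ∀ i ∈ S, a i ^ 2 = 1
  · exact Or.inl (by rw [sum_congr rfl h3]; simp)
  · push Not at h3
    obtain ⟨i, hi, h3⟩ := h3
    have h4 : 4 ≤ a i ^ 2 := by
      have := h i hi
      rw [← sq_abs] at h3 ⊢
      have h5 := abs_pos.2 this
      generalize |a i| = s at *
      have : s ≠ 1 := by rintro rfl; exact h3 rfl
      nlinarith [show 2 ≤ s by omega]
    have h5 := h2 _ (erase_subset i S)
    rw [← add_sum_erase _ _ hi, ← card_erase_add_one hi]
    push_cast
    exact Or.inr (by linarith)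

/-- Signs adapted to a maximal pair. -/
structure Eps (p : ℕ) {G : Type*} [Group G] [Finite G] (M : Ideal AlgInt) [M.IsMaximal]
    (P : Subgroup G) (e : MonoidAlgebra (F M) G) (ε : P → ℤ) : Prop where
  sign : ∀ v, ε v = 1 ∨ ε v = -1
  inv : ∀ α ∈ inq P e, ∀ v, v ≠ 1 → ε (α v) = ε v
  mem : ∀ θ, IsGeneralizedCharacter G θ → (fun v : P => ε v * dv p M P e θ v) ∈ RA P

theorem Eps.mul_self {ε : P → ℤ} (h : Eps p M P e ε) (v : P) : (ε v : ℂ) * ε v = 1 := by
  rcases h.sign v with h | h <;> simp [h]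

namespace MP

theorem exists_Eps [IsMulCommutative P] (h : MP p M B P e) (hab : P ≤ Cen P) (hf : Free P e)
    (h1 : P ≠ ⊥) : ∃ ε, Eps p M P e ε :=
  (h.exists_eps hab hf h1).imp fun _ h => ⟨h.1, h.2.1, h.2.2⟩

theorem sum_dv_inq (h : MP p M B P e) (hab : P ≤ Cen P) (hf : Free P e) {u : P} (hu : u ≠ 1)
    {α : MulAut P} (hα : α ∈ inq P e) :
    ∑ χ ∈ bset B, dv p M P e χ u * conj (dv p M P e χ (α u)) = Nat.card P := by
  rw [h.sum_dv_of_fus (h.fus_inq hab hα u) (h.rank_loc_z hab hf u.2 fun h => hu (Subtype.ext h)),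
    h.defect_loc (Subgroup.zpowers_le.2 u.2) (hab.trans (H86.Cen_anti (Subgroup.zpowers_le.2 u.2))),
    h.card_eq, Nat.cast_pow]

theorem dv_ne_zero' (h : MP p M B P e) (hab : P ≤ Cen P) (hf : Free P e) {u : P} (hu : u ≠ 1)
    {χ : IrrCharacter G} (hχ : χ ∈ B) : dv p M P e χ u ≠ 0 :=
  h.dv_ne_zero u.2 (hab.trans (H86.Cen_anti (Subgroup.zpowers_le.2 u.2)))
    (h.rank_loc_z hab hf u.2 fun h => hu (Subtype.ext h)) hχ

/-- Exceptional characters. -/
theorem exists_exc [IsMulCommutative P] [Fintype B] [DecidableEq B] (h : MP p M B P e)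
    (hab : P ≤ Cen P) (hf : Free P e) {ε : P → ℤ} (hε : Eps p M P e ε)
    (hr : Nat.card (inq P e) + 1 < Nat.card P) :
    ∃ (δ c : ℤ) (ζ : (P →* ℂˣ) → B) (a : B → ℤ) (Y : Finset B),
      Exc (inq P e) (fun (χ : B) (v : P) => ε v * dv p M P e (χ : IrrCharacter G) v) δ c ζ a Y ∧
      ¬ (Y.card = 2 ∧ c = δ) ∧ ∀ χ, χ ∉ Y → a χ ≠ 0 := by
  obtain ⟨δ, c, ζ, a, Y, hE, hc⟩ := H85.exists_exc hf.inq (by rwa [← Nat.card_eq_fintype_card])
    (fun (χ : B) (v : P) => ε v * dv p M P e (χ : IrrCharacter G) v)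
    (fun χ => charDegree ((χ : IrrCharacter G) : G → ℂ)) (fun χ => by exact_mod_cast deg_pos χ.1)
    (fun u v hu hv huv => by
      have := h.sum_dv_of_not_fus u.2 v.2 (mt (h.fus_iff_inq hab u v).1 huv)
      rw [← sum_coe_bset] at this
      simp only [map_mul, map_intCast]
      rw [sum_congr rfl fun _ _ => mul_mul_mul_comm _ _ _ _, ← mul_sum, this, mul_zero])
    (fun u hu α hα => by
      have := h.sum_dv_inq hab hf hu hα
      rw [← sum_coe_bset] at this
      simp only [map_mul, map_intCast]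
      rw [sum_congr rfl fun _ _ => mul_mul_mul_comm _ _ _ _, ← mul_sum, this,
        hε.inv α hα u hu, hε.mul_self, one_mul, Nat.card_eq_fintype_card])
    (fun χ => mem_RA_iff.1 (hε.mem _ (irr_gen χ.1)))
    (fun u hu => by
      have := h.sum_reg_conj_dv u.2 (fun h => hu (Subtype.ext h)) not_dvd_orderOf_one
      rw [← sum_coe_bset] at this
      simp only [map_mul, map_intCast, mul_left_comm _ (ε u : ℂ), ← mul_sum, Int.cast_natCast,
        cast_deg, this, mul_zero])
  refine ⟨δ, c, ζ, a, Y, hE, hc, fun χ hχ h0 => ?_⟩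
  haveI : Nontrivial P := Finite.one_lt_card_iff_nontrivial.1 (by omega)
  obtain ⟨u, hu⟩ := exists_ne (1 : P)
  have := hE.const _ hχ u hu
  rw [h0, Int.cast_zero] at this
  exact mul_ne_zero (left_ne_zero_of_mul_eq_one (hε.mul_self u)) (h.dv_ne_zero' hab hf hu χ.2) this

theorem card_inq_dvd (h : MP p M B P e) (hab : P ≤ Cen P) (hf : Free P e) :
    Nat.card (inq P e) ∣ Nat.card P - 1 :=
  (Nat.dvd_add_right (dvd_mul_right _ _)).1 (h.card_mul_eq hab hf ▸ dvd_mul_right _ _)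

theorem card_eq_rank_add (h : MP p M B P e) (hab : P ≤ Cen P) (hf : Free P e) :
    Nat.card B = blockRank p B + (Nat.card P - 1) / Nat.card (inq P e) := by
  refine Nat.eq_of_mul_eq_mul_left (Nat.card_pos (α := inq P e)) ?_
  rw [h.card_mul_eq hab hf, mul_add, Nat.mul_div_cancel' (h.card_inq_dvd hab hf)]

theorem fus_of_card (h : MP p M B P e) (hab : P ≤ Cen P) (hf : Free P e)
    (hr : Nat.card P = Nat.card (inq P e) + 1) {u v : P} (hu : u ≠ 1) (hv : v ≠ 1) :
    Fus p P e u v := by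
  have h1 := h.wt_of_free hab hf hu
  have h2 : Function.Injective fun w : {w : P // Fus p P e u w} =>
      (⟨w, fun h0 => hu (Subtype.ext (isConj_one_left.1 (by simpa [h0] using w.2.isConj)))⟩ :
        {w : P // w ≠ 1}) := fun a b hab => Subtype.ext (Subtype.mk.inj hab)
  obtain ⟨w, hw⟩ := (h2.bijective_of_nat_card_le (by
    letI : DecidableEq P := Classical.decEq _
    rw [← wt, h1, Nat.card_eq_fintype_card, Fintype.card_subtype_compl, Fintype.card_subtype_eq,
      ← Nat.card_eq_fintype_card, hr, Nat.add_sub_cancel])).2 ⟨v, hv⟩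
  exact Subtype.mk.inj hw ▸ w.2

theorem exists_int_dv [IsMulCommutative P] (h : MP p M B P e) (hab : P ≤ Cen P) (hf : Free P e)
    (hr : Nat.card P = Nat.card (inq P e) + 1) (hθ : IsGeneralizedCharacter G θ) {u : P}
    (hu : u ≠ 1) : ∃ n : ℤ, dv p M P e θ u = n := by
  obtain ⟨ε, hε⟩ := h.exists_Eps hab hf (by rintro rfl; exact hu (Subsingleton.elim _ _))
  obtain ⟨g, hg, h1⟩ := hε.mem θ hθ
  obtain ⟨n, hn⟩ := H8.exists_int_of_forall_pow_eq hg u fun m hm => by
    have h2 : u ^ m ≠ 1 := fun h2 => hu (by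
      rw [← orderOf_eq_one_iff, ← hm.symm.orderOf_pow, h2, orderOf_one])
    have h3 := h.fus_of_card hab hf hr hu h2
    obtain ⟨α, hα, h4⟩ := (h.fus_iff_inq hab _ _).1 h3
    rw [← h1 _ h2, ← h1 _ hu]
    dsimp only
    rw [h.dv_fus h3 (H6.gen_isClassFunction hθ), ← h4, hε.inv α hα u hu]
  refine ⟨ε u * n, ?_⟩
  rw [Int.cast_mul, ← hn, ← h1 u hu]
  dsimp only
  rw [← mul_assoc, hε.mul_self, one_mul]

theorem rank_of_isCyclic (h : MP p M B P e) (hc : IsCyclic P) (h1 : P ≠ ⊥) :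
    blockRank p B = Nat.card (inq P e) := by
  obtain ⟨Z, hZD, hZ⟩ := H35C.exists_card_eq_prime h.pgrp h1
  obtain ⟨c, h'⟩ := H35C.exists_LD h.hM h.hB h.max hc hZD hZ
  rw [card_inq]
  exact h'.rank_eq' h.hM (h'.rank_one h.hM)

/-- The rank is bounded by the inertial index, with equality when it is at most three. -/
theorem rank_le (h : MP p M B P e) (hab : P ≤ Cen P) (hf : Free P e) (h1 : P ≠ ⊥) :
    blockRank p B ≤ Nat.card (inq P e) ∧
      (Nat.card (inq P e) ≤ 3 → blockRank p B = Nat.card (inq P e)) := by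
  haveI : IsMulCommutative P := ⟨⟨fun a b => Subtype.ext (hab b.2 a a.2)⟩⟩
  have hk := h.card_eq_rank_add hab hf
  have hl : 0 < blockRank p B := blockRank_pos (H33.block_nonempty h.hB)
  have hP : 1 < Nat.card P := (Subgroup.one_lt_card_iff_ne_bot P).2 h1
  have he : 0 < Nat.card (inq P e) := Nat.card_pos
  have hle := Nat.le_of_dvd (by omega) (h.card_inq_dvd hab hf)
  haveI := Fintype.ofFinite B
  letI : DecidableEq B := Classical.decEq _
  by_cases hr : Nat.card (inq P e) + 1 < Nat.card P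
  · obtain ⟨ε, hε⟩ := h.exists_Eps hab hf h1
    obtain ⟨δ, c, ζ, a, Y, hE, hc, ha⟩ := h.exists_exc hab hf hε hr
    have h2 := hE.card
    rw [← Nat.card_eq_fintype_card] at h2
    rw [← h2, Nat.mul_div_cancel _ he, Nat.card_eq_fintype_card, ← card_add_card_compl Y,
      add_comm, add_left_inj] at hk
    obtain ⟨h3, h4⟩ := card_le_sum_sq Yᶜ fun i hi => ha i (mem_compl.1 hi)
    have h5 := hE.norm
    have h6 : (2 : ℤ) ≤ Y.card := by exact_mod_cast hE.two_le
    rw [hk] at h3 h4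
    generalize ∑ i ∈ Yᶜ, a i ^ 2 = s at *
    have h7 : c = 0 ∨ c = δ ∨ 5 ≤ (c - δ) ^ 2 + ((Y.card : ℤ) - 1) * c ^ 2 := by
      by_cases h0 : c = 0
      · exact Or.inl h0
      by_cases h0' : c = δ
      · exact Or.inr (Or.inl h0')
      have h8 : c ^ 2 ≤ ((Y.card : ℤ) - 1) * c ^ 2 := by nlinarith [sq_nonneg c]
      refine Or.inr (Or.inr (le_trans ?_ (add_le_add_right h8 _)))
      rcases hE.sign with rfl | rfl
      · rcases (by omega : c ≤ -1 ∨ 2 ≤ c) with h9 | h9 <;> nlinarith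
      · rcases (by omega : c ≤ -2 ∨ 1 ≤ c) with h9 | h9 <;> nlinarith
    have hδ : δ ^ 2 = 1 := by rcases hE.sign with rfl | rfl <;> rfl
    rcases h7 with rfl | rfl | h7
    · rw [zero_sub, neg_sq, hδ] at h5
      refine ⟨by omega, fun _ => by omega⟩
    · rw [sub_self, hδ] at h5
      refine ⟨by omega, fun h8 => h.rank_of_isCyclic ?_ h1⟩
      have h9 : Y.card ≠ 2 := fun h => hc ⟨h, rfl⟩
      obtain ⟨n, hn⟩ := IsPGroup.iff_card.1 h.pgrp
      have h10 : Nat.card P = 7 ∨ Nat.card P = 10 ∨ Nat.card P = 13 := by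
        have : Nat.card (inq P e) = 2 ∧ Y.card = 3 ∨ Nat.card (inq P e) = 3 ∧ Y.card = 3 ∨
          Nat.card (inq P e) = 3 ∧ Y.card = 4 := by omega
        rcases this with ⟨h11, h12⟩ | ⟨h11, h12⟩ | ⟨h11, h12⟩ <;> rw [h11, h12] at h2 <;> omega
      rcases h10 with h10 | h10 | h10
      · haveI : Fact (Nat.Prime 7) := ⟨by norm_num⟩
        exact isCyclic_of_prime_card h10
      · have h2 := (Nat.prime_dvd_prime_iff_eq Nat.prime_two hp.out).1
          (Nat.prime_two.dvd_of_dvd_pow (n := n) (by rw [← hn, h10]; norm_num))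
        have h5 := (Nat.prime_dvd_prime_iff_eq Nat.prime_five hp.out).1
          (Nat.prime_five.dvd_of_dvd_pow (n := n) (by rw [← hn, h10]; norm_num))
        omega
      · haveI : Fact (Nat.Prime 13) := ⟨by norm_num⟩
        exact isCyclic_of_prime_card h10
    · refine ⟨by omega, fun _ => by omega⟩
  · have hr' : Nat.card P = Nat.card (inq P e) + 1 := by omega
    haveI : Nontrivial P := Finite.one_lt_card_iff_nontrivial.1 hP
    obtain ⟨u, hu⟩ := exists_ne (1 : P)
    choose a ha using fun χ : IrrCharacter G => h.exists_int_dv hab hf hr' (irr_gen χ) hu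
    have h2 := h.sum_dv_inq hab hf hu (one_mem _)
    simp only [MulAut.one_apply, ha, map_intCast, ← sq] at h2
    have h3 : ∑ χ ∈ bset B, a χ ^ 2 = Nat.card P := by exact_mod_cast h2
    obtain ⟨h4, h5⟩ := card_le_sum_sq (bset B) (a := a) fun χ hχ h0 =>
      h.dv_ne_zero' hab hf hu (mem_bset.1 hχ) (by rw [ha, h0, Int.cast_zero])
    rw [hr', Nat.add_sub_cancel, Nat.div_self he] at hk
    rw [h3, card_bset, hk, hr'] at h4 h5
    refine ⟨by omega, fun _ => by omega⟩

end MP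

end H85
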