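import Mathlib
import Cfsg.Agent.Lib.H85.L2Db
import Cfsg.Agent.Lib.GL2Char.SLMore
import Cfsg.Agent.Lib.GL.Basic
import Cfsg.Agent.Lib.Core.MinNormal
import Cfsg.Agent.S0493
import Cfsg.Agent.S0494

set_option autoImplicit false
set_option linter.unusedSectionVars false
set_option linter.style.haveILetI false

/-! The character degrees of `L₂(q)`, and transfer along equal degree counts. -/

open Cfsg H17.Ord Matrix

namespace H85.L2D

variable {G : Type*} [Group G] [Finite G]

theorem exists_equiv {H : Type*} [Group H] [Finite H]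
    (h : ∀ d : ℕ, Nat.card {χ : IrrCharacter G // (χ : G → ℂ) 1 = (d : ℂ)} =
      Nat.card {χ : IrrCharacter H // (χ : H → ℂ) 1 = (d : ℂ)}) :
    ∃ e : IrrCharacter G ≃ IrrCharacter H, ∀ χ, dg (e χ) = dg χ := by
  have : ∀ d : ℕ, Nonempty ({χ : IrrCharacter G // dg χ = d} ≃ {ψ : IrrCharacter H // dg ψ = d}) :=
    fun d => Finite.card_eq.1 (by
      have := h d
      simp only [dg_cast, Nat.cast_inj] at this
      exact this)
  exact ⟨Equiv.ofFiberEquiv (f := dg) (g := dg) fun d => (this d).some,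
    fun χ => Equiv.ofFiberEquiv_map _ χ⟩

theorem card_eq_of_equiv {H : Type*} [Group H] [Finite H] (e : IrrCharacter G ≃ IrrCharacter H)
    (he : ∀ χ, dg (e χ) = dg χ) : Nat.card G = Nat.card H := by
  rw [← sum_dg_sq, ← sum_dg_sq, ← e.sum_comp]
  simp only [he]

theorem iso_A5 (hc : Nat.card G = 60) (u1 : ∀ ψ : IrrCharacter G, dg ψ = 1 → ψ = triv G) :
    Nonempty (G ≃* alternatingGroup (Fin 5)) := by
  haveI : Nontrivial G := Finite.one_lt_card_iff_nontrivial.1 (by omega)
  obtain ⟨M, hM, hne, -, hmax⟩ := H3.exists_maximal_normal_ge (⊥ : Subgroup G) bot_ne_top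
  haveI := H3.isSimpleGroup_quotient_of_maximal_normal M hne hmax
  have h1 := Subgroup.card_eq_card_quotient_mul_card_subgroup M
  have h2 : Nat.card (G ⧸ M) = 60 := by
    refine Cfsg.Agent.S0493.result (fun hcy => ?_) ?_
    · letI : CommGroup (G ⧸ M) := IsCyclic.commGroup
      obtain ⟨a, ha⟩ := exists_ne (1 : G ⧸ M)
      obtain ⟨φ, hφ⟩ := CommGroup.exists_apply_ne_one_of_hasEnoughRootsOfUnity (G ⧸ M) ℂ ha
      obtain ⟨g, rfl⟩ := QuotientGroup.mk'_surjective M a
      have := u1 ⟨_, H6.isIrrCharacter_hom (φ.comp (QuotientGroup.mk' M))⟩ (by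
        simp [dg, charDegree])
      have h3 := congrFun (congrArg Subtype.val this) g
      exact hφ (Units.ext h3)
    · have : Nat.card (G ⧸ M) ≤ Nat.card G := Nat.card_le_card_of_surjective _
        (QuotientGroup.mk'_surjective M)
      omega
  have h3 : M = ⊥ := by
    rw [← Subgroup.card_eq_one]
    rw [hc, h2] at h1
    omega
  subst h3
  haveI : IsSimpleGroup G := (QuotientGroup.quotientBot (G := G)).symm.isSimpleGroup
  exact Cfsg.Agent.S0494.result hc

section PSL

open H62.GL2

variable {F : Type*} [Field F] [Fintype F]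

theorem infl (ψ : IrrCharacter (ProjectiveSpecialLinearGroup (Fin 2) F)) :
    IsIrrCharacter (SpecialLinearGroup (Fin 2) F) fun x =>
      (ψ : ProjectiveSpecialLinearGroup (Fin 2) F → ℂ) (QuotientGroup.mk' _ x) :=
  H6.isIrrCharacter_comp_surjective _ (QuotientGroup.mk'_surjective _) ψ.2

theorem psl_u1 (h4 : 4 ≤ Fintype.card F) (ψ : IrrCharacter (ProjectiveSpecialLinearGroup (Fin 2) F))
    (h : dg ψ = 1) : ψ = triv _ := by
  classical
  have := irr_of_deg_one h4 (infl ψ) (by simp only [map_one]; rw [dg_cast, h, Nat.cast_one])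
  refine Subtype.ext (funext fun g => ?_)
  obtain ⟨x, rfl⟩ := QuotientGroup.mk'_surjective _ g
  exact congrFun this x

theorem psl_uq (ψ ψ' : IrrCharacter (ProjectiveSpecialLinearGroup (Fin 2) F))
    (h : dg ψ = Fintype.card F) (h' : dg ψ' = Fintype.card F) : ψ = ψ' := by
  classical
  have a := irr_of_deg_q (infl ψ) (by simp only [map_one]; rw [dg_cast, h])
  have b := irr_of_deg_q (infl ψ') (by simp only [map_one]; rw [dg_cast, h'])
  refine Subtype.ext (funext fun g => ?_)
  obtain ⟨x, rfl⟩ := QuotientGroup.mk'_surjective _ g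
  exact congrFun (a.trans b.symm) x

theorem psl_ne_half (h5 : 5 ≤ Fintype.card F) (h4 : Fintype.card F % 4 = 1)
    (ψ : IrrCharacter (ProjectiveSpecialLinearGroup (Fin 2) F)) :
    dg ψ ≠ (Fintype.card F - 1) / 2 := fun h => by
  classical
  obtain ⟨K, _, _, _, _, ⟨ι⟩⟩ := exists_quad F
  obtain ⟨η, χ', k1, k2, hp⟩ := irr_of_deg_half_sub ι h5 (infl ψ)
    (by simp only [map_one]; rw [dg_cast, h])
  have a := hp.apply_neg_one
  have b := hp.apply_one
  have c : QuotientGroup.mk' (Subgroup.center (SpecialLinearGroup (Fin 2) F)) (-1) = 1 :=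
    (QuotientGroup.eq_one_iff _).2 (mem_center_iff_neg.2 (Or.inr rfl))
  simp only [c, map_one] at a b
  have h2 : Nat.card (normOne F K) = 2 * ((Fintype.card F + 1) / 2) := by
    rw [card_normOne]; omega
  have h2F : (2 : F) ≠ 0 := by
    apply Ring.two_ne_zero
    intro hc
    have := FiniteField.even_card_of_char_two hc
    omega
  rw [cuS_neg_one, (H62.hom_order_two_apply h2 k1 k2 _).2 (fun h6 => ?_), b, cuS_one] at a
  · have : (Fintype.card F : ℂ) = 1 := by
      simp only [Units.val_neg, Units.val_one] at a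
      linear_combination a
    have : Fintype.card F = 1 := by exact_mod_cast this
    omega
  · have h7 : up K (-1 : Fˣ) ^ ((Fintype.card F + 1) / 2) = 1 := congrArg Subtype.val h6
    have hodd : Odd ((Fintype.card F + 1) / 2) := ⟨Fintype.card F / 4, by omega⟩
    rw [← map_pow, hodd.neg_one_pow, ← map_one (up K : Fˣ →* Kˣ)] at h7
    have h8 : ((-1 : Fˣ) : F) = (1 : Fˣ) := congrArg Units.val (up_injective h7)
    simp only [Units.val_neg, Units.val_one] at h8
    exact h2F (by linear_combination -h8)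

theorem psl_degs (h5 : 5 ≤ Fintype.card F) (h4 : Fintype.card F % 4 = 1)
    (ψ : IrrCharacter (ProjectiveSpecialLinearGroup (Fin 2) F)) :
    dg ψ = 1 ∨ dg ψ = Fintype.card F ∨ dg ψ = Fintype.card F + 1 ∨
      dg ψ = (Fintype.card F + 1) / 2 ∨ dg ψ = Fintype.card F - 1 := by
  classical
  have := psl_ne_half h5 h4 ψ
  have h := charDegrees_SL_cases (charDegrees_PSL_subset (F := F) ⟨ψ, rfl⟩)
  unfold dg at *
  tauto

theorem main (p : ℕ) (hp : p.Prime) (hF : Fintype.card F = p ^ 2)
    (e : IrrCharacter G ≃ IrrCharacter (ProjectiveSpecialLinearGroup (Fin 2) F))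
    (he : ∀ χ, dg (e χ) = dg χ) : Nonempty (G ≃* ProjectiveSpecialLinearGroup (Fin 2) F) := by
  classical
  have h2 := hp.two_le
  have h4 : 4 ≤ Fintype.card F := by rw [hF]; nlinarith
  have hc := card_eq_of_equiv e he
  have hP := H10.card_PSL_two (F := F)
  rw [Nat.card_eq_fintype_card (α := F), hF] at hP
  have u1 : ∀ ψ : IrrCharacter G, dg ψ = 1 → ψ = triv G := fun ψ h => e.injective
    ((psl_u1 h4 _ (by rw [he, h])).trans (psl_u1 h4 _ (by rw [he, dg_triv])).symm)
  by_cases hp2 : p = 2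
  · subst hp2
    have hP' : Nat.card (ProjectiveSpecialLinearGroup (Fin 2) F) = 60 := by
      rw [show Nat.gcd 2 (2 ^ 2 - 1) = 1 by norm_num] at hP
      omega
    obtain ⟨a⟩ := iso_A5 (hc.trans hP') u1
    obtain ⟨b⟩ := iso_A5 hP' (psl_u1 h4)
    exact ⟨a.trans b.symm⟩
  haveI := Fact.mk hp
  obtain ⟨a, ha⟩ := hp.odd_of_ne_two hp2
  have h8 : p ^ 2 = 4 * (a * a + a) + 1 := by rw [ha]; ring
  have h9 : 1 ≤ a := by omega
  have h10 : 1 ≤ a * a + a := by omega
  generalize a * a + a = c at h8 h10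
  obtain ⟨St, hSt⟩ := q_mem_charDegrees_PSL (F := F)
  have hSt' : dg (e.symm St) = p ^ 2 := by rw [← he, e.apply_symm_apply, ← hF]; exact hSt
  let D : Dat G p (2 * c + 1) (4 * c) :=
    { hp := hp
      hp2 := hp2
      hm := by omega
      hw := by omega
      card := by
        rw [hc]
        rw [h8, Nat.add_sub_cancel, show Nat.gcd 2 (4 * c) = 2 from
          Nat.gcd_eq_left ⟨2 * c, by ring⟩] at hP
        rw [h8]
        nlinarith
      St := e.symm St
      dSt := hSt'
      uSt := fun ψ h => e.injective (psl_uq _ _ (by rw [he, h, hF]) (by rw [he, hSt', hF]))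
      u1 := u1
      degs := fun ψ => by
        have := psl_degs (by omega) (by omega) (e ψ)
        rw [he, hF] at this
        omega }
  obtain ⟨K, _, _, hK, ⟨f⟩⟩ := D.iso
  exact ⟨f.trans (H10.pslCongr (FiniteField.ringEquivOfCardEq (hK.trans hF.symm)))⟩

end PSL

end H85.L2D
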