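import Mathlib
import Cfsg.Agent.Lib.H85.Cen

/-! The relative McKay count for `p`-solvable groups (plain and real versions). -/

set_option autoImplicit false
set_option linter.unusedSectionVars false
set_option linter.style.haveILetI false

namespace H85

open Cfsg H87 Subgroup
open scoped ComplexConjugate commutatorElement

universe u v w

variable {p : ℕ} [hp : Fact p.Prime]

theorem card_not_dvd_of_equiv {X Y : Type*} [Group X] [Group Y] {P : IrrCharacter X → Prop}
    {Q : IrrCharacter Y → Prop} (e : {χ // P χ} ≃ {χ // Q χ}) {d : ℕ} (hd : ¬ p ∣ d)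
    (h : ∀ χ, charDegree χ.1.1 = d * charDegree (e χ).1.1) :
    Nat.card {χ : IrrCharacter X // ¬ p ∣ charDegree χ.1 ∧ P χ} =
      Nat.card {χ : IrrCharacter Y // ¬ p ∣ charDegree χ.1 ∧ Q χ} := by
  simp only [and_comm (b := P _), and_comm (b := Q _)]
  rw [← Nat.card_congr (Equiv.subtypeSubtypeEquivSubtypeInter P fun χ => ¬ p ∣ charDegree χ.1),
    ← Nat.card_congr (Equiv.subtypeSubtypeEquivSubtypeInter Q fun χ => ¬ p ∣ charDegree χ.1)]
  refine Nat.card_congr (e.subtypeEquiv fun χ => ?_)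
  rw [h, hp.out.dvd_mul]
  simp [hd]

theorem normal_range_of_comp {L N G : Type*} [Group L] [Group N] [Group G] {j : L →* G}
    [hn : j.range.Normal] {i : N →* G} (hi : Function.Injective i) {j' : L →* N}
    (hj' : ∀ l, i (j' l) = j l) : j'.range = j.range.comap i ∧ j'.range.Normal := by
  have : j'.range = j.range.comap i := by
    ext n
    exact ⟨fun ⟨l, hl⟩ => ⟨l, by rw [← hj', hl]⟩, fun ⟨l, hl⟩ => ⟨l, hi (by rw [hj', hl])⟩⟩
  exact ⟨this, this ▸ hn.comap i⟩

section Final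

variable {G N L : Type u} [Group G] [Finite G] [Group N] [Finite N] [Group L] [Finite L]

theorem final_plain {j : L →* G} (hj : Function.Injective j) [j.range.Normal] (S : Sylow p G)
    (K : Subgroup G) [K.Normal] (hK : ¬ p ∣ j.range.relIndex K)
    [hM : (K ⊔ S : Subgroup G).Normal] {i : N →* G} (hi : Function.Injective i)
    (rng : ∀ x, x ∈ i.range ↔ x ∈ normalizer ((j.range ⊔ S : Subgroup G) : Set G))
    {j' : L →* N} (hj' : ∀ l, i (j' l) = j l) {ν : L → ℂ} (hν : IsIrrCharacter L ν)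
    (hinv : ∀ x, InvBy j ν ν x) :
    Nat.card {χ : IrrCharacter G // ¬ p ∣ charDegree χ.1 ∧ Ov j χ.1 ν} =
      Nat.card {χ : IrrCharacter N // ¬ p ∣ charDegree χ.1 ∧ Ov j' χ.1 ν} := by
  haveI := (normal_range_of_comp hi hj').2
  have hj'i : Function.Injective j' := fun a b h => hj (by rw [← hj', ← hj', h])
  by_cases hd : p ∣ charDegree ν
  · haveI : IsEmpty {χ : IrrCharacter G // ¬ p ∣ charDegree χ.1 ∧ Ov j χ.1 ν} :=
      ⟨fun χ => χ.2.1 (hd.trans (χ.2.2.deg_dvd hj χ.1.2 hν))⟩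
    haveI : IsEmpty {χ : IrrCharacter N // ¬ p ∣ charDegree χ.1 ∧ Ov j' χ.1 ν} :=
      ⟨fun χ => χ.2.1 (hd.trans (χ.2.2.deg_dvd hj'i χ.1.2 hν))⟩
    rw [Nat.card_of_isEmpty, Nat.card_of_isEmpty]
  set π := QuotientGroup.mk' j.range with hπ
  have πs : Function.Surjective π := QuotientGroup.mk'_surjective _
  have πk : π.ker = j.range := QuotientGroup.ker_mk' _
  obtain ⟨Γ, _, _, σ, lam, tri⟩ := exists_tri πs hj πk hν hinv
  obtain ⟨S', hS'⟩ := Sylow.mapSurjective_surjective tri.surj p (S.mapSurjective πs)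
  have hS : (S' : Subgroup Γ).map σ = (S : Subgroup G).map π := congrArg Sylow.toSubgroup hS'
  have hZ : σ.ker ≤ normalizer ((S' : Subgroup Γ) : Set Γ) :=
    tri.central.trans (center_le_normalizer _)
  obtain ⟨e1, he1⟩ := tri.equiv G (MonoidHom.id G) Function.injective_id j (fun _ => rfl) Γ
    (MonoidHom.id Γ) Function.injective_id σ.ker.subtype (fun _ => rfl)
    (fun y => iff_of_true ⟨y, rfl⟩ (πs _))
  obtain ⟨e2, he2⟩ := tri.equiv N i hi j' hj' (normalizer ((S' : Subgroup Γ) : Set Γ))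
    (Subgroup.subtype _) (subtype_injective _) (inclusion hZ) (fun _ => rfl) (fun y => by
      rw [range_subtype]
      constructor
      · intro hy
        obtain ⟨x, hx⟩ := πs (σ y)
        have h1 : π x ∈ normalizer (((S : Subgroup G).map π : Subgroup _) : Set _) := by
          rw [← hS, hx]
          exact le_normalizer_map σ (mem_map_of_mem σ hy)
        have h2 := le_normalizer_comap (H := (S : Subgroup G).map π) π h1
        rw [comap_map_eq, πk, sup_comm, ← rng] at h2
        obtain ⟨n, rfl⟩ := h2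
        exact ⟨n, hx⟩
      · rintro ⟨n, hn⟩
        have h1 := le_normalizer_map π (mem_map_of_mem π ((rng _).1 (mem_rng i n)))
        rw [Subgroup.map_sup, (Subgroup.map_eq_bot_iff _).2 πk.ge, bot_sup_eq, ← hS] at h1
        have h2 : y ∈ normalizer (((S' : Subgroup Γ) ⊔ σ.ker : Subgroup Γ) : Set Γ) := by
          rw [← comap_map_eq]
          refine le_normalizer_comap σ ?_
          rw [mem_comap, ← hn]
          exact h1
        obtain ⟨t, ht, h3⟩ := exists_mul_mem_normalizer S' (T := S' ⊔ σ.ker) le_sup_left (x := y)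
          fun s hs => by
            simpa using (mem_normalizer_iff.1 (inv_mem h2) s).1 (mem_sup_left hs)
        simpa using mul_mem h3 (inv_mem (sup_le le_normalizer hZ ht)))
  rw [card_not_dvd_of_equiv e1 hd he1, card_not_dvd_of_equiv e2 hd he2]
  let K1 := (K.map π).comap σ
  haveI : (K.map π).Normal := Normal.map inferInstance π πs
  have hK1 : K1 ≤ pPrimeCore p Γ ⊔ S' := by
    obtain ⟨P⟩ : Nonempty (Sylow p K1) := inferInstance
    have hP : ∀ t ∈ (P : Subgroup K1), (t : Γ) ∈ center Γ := fun t ht => by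
      refine tri.central (congrArg Subtype.val (eq_one_of_pgroup
        (P.isPGroup'.map (σ.comp K1.subtype)) (X := K.map π) ?_ (subtype_injective _)
        (x := ⟨σ t, t.2⟩) ⟨t, ht, rfl⟩))
      rwa [H3.card_map_mk'_eq_relIndex]
    have hP' : normalizer ((P : Subgroup K1) : Set K1) ≤ centralizer (P : Set K1) :=
      fun x _ => mem_centralizer_iff.2 fun t ht =>
        Subtype.ext (mem_center_iff.1 (hP t ht) x).symm
    intro y hy
    obtain ⟨⟨a, t⟩, e⟩ := (MonoidHom.ker_transferSylow_isComplement' P hP').2 ⟨y, hy⟩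
    rw [← show ((a : K1) : Γ) * (t : K1) = y from congrArg Subtype.val e]
    refine mul_mem (mem_sup_left (H1.map_subtype_pPrimeCore_le K1 (mem_map_of_mem _
      (H1.le_pPrimeCore_of_not_dvd (MonoidHom.not_dvd_card_ker_transferSylow P hP') a.2))))
      (mem_sup_right ?_)
    haveI : ((P : Subgroup K1).map K1.subtype).Normal := ⟨by
      rintro _ ⟨n, hn, rfl⟩ g
      rw [coe_subtype, mem_center_iff.1 (hP n hn) g, mul_inv_cancel_right]
      exact mem_map_of_mem K1.subtype hn⟩
    exact (P.isPGroup'.map K1.subtype).le_sylow_of_normal S' (mem_map_of_mem K1.subtype t.2)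
  have hMn : (pPrimeCore p Γ ⊔ S' : Subgroup Γ).Normal := by
    haveI : ((K ⊔ S : Subgroup G).map π).Normal := Normal.map inferInstance π πs
    have : (pPrimeCore p Γ ⊔ S' : Subgroup Γ) =
        pPrimeCore p Γ ⊔ ((K ⊔ S : Subgroup G).map π).comap σ := by
      refine le_antisymm (sup_le_sup_left ?_ _) (sup_le le_sup_left ?_)
      · rw [← map_le_iff_le_comap, hS]
        exact map_mono le_sup_right
      · intro y hy
        rw [mem_comap, Subgroup.map_sup, ← hS] at hy
        obtain ⟨k, hk, _, ⟨t, ht, rfl⟩, e⟩ := mem_sup_of_normal_left.1 hy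
        have : y * t⁻¹ ∈ K1 := by
          rw [mem_comap, map_mul, map_inv, ← e, mul_inv_cancel_right]
          exact hk
        simpa using mul_mem (hK1 this) (mem_sup_right ht)
    rw [this]
    infer_instance
  obtain ⟨s', hs'⟩ := exists_factor (i := (normalizer ((S' : Subgroup Γ) : Set Γ)).subtype.comp
    ((pPrimeCore p Γ ⊔ S' : Subgroup Γ).comap
      (normalizer ((S' : Subgroup Γ) : Set Γ)).subtype).subtype)
    ((subtype_injective _).comp (subtype_injective _)) (S' : Subgroup Γ).subtype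
    fun t => ⟨⟨⟨t, le_normalizer t.2⟩, mem_sup_right t.2⟩, rfl⟩
  have fd : FD S' (pPrimeCore p Γ) (pPrimeCore p Γ ⊔ S') (Subgroup.subtype _) s' :=
    ⟨inferInstance, hMn, H1.not_dvd_card_pPrimeCore, le_sup_left, le_sup_right, fun x hx => by
      obtain ⟨k, hk, t, ht, e⟩ := mem_sup_of_normal_left.1 hx
      exact ⟨k, hk, t, ht, e.symm⟩, subtype_injective _, fun x => by rw [range_subtype], hs'⟩
  refine fd.card_eq (fun w => tri.central w.2) (fun w => hK1 ?_) (fun _ => rfl) lam
  rw [mem_comap, coe_subtype, (MonoidHom.mem_ker.1 w.2)]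
  exact one_mem _

theorem final_real {j : L →* G} (hj : Function.Injective j) [j.range.Normal]
    (K : Subgroup G) [K.Normal] (hLK : j.range ≤ K) (hK : ¬ 2 ∣ j.range.relIndex K)
    {i : N →* G} (hi : Function.Injective i) (sup : ∀ x, ∃ k ∈ K, ∃ n, x = k * i n)
    {j' : L →* N} (hj' : ∀ l, i (j' l) = j l) {ν : L → ℂ} (hν : IsIrrCharacter L ν)
    (hr : IsReal ν) (hinv : ∀ x, InvBy j ν ν x) :
    Nat.card {χ : IrrCharacter G // ¬ 2 ∣ charDegree χ.1 ∧ IsReal χ.1 ∧ Ov j χ.1 ν} =
      Nat.card {χ : IrrCharacter N // ¬ 2 ∣ charDegree χ.1 ∧ IsReal χ.1 ∧ Ov j' χ.1 ν} := by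
  let a : L →* K := j.codRestrict K fun l => hLK (mem_rng j l)
  let a' : L →* K.comap i := j'.codRestrict _ fun l => by
    rw [mem_comap, hj']; exact hLK (mem_rng j l)
  have ha : Function.Injective a := fun x y h => hj (congrArg Subtype.val h)
  have haa : ∀ l, i.subgroupComap K (a' l) = a l := fun l => Subtype.ext (hj' l)
  have ha' : Function.Injective a' := fun x y h => ha (by rw [← haa, ← haa, h])
  obtain ⟨e1, _⟩ := normal_range_of_comp (j := j) K.subtype_injective (j' := a) fun _ => rfl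
  obtain ⟨e2, _⟩ := normal_range_of_comp (subgroupComap_inj hi K) haa
  have o1 : ¬ 2 ∣ a.range.index := by rw [e1]; exact hK
  have o2 : ¬ 2 ∣ a'.range.index := by
    rw [e2, index_comap]
    exact fun h => o1 (h.trans (relIndex_dvd_index_of_normal _ _))
  have i1 : ∀ x, InvBy a ν ν x := fun x =>
    (invBy_comp K.subtype_injective (g := j) (fun _ => rfl)).1 (hinv _)
  obtain ⟨θ, t1, t2, t3, t4⟩ := exists_real_ext ha (Nat.two_dvd_ne_zero.1 o1 |> Nat.odd_iff.2)
    hν hr i1
  obtain ⟨β, -, -, -, b4⟩ := exists_real_ext ha' (Nat.two_dvd_ne_zero.1 o2 |> Nat.odd_iff.2)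
    hν hr fun x => (invBy_comp (subgroupComap_inj hi K) (fun l => (haa l).symm)).1 (i1 _)
  haveI : K.subtype.range.Normal := by rwa [range_subtype]
  haveI : (K.comap i).subtype.range.Normal := by rw [range_subtype]; infer_instance
  have t5 : IsIrrCharacter _ fun z => θ (i.subgroupComap K z) :=
    Ext.irr_res haa (H6.irr_isCharacter t1) (by simp only [t3]; exact hν)
  have b5 := b4 _ t5 (fun _ => t2 _) (ov_of_eq hν fun l => by simp only [haa, t3])
  have t6 : ∀ x, InvBy K.subtype θ θ x := fun x => by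
    obtain ⟨θ', h1, h2⟩ := exists_invBy K.subtype_injective t1 x
    have h3 := h2.conj
    rw [real_iff.1 t2] at h3
    have h4 := invBy_res (a := a) (j := j) (fun _ => rfl) h2
    simp only [t3] at h4
    rwa [t4 θ' h1 (real_iff.2 (h3.unique K.subtype_injective h2))
      (ov_of_eq hν (congrFun (h4.unique hj (hinv x))))] at h2
  obtain ⟨r1, r2, r3⟩ := res_bij K.subtype_injective (i := i) (K.comap i).subtype_injective
    (d := i.subgroupComap K) (fun _ => rfl)
    (fun n hn => by rw [range_subtype] at hn ⊢; exact hn)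
    (fun x => by obtain ⟨k, hk, n, e⟩ := sup x; exact ⟨⟨k, hk⟩, n, e⟩) t1 t6 t5
  have ov1 : ∀ χ : {χ : IrrCharacter G // ¬ 2 ∣ charDegree χ.1 ∧ IsReal χ.1 ∧ Ov j χ.1 ν},
      Ov K.subtype χ.1.1 θ := fun ⟨χ, h1, h2, h3⟩ => by
    obtain ⟨μ, h4, h5, h6⟩ := h3.exists_mid (a := a) (b := K.subtype) (fun _ => rfl)
      (H6.irr_isClassFunction χ.2)
    rwa [t4 μ h4 (h5.isReal K.subtype_injective χ.2 h4 h2 h1) h6] at h5
  obtain ⟨e, -⟩ := exists_equiv_of_rel
    (fun (χ : {χ : IrrCharacter G // ¬ 2 ∣ charDegree χ.1 ∧ IsReal χ.1 ∧ Ov j χ.1 ν})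
      (ψ : {χ : IrrCharacter N // ¬ 2 ∣ charDegree χ.1 ∧ IsReal χ.1 ∧ Ov j' χ.1 ν}) =>
      ∀ n, χ.1.1 (i n) = ψ.1.1 n)
    (fun χ => ⟨⟨⟨_, r1 _ χ.1.2 (ov1 χ)⟩, by rw [deg_comp]; exact χ.2.1, fun _ => χ.2.2.1 _,
      (ov_congr fun l => by simp only [hj']).1 χ.2.2.2⟩, fun _ => rfl⟩)
    (fun ⟨ψ, h1, h2, h3⟩ => by
      obtain ⟨μ, h4, h5, h6⟩ := h3.exists_mid (a := a') (b := (K.comap i).subtype) (fun _ => rfl)
        (H6.irr_isClassFunction ψ.2)
      rw [b4 μ h4 (h5.isReal (subtype_injective _) ψ.2 h4 h2 h1) h6, ← b5] at h5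
      obtain ⟨χ, h7, h8, h9⟩ := r3 _ ψ.2 h5
      refine ⟨⟨⟨χ, h7⟩, ?_, real_iff.2 ?_, (ov_congr fun l => ?_).2 h3⟩, h9⟩
      · rwa [← funext h9, deg_comp] at h1
      · refine r2 _ _ (H6.isIrrCharacter_conj h7) ?_ h7 h8 fun n => ?_
        · have := ov_conj.2 h8
          rwa [real_iff.1 t2] at this
        · simp only [h9]
          exact congrFun (real_iff.1 h2) n
      · rw [← h9, hj'])
    (fun χ ψ ψ' h h' => Subtype.ext (Subtype.ext (funext fun n => (h n).symm.trans (h' n))))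
    (fun χ χ' ψ h h' => Subtype.ext (Subtype.ext
      (r2 _ _ χ.1.2 (ov1 χ) χ'.1.2 (ov1 χ') fun n => (h n).trans (h' n).symm)))
  exact Nat.card_congr e

end Final

/-- Number of (real, if `r`) irreducible characters of `p'`-degree over `ν`. -/
noncomputable def cnt (p : ℕ) (r : Prop) {L X : Type*} [Group L] [Group X] (j : L →* X)
    (ν : L → ℂ) : ℕ :=
  Nat.card {χ : IrrCharacter X // ¬ p ∣ charDegree χ.1 ∧ (r → IsReal χ.1) ∧ Ov j χ.1 ν}

theorem cnt_cliff {r : Prop} {L X T : Type*} [Group L] [Group X] [Group T] [Finite L] [Finite X]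
    [Finite T] {j : L →* X} (hj : Function.Injective j) [j.range.Normal] {ν : L → ℂ}
    (hν : IsIrrCharacter L ν) (hr : r → IsReal ν) {t : T →* X} (ht : Function.Injective t)
    {a : L →* T} (ha : ∀ l, t (a l) = j l) (hT : ∀ x, InvBy j ν ν x → x ∈ t.range)
    (hi : ¬ p ∣ t.range.index) : cnt p r a ν = cnt p r j ν := by
  obtain ⟨e, he⟩ := exists_cliff_equiv hj hν ht ha hT
  unfold cnt
  have e0 : ∀ A B C : Prop, A ∧ B ∧ C ↔ C ∧ A ∧ B := fun A B C => by tauto
  simp only [e0 _ _ (Ov _ _ _)]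
  rw [← Nat.card_congr (Equiv.subtypeSubtypeEquivSubtypeInter (fun χ : IrrCharacter T =>
      Ov a χ.1 ν) fun χ => ¬ p ∣ charDegree χ.1 ∧ (r → IsReal χ.1)),
    ← Nat.card_congr (Equiv.subtypeSubtypeEquivSubtypeInter (fun χ : IrrCharacter X =>
      Ov j χ.1 ν) fun χ => ¬ p ∣ charDegree χ.1 ∧ (r → IsReal χ.1))]
  refine Nat.card_congr (e.subtypeEquiv fun χ => and_congr ?_
    (forall_congr' fun h => (he χ).2.2 (hr h)))
  rw [(he χ).1, hp.out.dvd_mul]
  simp [hi]

theorem cnt_over {r : Prop} {L M X : Type*} [Group L] [Group M] [Group X] [Finite L] [Finite M]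
    [Finite X] {j : L →* X} {a : L →* M} {m : M →* X} (ha : ∀ l, m (a l) = j l) {ν : L → ℂ}
    (hν : IsIrrCharacter L ν) {η : M → ℂ} (hη : IsIrrCharacter M η) (ho : Ov a η ν) :
    Nat.card {χ : IrrCharacter X //
      (¬ p ∣ charDegree χ.1 ∧ (r → IsReal χ.1) ∧ Ov j χ.1 ν) ∧ Ov m χ.1 η} = cnt p r m η :=
  Nat.card_congr (Equiv.subtypeEquivRight fun χ => ⟨fun h => ⟨h.1.1, h.1.2.1, h.2⟩,
    fun h => ⟨⟨h.1, h.2.1, h.2.2.trans ha ho (H6.irr_isCharacter χ.2) hη (H6.irr_isCharacter hν)⟩,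
      h.2.2⟩⟩)

theorem exists_mid_inv {r : Prop} (hr : r → p = 2) {L M X : Type*} [Group L] [Group M] [Group X]
    [Finite L] [Finite M] [Finite X] {j : L →* X} (hj : Function.Injective j) [j.range.Normal]
    {a : L →* M} {m : M →* X} (hm : Function.Injective m) [m.range.Normal]
    (ha : ∀ l, m (a l) = j l) {ν : L → ℂ} (hν : IsIrrCharacter L ν) (hinv : ∀ x, InvBy j ν ν x)
    (S : Sylow p X) {χ : X → ℂ} (hχ : IsIrrCharacter X χ)
    (h : ¬ p ∣ charDegree χ ∧ (r → IsReal χ) ∧ Ov j χ ν) :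
    ∃ μ, IsIrrCharacter M μ ∧ Ov m χ μ ∧ Ov a μ ν ∧ (∀ s ∈ (S : Subgroup X), InvBy m μ μ s) ∧
      (r → IsReal μ) := by
  obtain ⟨μ, h1, h2, h3⟩ := exists_sylow_inv hm S hχ h.1
  obtain ⟨ν', h4, h5⟩ := exists_under_hom a h1
  obtain ⟨e, -, -, h6⟩ := h.2.2.res_eq hj hχ hν hinv
  rw [Ov.eq_of_eq_mul hν h4 h6 (h2.trans ha h5 (H6.irr_isCharacter hχ) h1
    (H6.irr_isCharacter h4))] at h5
  exact ⟨μ, h1, h2, h5, h3, fun h7 => h2.isReal hm hχ h1 (h.2.1 h7) (hr h7 ▸ h.1)⟩

theorem mck_aux {r : Prop} (hr : r → p = 2) (n : ℕ) : ∀ {G N L : Type u} [Group G] [Finite G]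
    [Group N] [Finite N] [Group L] [Finite L], H3.IsPiSeparable {p} G → ∀ (S : Sylow p G)
    {j : L →* G}, Function.Injective j → ∀ [j.range.Normal], j.range.index = n → ∀ {i : N →* G},
    Function.Injective i →
    (∀ x, x ∈ i.range ↔ x ∈ normalizer ((j.range ⊔ S : Subgroup G) : Set G)) →
    ∀ {j' : L →* N}, (∀ l, i (j' l) = j l) → ∀ {ν : L → ℂ}, IsIrrCharacter L ν →
    (∀ s ∈ (S : Subgroup G), InvBy j ν ν s) → (r → IsReal ν) → cnt p r j ν = cnt p r j' ν := by
  induction n using Nat.strong_induction_on with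
  | _ n ih =>
  intro G N L _ _ _ _ _ _ hG S j hj _ hn i hi rng j' hj' ν hν hS hνr
  haveI := (normal_range_of_comp hi hj').2
  have hj'i : Function.Injective j' := fun a b h => hj (by rw [← hj', ← hj', h])
  have hSi : (S : Subgroup G) ≤ i.range := fun s hs => (rng s).2 (le_normalizer (mem_sup_right hs))
  have descent : ∀ T : Subgroup G, (S : Subgroup G) ≤ T → T ≠ ⊤ →
      (∀ y, InvBy j' ν ν y → i y ∈ T) → ∀ a : L →* T, (∀ l, (a l : G) = j l) →
      cnt p r a ν = cnt p r j' ν := by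
    intro T hST hT h1 a ha
    obtain ⟨e1, _⟩ := normal_range_of_comp (j := j) T.subtype_injective (j' := a) ha
    have hLT : j.range ≤ T := by rintro _ ⟨l, rfl⟩; rw [← ha]; exact (a l).2
    let a' : L →* T.comap i := j'.codRestrict _ fun l => by
      rw [mem_comap, hj']; exact hLT (mem_rng j l)
    rw [ih _ ?_ (hG.subgroup T) (S.subtype hST) (j := a) (fun x y h => hj (by rw [← ha, ← ha, h]))
      rfl (subgroupComap_inj hi T) (j' := a') ?_ (fun l => Subtype.ext ((hj' l).trans (ha l).symm))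
      hν (fun s hs => (invBy_comp T.subtype_injective (g := j) fun l => (ha l).symm).1 (hS _ hs))
      hνr]
    · refine cnt_cliff hj'i hν hνr (subtype_injective _) (fun _ => rfl)
        (fun y hy => by rw [range_subtype]; exact h1 y hy) ?_
      rw [range_subtype]
      exact not_dvd_index_of_sylow_le (S.comapOfInjective i hi hSi) (comap_mono hST)
    · rw [← hn, ← relIndex_mul_index hLT, e1]
      exact lt_mul_of_one_lt_right (Nat.pos_of_ne_zero index_ne_zero_of_finite)
        (one_lt_index_of_ne_top hT)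
    · intro x
      rw [e1, Sylow.coe_subtype, comap_subtype, ← subgroupOf_sup hLT hST,
        ← subgroupOf_normalizer_eq (sup_le hLT hST), mem_subgroupOf, ← rng]
      exact ⟨fun ⟨y, hy⟩ => ⟨y, congrArg Subtype.val hy⟩, fun ⟨y, hy⟩ =>
        ⟨⟨y, by rw [mem_comap, hy]; exact x.2⟩, Subtype.ext hy⟩⟩
  have hST : (S : Subgroup G) ≤ inJ hj ν := fun s hs => (mem_inJ hj).2 (hS s hs)
  by_cases hT : inJ hj ν = ⊤
  swap
  · let a : L →* inJ hj ν := j.codRestrict _ fun l => range_le_inJ hj hν (mem_rng j l)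
    rw [← descent _ hST hT (fun y hy => (mem_inJ hj).2
      ((invBy_comp hi fun l => (hj' l).symm).2 hy)) a fun _ => rfl]
    exact (cnt_cliff hj hν hνr (subtype_injective _) (fun _ => rfl)
      (fun y hy => by rw [range_subtype]; exact (mem_inJ hj).2 hy)
      (by rw [range_subtype]; exact not_dvd_index_of_sylow_le S hST)).symm
  have hinv : ∀ x, InvBy j ν ν x := fun x => (mem_inJ hj).1 (hT ▸ mem_top x)
  by_cases hN : (j.range ⊔ S : Subgroup G).Normal
  · have e : i.range = ⊤ := top_unique fun x _ => (rng x).2 (by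
      rw [normalizer_eq_top]; exact mem_top x)
    exact (cnt_cliff hj hν hνr hi hj' (fun x _ => e ▸ mem_top x)
      (by rw [e, index_top]; exact hp.out.one_lt.ne' ∘ Nat.dvd_one.1)).symm
  obtain ⟨M, _, hLM, hM⟩ := hG j.range inferInstance fun h => hN (by
    rw [h, top_sup_eq]; infer_instance)
  by_cases hH : (M ⊔ S : Subgroup G).Normal
  · rcases hM with hM | hM
    · refine absurd (?_ : (j.range ⊔ S : Subgroup G).Normal) hN
      obtain ⟨k, hk⟩ := (H3.piNum_singleton_iff hp.out index_ne_zero_of_finite).1 hM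
      have h1 : M ≤ j.range ⊔ S := by
        haveI : (M.map (QuotientGroup.mk' j.range)).Normal :=
          Normal.map inferInstance _ (QuotientGroup.mk'_surjective _)
        have h2 := (IsPGroup.of_card ((H3.card_map_mk'_eq_relIndex _ M).trans hk)).le_sylow_of_normal
          (S.mapSurjective (QuotientGroup.mk'_surjective j.range))
        rwa [Sylow.coe_mapSurjective, map_le_iff_le_comap, comap_map_eq, QuotientGroup.ker_mk',
          sup_comm] at h2
      rwa [le_antisymm (sup_le_sup_right hLM.le _) (sup_le h1 le_sup_right)]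
    · have hM' : ¬ p ∣ j.range.relIndex M := (Nat.Prime.coprime_iff_not_dvd hp.out).1
        ((H3.piNum_compl_singleton_iff hp.out).1 hM).symm
      unfold cnt
      by_cases hr' : r
      · obtain rfl := hr hr'
        simp only [hr', true_imp_iff]
        refine final_real hj M hLM.le hM' hi (fun x => ?_) hj' hν (hνr hr') hinv
        obtain ⟨n, hn, y, hy, e⟩ := frattini_mul S (M := M ⊔ S) le_sup_right x
        obtain ⟨k, hk, t, ht, rfl⟩ := mem_sup_of_normal_left.1 hy
        obtain ⟨n', hn'⟩ := (rng (n * t)).2 (normalizer_inf_normalizer_le_normalizer_sup _ _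
          ⟨by rw [normalizer_eq_top]; exact mem_top _, mul_mem hn (le_normalizer ht)⟩)
        exact ⟨_, (inferInstance : M.Normal).conj_mem _ hk n, n', by rw [hn', e]; group⟩
      · simp only [hr', false_imp_iff, true_and]
        exact final_plain hj S M hM' hi rng hj' hν hinv
  let H := normalizer ((M ⊔ S : Subgroup G) : Set G)
  have hMH : M ≤ H := le_sup_left.trans le_normalizer
  have hSH : (S : Subgroup G) ≤ H := le_sup_right.trans le_normalizer
  have hNH : normalizer ((S : Subgroup G) : Set G) ≤ H := fun x hx =>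
    normalizer_inf_normalizer_le_normalizer_sup _ _
      ⟨by rw [normalizer_eq_top]; exact mem_top _, hx⟩
  let a : L →* M := j.codRestrict M fun l => hLM.le (mem_rng j l)
  rw [← descent H hSH (fun h => hH (normalizer_eq_top_iff.1 h)) (fun y _ => ?_)
    ((inclusion hMH).comp a) fun _ => rfl]
  swap
  · have := normalizer_inf_normalizer_le_normalizer_sup M (j.range ⊔ S)
      (show i y ∈ _ from ⟨by rw [normalizer_eq_top]; exact mem_top _, (rng _).1 (mem_rng i y)⟩)
    rwa [← sup_assoc, sup_of_le_left hLM.le] at this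
  haveI : M.subtype.range.Normal := by rwa [range_subtype]
  haveI : (inclusion hMH).range.Normal := by rw [inclusion_range]; infer_instance
  obtain ⟨-, _⟩ := normal_range_of_comp (j := j) H.subtype_injective
    (j' := (inclusion hMH).comp a) fun _ => rfl
  have hc : ∀ {μ μ' : M → ℂ} {y : H}, InvBy M.subtype μ μ' y ↔ InvBy (inclusion hMH) μ μ' y :=
    invBy_comp H.subtype_injective fun _ => rfl
  refine card_eq_of_mid M.subtype_injective (inclusion_injective hMH)
    (fun μ μ' => μ = μ' ∧ Ov a μ ν ∧ (∀ s ∈ (S : Subgroup G), InvBy M.subtype μ μ s) ∧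
      (r → IsReal μ))
    (fun χ => ¬ p ∣ charDegree χ ∧ (r → IsReal χ) ∧ Ov j χ ν)
    (fun χ => ¬ p ∣ charDegree χ ∧ (r → IsReal χ) ∧ Ov ((inclusion hMH).comp a) χ ν) ?_ ?_ ?_ ?_
  · intro χ hχ h
    obtain ⟨μ, h1, h2, h3⟩ := exists_mid_inv hr hj (a := a) M.subtype_injective (fun _ => rfl) hν
      hinv S hχ h
    exact ⟨μ, μ, h1, h1, ⟨rfl, h3⟩, h2⟩
  · intro χ hχ h
    obtain ⟨μ, h1, h2, h3, h4, h5⟩ := exists_mid_inv hr (j := (inclusion hMH).comp a)
      (fun x y h => hj (congrArg Subtype.val h)) (a := a) (inclusion_injective hMH) (fun _ => rfl)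
      hν (fun x => (invBy_comp H.subtype_injective (g := j) fun _ => rfl).1 (hinv _))
      (S.subtype hSH) hχ h
    exact ⟨μ, μ, h1, h1, ⟨rfl, h3, fun s hs => hc.2 (h4 ⟨s, hSH hs⟩ hs), h5⟩, h2⟩
  · rintro μ₁ _ μ₂ _ h1 - h2 - ⟨rfl, -, h3, -⟩ ⟨rfl, -, h4, -⟩
    refine ⟨fun ⟨x, hx⟩ => ?_, fun ⟨y, hy⟩ => ⟨y, hc.2 hy⟩⟩
    obtain ⟨t, ht, h5⟩ := exists_mul_mem_normalizer S (T := inJ M.subtype_injective μ₂)
      (fun s hs => (mem_inJ _).2 (h4 s hs)) (x := x) fun s hs =>
        (mem_inJ _).2 ((hx.symm.trans (h3 s hs)).trans hx)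
    exact ⟨⟨_, hNH h5⟩, hc.1 (hx.trans ((mem_inJ _).1 ht))⟩
  · rintro μ _ h1 - ⟨rfl, h2, h3, h4⟩
    rw [cnt_over (fun _ => rfl) hν h1 h2, cnt_over (fun _ => rfl) hν h1 h2]
    refine ih _ ?_ hG S M.subtype_injective rfl H.subtype_injective
      (fun x => by rw [range_subtype, range_subtype]) (fun _ => rfl) h1 h3 h4
    rw [range_subtype, ← hn, ← relIndex_mul_index hLM.le]
    refine lt_mul_of_one_lt_left (Nat.pos_of_ne_zero index_ne_zero_of_finite) ?_
    exact one_lt_index_of_ne_top fun h => hLM.not_ge (subgroupOf_eq_top.1 h)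

/-- Relative McKay count for `p`-solvable groups, plain (`r = False`) or real (`p = 2`). -/
theorem mckay {r : Prop} (hr : r → p = 2) {G N L : Type u} [Group G] [Finite G]
    [Group N] [Finite N] [Group L] [Finite L] (hG : H3.IsPiSeparable {p} G) (S : Sylow p G)
    {j : L →* G} (hj : Function.Injective j) [j.range.Normal] {i : N →* G}
    (hi : Function.Injective i)
    (rng : ∀ x, x ∈ i.range ↔ x ∈ normalizer ((j.range ⊔ S : Subgroup G) : Set G))
    {j' : L →* N} (hj' : ∀ l, i (j' l) = j l) {ν : L → ℂ} (hν : IsIrrCharacter L ν)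
    (hS : ∀ s ∈ (S : Subgroup G), InvBy j ν ν s) (hνr : r → IsReal ν) :
    cnt p r j ν = cnt p r j' ν :=
  mck_aux hr _ hG S hj rfl hi rng hj' hν hS hνr

end H85
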