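import Mathlib
import Cfsg.Prelude.Def_DegreeGraph
import Cfsg.Agent.Lib.H85.Typ
import Cfsg.Agent.Lib.Core.Permutable

/-! The common divisor graph on the relative degree set `cd(G|N)` (Isaacs). -/

set_option autoImplicit false
set_option linter.unusedSectionVars false
set_option linter.style.haveILetI false

namespace H85

open Cfsg H87 H7 Subgroup
open scoped ComplexConjugate commutatorElement

universe u v w

variable {G : Type*} [Group G] [Finite G] {N : Subgroup G} [hN : N.Normal]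

/-- A linear character as a function. -/
def cf {X : Type*} [Group X] (lam : X →* ℂˣ) : X → ℂ := fun n => lam n

/-- Conjugate of a linear character. -/
def cj (g : G) (lam : N →* ℂˣ) : N →* ℂˣ := lam.comp (MulAut.conjNormal g).toMonoidHom

theorem cf_cj (g : G) (lam : N →* ℂˣ) : cf (cj g lam) = conjChar g (cf lam) := rfl

theorem cf_irr {X : Type*} [Group X] (lam : X →* ℂˣ) : IsIrrCharacter X (cf lam) :=
  H6.isIrrCharacter_hom lam

theorem cf_inj {X : Type*} [Group X] {a b : X →* ℂˣ} (h : cf a = cf b) : a = b :=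
  H6.hom_coe_injective h

theorem cf_mul {X : Type*} [Group X] (a b : X →* ℂˣ) : cf (a * b) = cf a * cf b :=
  funext fun _ => Units.val_mul _ _

theorem mul_cf_irr {X : Type*} [Group X] [Finite X] {θ : X → ℂ} (h : IsIrrCharacter X θ)
    (lam : X →* ℂˣ) : IsIrrCharacter X (θ * cf lam) := H6.isIrrCharacter_mul_hom h lam

theorem mul_cf_cancel {X : Type*} [Group X] (θ : X → ℂ) (lam : X →* ℂˣ) :
    θ * cf lam * cf lam⁻¹ = θ := by
  funext n
  simp [cf]

theorem mul_cf_cancel' {X : Type*} [Group X] (θ : X → ℂ) (lam : X →* ℂˣ) :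
    θ * cf lam⁻¹ * cf lam = θ := by
  funext n
  simp [cf]

theorem ord_dvd {X : Type*} [Group X] {lam : X →* ℂˣ} {n : ℕ} : orderOf lam ∣ n ↔ lam ^ n = 1 :=
  (H31.orderOf_hom_dvd_iff _ _).trans
    ⟨fun h => MonoidHom.ext h, fun h g => DFunLike.congr_fun h g⟩

theorem ord_eq_one {X : Type*} [Group X] {lam : X →* ℂˣ} : orderOf lam = 1 ↔ lam = 1 :=
  orderOf_eq_one_iff

theorem hom_mul_pow {X : Type*} [Group X] (a b : X →* ℂˣ) (n : ℕ) : (a * b) ^ n = a ^ n * b ^ n :=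
  MonoidHom.ext fun _ => mul_pow _ _ _

theorem conj_cf {X : Type*} [Group X] [Finite X] (lam : X →* ℂˣ) :
    (fun n => conj (cf lam n)) = cf lam⁻¹ := by
  funext n
  simp only [cf, MonoidHom.inv_apply, Units.val_inv_eq_inv_val]
  exact (Complex.inv_eq_conj (norm_hom_one lam n)).symm

theorem mem_inertia_cf {lam : N →* ℂˣ} {g : G} : g ∈ inertia (cf lam) ↔ cj g lam = lam :=
  ⟨fun h => cf_inj h, fun h => congrArg cf h⟩

theorem cj_pow (g : G) (lam : N →* ℂˣ) (k : ℕ) : cj g (lam ^ k) = cj g lam ^ k := rfl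

theorem exists_cf_of_deg {X : Type*} [Group X] {θ : X → ℂ} (h : IsIrrCharacter X θ)
    (h1 : charDegree θ = 1) : ∃ lam : X →* ℂˣ, θ = cf lam :=
  H6.exists_hom_of_char_one_eq_one (H6.irr_isCharacter h)
    ((deg_eq_one_iff (H6.irr_isCharacter h)).1 h1)

theorem key_prop {χ ψ : G → ℂ} {θ : N → ℂ} (hχ : IsIrrCharacter G χ) (hψ : IsIrrCharacter G ψ)
    (hθ : IsIrrCharacter N θ) (lam : N →* ℂˣ) (h1 : Over N χ θ) (h2 : Over N ψ (θ * cf lam))
    (c1 : (inertia θ).index.Coprime (inertia (cf lam)).index)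
    (c2 : (inertia (θ * cf lam)).index.Coprime (inertia (cf lam)).index) (n : N) :
    ψ 1 * (χ n * lam n) = χ 1 * ψ n := by
  letI := Fintype.ofFinite N
  have k1 : ∀ {A B : Subgroup G}, A.index.Coprime B.index → ∀ g, ∃ a ∈ A, ∃ b ∈ B, g = a * b :=
    fun h g => H1.exists_mul_eq_of_coprime_relIndex le_top le_top
      (by rwa [relIndex_top_right, relIndex_top_right]) (mem_top g)
  have hθ' := mul_cf_irr hθ lam
  set e := classInner (fun n : N => χ n) θ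
  set e' := classInner (fun n : N => ψ n) (θ * cf lam)
  have key : e' • ((fun n : N => χ n) * cf lam) = e • fun n : N => ψ n := by
    refine H6.classFun_ext (H6.isClassFunction_smul _ (H6.isClassFunction_mul
      (H6.isClassFunction_restrict N (H6.irr_isClassFunction hχ))
      (H6.irr_isClassFunction (cf_irr lam)))) (H6.isClassFunction_smul _
      (H6.isClassFunction_restrict N (H6.irr_isClassFunction hψ))) fun η hη => ?_
    rw [H6.classInner_smul_left, H6.classInner_smul_left, H6.classInner_mul_left, conj_cf]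
    have main : ∀ s ∈ inertia (cf lam), η = conjChar s (θ * cf lam) →
        e' * classInner (fun n : N => χ n) (η * cf lam⁻¹) = e * classInner (fun n : N => ψ n) η := by
      rintro s hs rfl
      rw [classInner_res_conjChar s (H6.irr_isClassFunction hψ), conjChar_mul_fun,
        mem_inertia.1 hs, mul_cf_cancel, classInner_res_conjChar s (H6.irr_isClassFunction hχ),
        mul_comm]
    by_cases a1 : Over N χ (η * cf lam⁻¹)
    · obtain ⟨y, hy⟩ := h1.exists_conj a1 hχ hθ (mul_cf_irr hη _)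
      obtain ⟨t, ht, s, hs, rfl⟩ := k1 c1 y
      refine main s hs ?_
      rw [conjChar_mul, mem_inertia.1 ht] at hy
      rw [conjChar_mul_fun, mem_inertia.1 hs, ← hy]
      exact (mul_cf_cancel' η lam).symm
    by_cases a2 : Over N ψ η
    · obtain ⟨y, hy⟩ := h2.exists_conj a2 hψ hθ' hη
      obtain ⟨t, ht, s, hs, rfl⟩ := k1 c2 y
      rw [conjChar_mul, mem_inertia.1 ht] at hy
      exact main s hs hy
    · rw [not_not.1 (over_iff.not.1 a1), not_not.1 (over_iff.not.1 a2), mul_zero, mul_zero]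
  have k2 := congrFun key n
  have k3 := congrFun key 1
  simp only [Pi.smul_apply, Pi.mul_apply, smul_eq_mul, cf, map_one, Units.val_one, mul_one,
    coe_one] at k2 k3
  refine mul_left_cancel₀ (over_iff.1 h2) ?_
  show e' * _ = e' * _
  linear_combination ψ 1 * k2 - ψ n * k3

theorem det_res_eq_one (hNG : N ≤ commutator G) {χ : G → ℂ} (hχ : IsCharacter G χ) (n : N) :
    H31.detHom (fun n : N => χ n) n = 1 := by
  rw [H31.detHom_res N hχ]
  exact H31.hom_eq_one_of_mem_commutator _ (hNG n.2)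

theorem det_res_mul (hNG : N ≤ commutator G) {χ : G → ℂ} (hχ : IsCharacter G χ) (lam : N →* ℂˣ)
    (n : N) : H31.detHom (fun n : N => (lam n : ℂ) * χ n) n = lam n ^ charDegree χ := by
  rw [H31.detHom_hom_mul (χ := fun n : N => χ n) (H6.isCharacter_comp N.subtype hχ)
    (deg_cast hχ).symm, det_res_eq_one hNG hχ, mul_one]

theorem key_pow (hNG : N ≤ commutator G) {χ ψ : G → ℂ} {θ : N → ℂ} (hχ : IsIrrCharacter G χ)
    (hψ : IsIrrCharacter G ψ) (hθ : IsIrrCharacter N θ) (lam : N →* ℂˣ) (h1 : Over N χ θ)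
    (h2 : Over N ψ (θ * cf lam)) (c1 : (inertia θ).index.Coprime (inertia (cf lam)).index)
    (c2 : (inertia (θ * cf lam)).index.Coprime (inertia (cf lam)).index) :
    lam ^ (charDegree χ * charDegree ψ) = 1 := by
  have e : (charDegree ψ : ℂ) • (fun n : N => (lam n : ℂ) * χ n) =
      (charDegree χ : ℂ) • fun n : N => ψ n := funext fun n => by
    have := key_prop hχ hψ hθ lam h1 h2 c1 c2 n
    simp only [Pi.smul_apply, smul_eq_mul, irr_deg_cast hχ, irr_deg_cast hψ]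
    linear_combination this
  refine MonoidHom.ext fun n => ?_
  have := congrArg (fun f => H31.detHom f n) e
  erw [H31.detHom_nsmul (H6.isCharacter_mul (H6.irr_isCharacter (cf_irr lam))
      (H6.isCharacter_comp N.subtype (H6.irr_isCharacter hχ))),
    H31.detHom_nsmul (H6.isCharacter_comp N.subtype (H6.irr_isCharacter hψ))] at this
  erw [det_res_mul hNG (H6.irr_isCharacter hχ), det_res_eq_one hNG (H6.irr_isCharacter hψ)] at this
  rw [MonoidHom.pow_apply, pow_mul, this, one_pow, MonoidHom.one_apply]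

theorem key_conj {χ ψ : G → ℂ} {θ : N → ℂ} (hχ : IsIrrCharacter G χ) (hψ : IsIrrCharacter G ψ)
    (hθ : IsIrrCharacter N θ) (lam : N →* ℂˣ) (h1 : Over N χ θ) (h2 : Over N ψ (θ * cf lam))
    (c1 : (inertia θ).index.Coprime (inertia (cf lam)).index)
    (c2 : (inertia (θ * cf lam)).index.Coprime (inertia (cf lam)).index) (g : G) :
    (fun n : N => ((cj g lam * lam⁻¹) n : ℂ) * χ n) = fun n : N => χ n := by
  funext n
  have e1 := key_prop hχ hψ hθ lam h1 h2 c1 c2 n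
  have e2 := key_prop hχ hψ hθ lam h1 h2 c1 c2 (MulAut.conjNormal g n)
  rw [MulAut.conjNormal_apply, H6.irr_isClassFunction hχ, H6.irr_isClassFunction hψ, ← e1] at e2
  have e3 := mul_left_cancel₀ (H6.irr_one_ne_zero hψ) e2
  simp only [MonoidHom.mul_apply, MonoidHom.inv_apply, Units.val_mul, Units.val_inv_eq_inv_val]
  have : (lam n : ℂ) ≠ 0 := Units.ne_zero _
  field_simp
  exact (mul_comm _ _).trans (e3.trans (mul_comm _ _))

theorem pow_deg_of_fix (hNG : N ≤ commutator G) {χ : G → ℂ} (hχ : IsCharacter G χ)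
    {ν : N →* ℂˣ} (h : (fun n : N => (ν n : ℂ) * χ n) = fun n : N => χ n) :
    ν ^ charDegree χ = 1 := MonoidHom.ext fun n => by
  rw [MonoidHom.pow_apply, ← det_res_mul hNG hχ, h, det_res_eq_one hNG hχ, MonoidHom.one_apply]

theorem pow_deg_of_inv (hNG : N ≤ commutator G) {χ : G → ℂ} (hχ : IsIrrCharacter G χ)
    {lam : N →* ℂˣ} (h : Over N χ (cf lam)) (hi : inertia (cf lam) = ⊤) :
    lam ^ charDegree χ = 1 := by
  have := key_pow hNG (χ := fun _ => 1) (θ := fun _ => 1) H6.isIrrCharacter_one hχ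
    H6.isIrrCharacter_one lam
    (over_of_eq H6.isIrrCharacter_one fun _ => rfl) (by
      rwa [show (fun _ => (1 : ℂ)) * cf lam = cf lam from one_mul _])
    (by rw [hi, index_top]; exact Nat.coprime_one_right _)
    (by rw [hi, index_top]; exact Nat.coprime_one_right _)
  rwa [deg_one, one_mul] at this

/-- `d` is the degree of an irreducible character over `θ`. -/
def Dg (θ : N → ℂ) (d : ℕ) : Prop := ∃ χ, IsIrrCharacter G χ ∧ Over N χ θ ∧ charDegree χ = d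

theorem exists_dg {θ : N → ℂ} (h : IsIrrCharacter N θ) : ∃ d, Dg θ d := by
  obtain ⟨χ, h1, h2⟩ := exists_over h
  exact ⟨_, χ, h1, h2, rfl⟩

theorem Dg.mem {θ : N → ℂ} {d : ℕ} (h : Dg θ d) (hθ : IsIrrCharacter N θ) (h1 : θ ≠ fun _ => 1) :
    d ∈ relCharDegrees N := by
  obtain ⟨χ, a1, a2, a3⟩ := h
  refine ⟨⟨χ, a1⟩, ?_, a3⟩
  by_contra! h
  exact h1 (irr_eq_one_of_forall hθ fun n =>
    a2.apply_eq_of_mem_ker (H6.irr_isCharacter a1) hθ (h n n.2))

theorem exists_dg_of_mem {d : ℕ} (h : d ∈ relCharDegrees N) :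
    ∃ θ : N → ℂ, IsIrrCharacter N θ ∧ (θ ≠ fun _ => 1) ∧ Dg θ d := by
  obtain ⟨χ, ⟨x, hx, h1⟩, h2⟩ := h
  obtain ⟨θ, h3, h4⟩ := exists_under χ.2 N
  refine ⟨θ, h3, ?_, χ.1, χ.2, h4, h2⟩
  rintro rfl
  exact h1 ((H6.mem_charKer (H6.irr_isCharacter χ.2)).1
    (h4.le_charKer χ.2 (H6.irr_isCharacter h3) N le_rfl (fun _ _ => rfl) hx))

theorem Dg.index_dvd {θ : N → ℂ} {d : ℕ} (h : Dg θ d) (hθ : IsIrrCharacter N θ) :
    (inertia θ).index ∣ d ∧ charDegree θ ∣ d := by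
  obtain ⟨χ, a1, a2, rfl⟩ := h
  have := a2.index_inertia_mul_dvd a1 hθ
  exact ⟨(dvd_mul_right _ _).trans this, (dvd_mul_left _ _).trans this⟩

theorem Dg.inv {θ : N → ℂ} {lam : N →* ℂˣ} {d : ℕ} (h : Dg θ d) (e : θ * cf lam = fun _ => 1) :
    Dg (cf lam) d := by
  obtain ⟨χ, a1, a2, rfl⟩ := h
  have e1 : θ = cf lam⁻¹ := by rw [← mul_cf_cancel θ lam, e]; exact one_mul _
  refine ⟨_, H6.isIrrCharacter_conj a1, ?_, deg_conj (H6.irr_isCharacter a1)⟩
  have := (ov_conj (j := N.subtype)).2 a2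
  rwa [e1, conj_cf, show lam⁻¹⁻¹ = lam from inv_inv lam] at this

theorem one_lt_of_mem (hNG : N ≤ commutator G) {d : ℕ} (h : d ∈ relCharDegrees N) : 1 < d := by
  obtain ⟨χ, ⟨x, hx, h1⟩, rfl⟩ := h
  refine lt_of_le_of_ne (deg_pos χ.2) fun h2 => h1 ?_
  exact (H6.mem_charKer (H6.irr_isCharacter χ.2)).1
    (commutator_le_charKer_of_deg_one (H6.irr_isCharacter χ.2) h2.symm (hNG hx))

theorem not_coprime_of_dvd {a b w : ℕ} (hw : w ≠ 1) (h1 : w ∣ a) (h2 : w ∣ b) : ¬ a.Coprime b :=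
  fun h => hw (Nat.eq_one_of_dvd_coprimes h h1 h2)

theorem Dg.near (hNG : N ≤ commutator G) {θ : N → ℂ} (hθ : IsIrrCharacter N θ)
    (h1 : θ ≠ fun _ => 1) {d d' : ℕ} (h : Dg θ d) (h' : Dg θ d') : ¬ d.Coprime d' := by
  by_cases a1 : charDegree θ = 1
  · by_cases a2 : (inertia θ).index = 1
    · obtain ⟨lam, rfl⟩ := exists_cf_of_deg hθ a1
      obtain ⟨χ, b1, b2, rfl⟩ := h
      obtain ⟨χ', b3, b4, rfl⟩ := h'
      refine not_coprime_of_dvd (w := orderOf lam) (fun e => h1 ?_)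
        (ord_dvd.2 (pow_deg_of_inv hNG b1 b2 (index_eq_one.1 a2)))
        (ord_dvd.2 (pow_deg_of_inv hNG b3 b4 (index_eq_one.1 a2)))
      rw [ord_eq_one.1 e]
      rfl
    · exact not_coprime_of_dvd a2 (h.index_dvd hθ).1 (h'.index_dvd hθ).1
  · exact not_coprime_of_dvd a1 (h.index_dvd hθ).2 (h'.index_dvd hθ).2

variable (N) in
/-- Reachability in the relative common divisor graph. -/
def Rch (a b : ℕ) : Prop := ∃ (ha : a ∈ relCharDegrees N) (hb : b ∈ relCharDegrees N),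
  (commonDivisorGraph.induce (relCharDegrees N)).Reachable ⟨a, ha⟩ ⟨b, hb⟩

theorem adj_of_near {a b : relCharDegrees N} (hNG : N ≤ commutator G) (hne : a ≠ b)
    (h : ¬ a.1.Coprime b.1) : (commonDivisorGraph.induce (relCharDegrees N)).Adj a b :=
  ⟨fun e => hne (Subtype.ext e), lt_of_le_of_ne
    (Nat.gcd_pos_of_pos_left _ (one_pos.trans (one_lt_of_mem hNG a.2))) (Ne.symm h)⟩

theorem rch_of_near (hNG : N ≤ commutator G) {a b : ℕ} (ha : a ∈ relCharDegrees N)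
    (hb : b ∈ relCharDegrees N) (h : ¬ a.Coprime b) : Rch N a b := by
  refine ⟨ha, hb, ?_⟩
  by_cases e : (⟨a, ha⟩ : relCharDegrees N) = ⟨b, hb⟩
  · rw [e]
  · exact (adj_of_near hNG e h).reachable

theorem Rch.symm {a b : ℕ} (h : Rch N a b) : Rch N b a := ⟨h.2.1, h.1, h.2.2.symm⟩

theorem Rch.trans {a b c : ℕ} (h : Rch N a b) (h' : Rch N b c) : Rch N a c :=
  ⟨h.1, h'.2.1, h.2.2.trans h'.2.2⟩

theorem Rch.mono {M : Subgroup G} (hM : M ≤ N) {a b : ℕ} (h : Rch M a b) : Rch N a b := by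
  have hs : relCharDegrees M ⊆ relCharDegrees N := fun d ⟨χ, ⟨x, hx, h1⟩, h2⟩ =>
    ⟨χ, ⟨x, hM hx, h1⟩, h2⟩
  obtain ⟨ha, hb, h⟩ := h
  exact ⟨hs ha, hs hb, h.map (SimpleGraph.induceHomOfLE _ hs).toHom⟩

theorem cf_ne_one {X : Type*} [Group X] {lam : X →* ℂˣ} (h : lam ≠ 1) : cf lam ≠ fun _ => 1 :=
  fun e => h (cf_inj e)

theorem exists_prime_pow {X : Type*} [Group X] [Finite X] {lam : X →* ℂˣ} (h : lam ≠ 1) :
    ∃ k p : ℕ, p.Prime ∧ orderOf (lam ^ k) = p := by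
  obtain ⟨p, hp, k, hk⟩ := Nat.exists_prime_and_dvd (ord_eq_one.not.2 h)
  have h0 := H31.orderOf_hom_ne_zero lam
  have hk0 : k ≠ 0 := by rintro rfl; exact h0 hk
  refine ⟨k, p, hp, ?_⟩
  rw [orderOf_pow_of_dvd hk0 ⟨p, by rw [hk, mul_comm]⟩, hk, Nat.mul_div_cancel _ hk0.bot_lt]

theorem near_of_inv (hNG : N ≤ commutator G) {lam : N →* ℂˣ} {p : ℕ} (hp : p.Prime)
    (ho : orderOf lam = p) (hi : inertia (cf lam) = ⊤) {d : ℕ} (hd : d ∈ relCharDegrees N) :
    ∃ f ∈ relCharDegrees N, ¬ d.Coprime f ∧ p ∣ f := by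
  have h1 := one_lt_of_mem hNG hd
  by_cases hpd : p ∣ d
  · exact ⟨d, hd, by simpa using h1.ne', hpd⟩
  obtain ⟨θ, a1, a2, χ, a3, a4, rfl⟩ := exists_dg_of_mem hd
  obtain ⟨_, ψ, b1, b2, rfl⟩ := exists_dg (mul_cf_irr a1 lam)
  have hc : ∀ n : ℕ, n.Coprime (inertia (cf lam)).index := fun n => by
    rw [hi, index_top]; exact Nat.coprime_one_right _
  have hf : p ∣ charDegree ψ := (hp.dvd_mul.1 (ho ▸ ord_dvd.2
    (key_pow hNG a3 b1 a1 lam a4 b2 (hc _) (hc _)))).resolve_left hpd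
  have hne : θ * cf lam ≠ fun _ => 1 := fun e => by
    obtain ⟨χ', c1, c2, c3⟩ := Dg.inv ⟨χ, a3, a4, rfl⟩ e
    exact hpd (c3 ▸ ho ▸ ord_dvd.2 (pow_deg_of_inv hNG c1 c2 hi))
  refine ⟨_, Dg.mem ⟨ψ, b1, b2, rfl⟩ (mul_cf_irr a1 lam) hne, ?_, hf⟩
  have hin : inertia (θ * cf lam) = inertia θ := by
    ext g
    rw [mem_inertia, mem_inertia, conjChar_mul_fun, mem_inertia.1 (hi.ge (mem_top g))]
    exact ⟨fun h => by rw [← mul_cf_cancel (conjChar g θ) lam, h, mul_cf_cancel],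
      fun h => by rw [h]⟩
  have d1 := Dg.index_dvd ⟨χ, a3, a4, rfl⟩ a1
  have d2 := Dg.index_dvd ⟨ψ, b1, b2, rfl⟩ (mul_cf_irr a1 lam)
  rw [hin, show charDegree (θ * cf lam) = charDegree θ from deg_mul_hom lam] at d2
  by_cases c1 : charDegree θ = 1
  · by_cases c2 : (inertia θ).index = 1
    · obtain ⟨μ, rfl⟩ := exists_cf_of_deg a1 c1
      have e1 := ord_dvd.2 (pow_deg_of_inv hNG a3 a4 (index_eq_one.1 c2))
      rw [← cf_mul] at b2 hin
      have e2 := pow_deg_of_inv hNG b1 b2 (hin.trans (index_eq_one.1 c2))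
      rw [hom_mul_pow, (ord_dvd (lam := lam)).1 (ho ▸ hf)] at e2
      replace e2 : μ ^ charDegree ψ = 1 := MonoidHom.ext fun n => by
        simpa using DFunLike.congr_fun e2 n
      refine not_coprime_of_dvd (fun e => a2 ?_) e1 (ord_dvd.2 e2)
      rw [ord_eq_one.1 e]
      rfl
    · exact not_coprime_of_dvd c2 d1.1 d2.1
  · exact not_coprime_of_dvd c1 d1.2 d2.2

theorem rch_of_inv (hNG : N ≤ commutator G) {lam : N →* ℂˣ} (h1 : lam ≠ 1)
    (hi : inertia (cf lam) = ⊤) {a b : ℕ} (ha : a ∈ relCharDegrees N)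
    (hb : b ∈ relCharDegrees N) : Rch N a b := by
  obtain ⟨k, p, hp, ho⟩ := exists_prime_pow h1
  have hi' : inertia (cf (lam ^ k)) = ⊤ := top_unique fun g _ => mem_inertia_cf.2 (by
    rw [cj_pow, mem_inertia_cf.1 (hi.ge (mem_top g))])
  obtain ⟨f, a1, a2, a3⟩ := near_of_inv hNG hp ho hi' ha
  obtain ⟨f', b1, b2, b3⟩ := near_of_inv hNG hp ho hi' hb
  exact ((rch_of_near hNG ha a1 a2).trans (rch_of_near hNG a1 b1
    (not_coprime_of_dvd hp.ne_one a3 b3))).trans (rch_of_near hNG hb b1 b2).symm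

/-- No nontrivial invariant linear character. -/
def NoInv (N : Subgroup G) [N.Normal] : Prop := ∀ lam : N →* ℂˣ, (∀ g : G, cj g lam = lam) → lam = 1

theorem noInv_of_not_rch (hNG : N ≤ commutator G) {a b : ℕ} (ha : a ∈ relCharDegrees N)
    (hb : b ∈ relCharDegrees N) (h : ¬ Rch N a b) : NoInv N := fun lam h1 => by
  by_contra h2
  exact h (rch_of_inv hNG h2 (top_unique fun g _ => mem_inertia_cf.2 (h1 g)) ha hb)

theorem NoInv.index_ne_one (h : NoInv N) {lam : N →* ℂˣ} (h1 : lam ≠ 1) :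
    (inertia (cf lam)).index ≠ 1 := fun e =>
  h1 (h lam fun g => mem_inertia_cf.1 ((index_eq_one.1 e).ge (mem_top g)))

theorem eq_of_mul_inv {X : Type*} [Group X] {a b : X →* ℂˣ} (h : a * b⁻¹ = 1) : a = b :=
  MonoidHom.ext fun x => mul_inv_eq_one.1 (DFunLike.congr_fun h x)

theorem NoInv.eq_one_of_coprime (h : NoInv N) {lam : N →* ℂˣ} {a b : ℕ} (hc : a.Coprime b)
    (h1 : ∀ g : G, (cj g lam * lam⁻¹) ^ a = 1) (h2 : ∀ g : G, (cj g lam * lam⁻¹) ^ b = 1) :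
    lam = 1 := h lam fun g => eq_of_mul_inv
      (ord_eq_one.1 (Nat.eq_one_of_dvd_coprimes hc (ord_dvd.2 (h1 g)) (ord_dvd.2 (h2 g))))

theorem cj_div_pow (g : G) {lam : N →* ℂˣ} {k : ℕ} (h : lam ^ k = 1) :
    (cj g lam * lam⁻¹) ^ k = 1 := MonoidHom.ext fun n => by
  have e := DFunLike.congr_fun h
  simp only [MonoidHom.pow_apply, MonoidHom.one_apply] at e
  simp [mul_pow, cj, e]

theorem Dg.fix {θ : N → ℂ} (hθ : IsIrrCharacter N θ) {lam : N →* ℂˣ} {d f : ℕ} (hd : Dg θ d)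
    (hf : Dg (θ * cf lam) f) (c1 : d.Coprime (inertia (cf lam)).index)
    (c2 : f.Coprime (inertia (cf lam)).index) : ∃ χ, IsIrrCharacter G χ ∧ Over N χ θ ∧
      charDegree χ = d ∧
      ∀ g : G, (fun n : N => ((cj g lam * lam⁻¹) n : ℂ) * χ n) = fun n : N => χ n := by
  have i1 := (hd.index_dvd hθ).1
  have i2 := (hf.index_dvd (mul_cf_irr hθ lam)).1
  obtain ⟨χ, a1, a2, a3⟩ := hd
  obtain ⟨ψ, b1, b2, -⟩ := hf
  exact ⟨χ, a1, a2, a3, key_conj a1 b1 hθ lam a2 b2 (c1.coprime_dvd_left i1)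
    (c2.coprime_dvd_left i2)⟩

theorem Dg.pow (hNG : N ≤ commutator G) {θ : N → ℂ} (hθ : IsIrrCharacter N θ) {lam : N →* ℂˣ}
    {d f : ℕ} (hd : Dg θ d) (hf : Dg (θ * cf lam) f) (c1 : d.Coprime (inertia (cf lam)).index)
    (c2 : f.Coprime (inertia (cf lam)).index) (g : G) : (cj g lam * lam⁻¹) ^ d = 1 := by
  obtain ⟨χ, a1, -, rfl, a2⟩ := hd.fix hθ hf c1 c2
  exact pow_deg_of_fix hNG (H6.irr_isCharacter a1) (a2 g)

theorem dvd_or_of_not_rch (hNG : N ≤ commutator G) (hno : NoInv N) {lam : N →* ℂˣ} {p : ℕ}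
    (hp : p.Prime) (ho : orderOf lam = p) {e : ℕ} (he : Dg (cf lam) e) {θ : N → ℂ}
    (hθ : IsIrrCharacter N θ) (h1 : θ ≠ fun _ => 1) {d : ℕ} (hd : Dg θ d) (hr : ¬ Rch N e d) :
    p ∣ d ∨ p ∣ e ∧ ∃ μ : N →* ℂˣ, θ = cf μ ∧ orderOf μ = p := by
  letI := Fintype.ofFinite N
  have l1 : lam ≠ 1 := fun h => hp.ne_one (ho ▸ ord_eq_one.2 h)
  have me := he.mem (cf_irr lam) (cf_ne_one l1)
  have md := hd.mem hθ h1
  have lp : lam ^ p = 1 := ord_dvd.1 ho.dvd
  have cde : e.Coprime d := not_not.1 fun h => hr (rch_of_near hNG me md h)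
  have i1 := (he.index_dvd (cf_irr lam)).1
  have hne : θ * cf lam ≠ fun _ => 1 := fun e =>
    he.near hNG (cf_irr lam) (cf_ne_one l1) (hd.inv e) cde
  obtain ⟨f, hf⟩ := exists_dg (mul_cf_irr hθ lam)
  have mf := hf.mem (mul_cf_irr hθ lam) hne
  by_cases c : f.Coprime (inertia (cf lam)).index
  · refine Or.inl (not_not.1 fun hpd => l1 (hno.eq_one_of_coprime
      ((Nat.Prime.coprime_iff_not_dvd hp).2 hpd) (fun g => cj_div_pow g lp)
      (hd.pow hNG hθ hf (cde.symm.coprime_dvd_right i1) c)))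
  right
  have cfd : f.Coprime d := not_not.1 fun h => hr ((rch_of_near hNG me mf fun h' =>
    c (h'.symm.coprime_dvd_right i1)).trans (rch_of_near hNG mf md h))
  have d1 : charDegree θ = 1 := Nat.eq_one_of_dvd_coprimes cfd
    (deg_mul_hom (χ := θ) lam ▸ (hf.index_dvd (mul_cf_irr hθ lam)).2) (hd.index_dvd hθ).2
  obtain ⟨μ, rfl⟩ := exists_cf_of_deg hθ d1
  have m1 : μ ≠ 1 := by rintro rfl; exact h1 rfl
  have i2 := (hd.index_dvd hθ).1
  rw [mul_comm] at hf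
  obtain ⟨χ, a1, a2, rfl, a3⟩ := he.fix (cf_irr lam) hf (cde.coprime_dvd_right i2)
    (cfd.coprime_dvd_right i2)
  have key : ∀ g : G, (cj g μ * μ⁻¹) ^ p = 1 := fun g => by
    have b1 : Over N χ (cf lam * cf (cj g μ * μ⁻¹)⁻¹) := by
      rw [over_iff, ← conj_cf, ← H6.classInner_mul_left, mul_comm]
      exact fun h => over_iff.1 a2 (a3 g ▸ h)
    obtain ⟨x, hx⟩ := a2.exists_conj b1 a1 (cf_irr lam) (mul_cf_irr (cf_irr lam) _)
    rw [← cf_mul, ← cf_cj] at hx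
    have b2 : (lam * (cj g μ * μ⁻¹)⁻¹) ^ p = 1 := by rw [cf_inj hx, ← cj_pow, lp]; rfl
    refine MonoidHom.ext fun n => ?_
    have b3 := DFunLike.congr_fun b2 n
    have b4 := DFunLike.congr_fun lp n
    simp only [MonoidHom.pow_apply, MonoidHom.mul_apply, MonoidHom.inv_apply, mul_pow,
      MonoidHom.one_apply, inv_pow] at b3 b4 ⊢
    rwa [b4, one_mul, inv_eq_one] at b3
  refine ⟨not_not.1 fun hpe => m1 (hno.eq_one_of_coprime ((Nat.Prime.coprime_iff_not_dvd hp).2 hpe)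
    key fun g => pow_deg_of_fix hNG (H6.irr_isCharacter a1) (a3 g)), μ, rfl, ?_⟩
  have : μ ^ p = 1 := hno _ fun g => eq_of_mul_inv (MonoidHom.ext fun n => by
    simpa [mul_pow, cj] using DFunLike.congr_fun (key g) n)
  exact ((Nat.dvd_prime hp).1 (ord_dvd.2 this)).resolve_left (ord_eq_one.not.2 m1)

theorem index_commutator_eq : (commutator N).index = ⁅N, N⁆.relIndex N := by
  rw [relIndex, ← map_subtype_commutator, subgroupOf, comap_map_eq_self_of_injective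
    N.subtype_injective]

theorem exists_hom_of_order {p : ℕ} (hp : p.Prime) (h : p ∣ ⁅N, N⁆.relIndex N) :
    ∃ lam : N →* ℂˣ, orderOf lam = p := by
  haveI : Fact p.Prime := ⟨hp⟩
  have e := card_hom_trivial (commutator N) le_rfl
  rw [Nat.card_congr (Equiv.subtypeUnivEquiv fun lam x hx =>
    H31.hom_eq_one_of_mem_commutator lam hx), index_commutator_eq] at e
  haveI : Finite (N →* ℂˣ) := Nat.finite_of_card_ne_zero (e ▸ index_ne_zero_of_finite)
  exact exists_prime_orderOf_dvd_card' p (e ▸ h)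

theorem hom_pow_relIndex (lam : N →* ℂˣ) : lam ^ ⁅N, N⁆.relIndex N = 1 := by
  rw [← index_commutator_eq]
  exact MonoidHom.ext (H31.hom_pow_index_eq_one lam fun _ => H31.hom_eq_one_of_mem_commutator lam)

theorem exists_base (hNG : N ≤ commutator G) {a b : ℕ} (ha : a ∈ relCharDegrees N)
    (hb : b ∈ relCharDegrees N) (h : ¬ Rch N a b) {p : ℕ} (hp : p.Prime)
    (hm : p ∣ ⁅N, N⁆.relIndex N) : ∃ (lam : N →* ℂˣ) (e : ℕ), orderOf lam = p ∧ Dg (cf lam) e ∧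
      ¬ p ∣ e ∧ ∀ d ∈ relCharDegrees N, ¬ Rch N e d → p ∣ d := by
  have hno := noInv_of_not_rch hNG ha hb h
  by_cases h1 : ∃ (lam : N →* ℂˣ) (e : ℕ), orderOf lam = p ∧ Dg (cf lam) e ∧ ¬ p ∣ e
  · obtain ⟨lam, e, a1, a2, a3⟩ := h1
    refine ⟨lam, e, a1, a2, a3, fun d hd hr => ?_⟩
    obtain ⟨θ, b1, b2, b3⟩ := exists_dg_of_mem hd
    exact (dvd_or_of_not_rch hNG hno hp a1 a2 b1 b2 b3 hr).resolve_right fun h => a3 h.1
  push Not at h1
  obtain ⟨lam, a1⟩ := exists_hom_of_order hp hm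
  obtain ⟨e, a2⟩ := exists_dg (cf_irr lam)
  have me := a2.mem (cf_irr lam) (cf_ne_one fun h => hp.ne_one (a1 ▸ ord_eq_one.2 h))
  have key : ∀ d ∈ relCharDegrees N, Rch N e d := fun d hd => not_not.1 fun hr => by
    obtain ⟨θ, b1, b2, b3⟩ := exists_dg_of_mem hd
    refine hr (rch_of_near hNG me hd (not_coprime_of_dvd hp.ne_one (h1 _ _ a1 a2) ?_))
    rcases dvd_or_of_not_rch hNG hno hp a1 a2 b1 b2 b3 hr with h | ⟨-, μ, rfl, h⟩
    exacts [h, h1 _ _ h b3]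
  exact absurd ((key a ha).symm.trans (key b hb)) h

theorem exists_core (hNG : N ≤ commutator G) (hlt : ⁅N, N⁆ < N) {a b : ℕ}
    (ha : a ∈ relCharDegrees N) (hb : b ∈ relCharDegrees N) (h : ¬ Rch N a b) :
    ∃ e ∈ relCharDegrees N, ∃ p : ℕ, p.Prime ∧ p ∣ ⁅N, N⁆.relIndex N ∧
      (∀ d ∈ relCharDegrees N, ¬ Rch N e d → ∀ r : ℕ, r.Prime → r ∣ ⁅N, N⁆.relIndex N → r ∣ d) ∧
      ∀ d, Rch N e d → d.Coprime (⁅N, N⁆.relIndex N) := by
  have hno := noInv_of_not_rch hNG ha hb h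
  obtain ⟨p, hp, hm⟩ := Nat.exists_prime_and_dvd (n := ⁅N, N⁆.relIndex N)
    fun e => hlt.not_ge (relIndex_eq_one.1 e)
  obtain ⟨lam, e, a1, a2, a3, a4⟩ := exists_base hNG ha hb h hp hm
  have l1 : lam ≠ 1 := fun h => hp.ne_one (a1 ▸ ord_eq_one.2 h)
  have me := a2.mem (cf_irr lam) (cf_ne_one l1)
  have main : ∀ d ∈ relCharDegrees N, ¬ Rch N e d →
      ∀ r : ℕ, r.Prime → r ∣ ⁅N, N⁆.relIndex N → r ∣ d := fun d hd hr r hr' hrm => by
    obtain ⟨μ, e', b1, b2, b3, b4⟩ := exists_base hNG ha hb h hr' hrm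
    have m1 : μ ≠ 1 := fun h => hr'.ne_one (b1 ▸ ord_eq_one.2 h)
    have me' := b2.mem (cf_irr μ) (cf_ne_one m1)
    refine b4 d hd fun h2 => hr (Rch.trans ?_ h2)
    by_cases hpr : p = r
    · exact not_not.1 fun h3 => b3 (hpr ▸ a4 _ me' h3)
    have key : ∀ {x y : N →* ℂˣ} {s t : ℕ}, s.Coprime t → x ^ s = 1 → y ^ t = 1 →
        inertia (cf (x * y)) ≤ inertia (cf x) := fun {x y s t} c hx hy g hg => by
      refine mem_inertia_cf.2 (eq_of_mul_inv (ord_eq_one.1 (Nat.eq_one_of_dvd_coprimes c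
        (ord_dvd.2 (cj_div_pow g hx)) (ord_dvd.2 (MonoidHom.ext fun n => ?_)))))
      have e1 := congrArg (· ^ t) (DFunLike.congr_fun (mem_inertia_cf.1 hg) n)
      have e2 := DFunLike.congr_fun hy
      simp only [MonoidHom.pow_apply, MonoidHom.one_apply] at e2
      simpa [cj, mul_pow, e2, mul_inv_eq_one] using e1
    have c := (Nat.coprime_primes hp hr').2 hpr
    obtain ⟨f, hf⟩ := exists_dg (cf_irr (lam * μ))
    have i1 := (hf.index_dvd (cf_irr _)).1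
    have j1 := (index_dvd_of_le (key c (ord_dvd.1 a1.dvd) (ord_dvd.1 b1.dvd))).trans i1
    have j2 := (index_dvd_of_le (key c.symm (ord_dvd.1 b1.dvd) (ord_dvd.1 a1.dvd))).trans
      (mul_comm lam μ ▸ i1)
    have mf := hf.mem (cf_irr _) fun h3 => hno.index_ne_one l1 (index_eq_one.2 (top_unique
      (le_trans (fun g _ => by rw [h3]; exact mem_inertia.2 rfl)
        (key c (ord_dvd.1 a1.dvd) (ord_dvd.1 b1.dvd)))))
    exact (rch_of_near hNG me mf (not_coprime_of_dvd (hno.index_ne_one l1)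
      (a2.index_dvd (cf_irr _)).1 j1)).trans (rch_of_near hNG mf me'
      (not_coprime_of_dvd (hno.index_ne_one m1) j2 (b2.index_dvd (cf_irr _)).1))
  refine ⟨e, me, p, hp, hm, main, fun d hd => ?_⟩
  obtain ⟨c, hc, h2⟩ : ∃ c ∈ relCharDegrees N, ¬ Rch N e c := by
    by_contra! h2
    exact h ((h2 a ha).symm.trans (h2 b hb))
  refine Nat.coprime_of_dvd fun r hr h3 h4 => h2 (hd.trans (rch_of_near hNG hd.2.1 hc
    (not_coprime_of_dvd hr.ne_one h3 (main c hc h2 r hr h4))))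

theorem near_of_lin (hNG : N ≤ commutator G) (hno : NoInv N) {θ : N → ℂ}
    (hθ : IsIrrCharacter N θ) {μ : N →* ℂˣ} (m1 : μ ≠ 1) {d d' f : ℕ} (hd : Dg θ d)
    (hd' : Dg (cf μ) d') (hf : Dg (θ * cf μ) f) (c : d.Coprime (⁅N, N⁆.relIndex N)) :
    ¬ d.Coprime d' ∨ ¬ f.Coprime d' := by
  by_contra! h
  have i := (hd'.index_dvd (cf_irr μ)).1
  exact m1 (hno.eq_one_of_coprime c (hd.pow hNG hθ hf (h.1.coprime_dvd_right i)
    (h.2.coprime_dvd_right i)) fun g => hom_pow_relIndex _)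

theorem diam_two_aux (n : ℕ) : ∀ (N : Subgroup G) [N.Normal], Nat.card N = n →
    Group.IsSolvable N → N ≤ commutator G → ∀ a ∈ relCharDegrees N, ∀ b ∈ relCharDegrees N,
    ¬ Rch N a b → ∀ d d', Rch N d d' → ∃ f ∈ relCharDegrees N, ¬ d.Coprime f ∧ ¬ f.Coprime d' := by
  induction n using Nat.strong_induction_on with
  | _ n ih =>
  intro N _ hn hs hNG a ha b hb h d d' hr
  have md := hr.1
  have md' := hr.2.1
  have triv : ¬ d.Coprime d' → ∃ f ∈ relCharDegrees N, ¬ d.Coprime f ∧ ¬ f.Coprime d' := fun h =>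
    ⟨d, md, by simpa using (one_lt_of_mem hNG md).ne', h⟩
  have hlt : ⁅N, N⁆ < N := H1.commutator_self_lt_of_isSolvable hs (by
    rintro rfl
    obtain ⟨χ, ⟨x, hx, h1⟩, -⟩ := ha
    exact h1 (by rw [mem_bot.1 hx]))
  obtain ⟨e, me, p, hp, hm, a1, a2⟩ := exists_core hNG hlt ha hb h
  have hno := noInv_of_not_rch hNG ha hb h
  by_cases r1 : Rch N e d
  swap
  · exact triv (not_coprime_of_dvd hp.ne_one (a1 d md r1 p hp hm)
      (a1 d' md' (fun h => r1 (h.trans hr.symm)) p hp hm))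
  have c1 := a2 d r1
  have c2 := a2 d' (r1.trans hr)
  have lin : ∀ {θ : N → ℂ} {μ : N →* ℂˣ} {d d' : ℕ}, IsIrrCharacter N θ → (θ ≠ fun _ => 1) →
      μ ≠ 1 → Dg θ d → Dg (cf μ) d' → d.Coprime (⁅N, N⁆.relIndex N) →
      d'.Coprime (⁅N, N⁆.relIndex N) → d.Coprime d' →
      ∃ f ∈ relCharDegrees N, ¬ d.Coprime f ∧ ¬ f.Coprime d' := by
    intro θ μ d d' b1 b2 m1 b3 b4 c1 c2 c
    obtain ⟨f, hf⟩ := exists_dg (mul_cf_irr b1 μ)
    refine ⟨f, hf.mem (mul_cf_irr b1 μ) fun e =>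
      (b3.inv e).near hNG (cf_irr μ) (cf_ne_one m1) b4 c, ?_,
      (near_of_lin hNG hno b1 m1 b3 b4 hf c1).resolve_left (not_not.2 c)⟩
    by_cases d1 : charDegree θ = 1
    · obtain ⟨ν, rfl⟩ := exists_cf_of_deg b1 d1
      rw [mul_comm] at hf
      exact fun h => (near_of_lin hNG hno (cf_irr μ) (by rintro rfl; exact b2 rfl) b4 b3 hf
        c2).resolve_left (not_not.2 c.symm) h.symm
    · exact not_coprime_of_dvd d1 (b3.index_dvd b1).2
        (deg_mul_hom (χ := θ) μ ▸ (hf.index_dvd (mul_cf_irr b1 μ)).2)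
  by_cases c : d.Coprime d'
  swap
  · exact triv c
  obtain ⟨θ, b1, b2, b3⟩ := exists_dg_of_mem md
  obtain ⟨θ', b1', b2', b3'⟩ := exists_dg_of_mem md'
  by_cases d2 : charDegree θ' = 1
  · obtain ⟨μ, rfl⟩ := exists_cf_of_deg b1' d2
    exact lin b1 b2 (by rintro rfl; exact b2' rfl) b3 b3' c1 c2 c
  by_cases d1 : charDegree θ = 1
  · obtain ⟨μ, rfl⟩ := exists_cf_of_deg b1 d1
    obtain ⟨f, f1, f2, f3⟩ := lin b1' b2' (by rintro rfl; exact b2 rfl) b3' b3 c2 c1 c.symm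
    exact ⟨f, f1, fun h => f3 h.symm, fun h => f2 h.symm⟩
  have sub : ∀ {θ : N → ℂ} {d : ℕ}, IsIrrCharacter N θ → charDegree θ ≠ 1 → Dg θ d →
      d ∈ relCharDegrees ⁅N, N⁆ := by
    rintro θ _ h1 h2 ⟨χ, h3, h4, rfl⟩
    refine ⟨⟨χ, h3⟩, ?_, rfl⟩
    by_contra! h5
    refine h2 (deg_eq_one_of_commutator_le h1 fun x hx =>
      (H6.mem_charKer (H6.irr_isCharacter h1)).2
        (h4.apply_eq_of_mem_ker (H6.irr_isCharacter h3) h1 (h5 _ ?_)))
    rw [← map_subtype_commutator]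
    exact mem_map_of_mem N.subtype hx
  have m1 := sub b1 d1 b3
  have m2 := sub b1' d2 b3'
  have hNG' : ⁅N, N⁆ ≤ commutator G := hlt.le.trans hNG
  have hs' : Group.IsSolvable (⁅N, N⁆ : Subgroup G) := H1.isSolvable_of_le hs hlt.le
  have hlt' : ⁅⁅N, N⁆, ⁅N, N⁆⁆ < ⁅N, N⁆ := H1.commutator_self_lt_of_isSolvable hs' (by
    intro h0
    obtain ⟨χ, ⟨x, hx, h1⟩, -⟩ := m1
    exact h1 (by rw [mem_bot.1 (h0.le hx)]))
  have up : relCharDegrees ⁅N, N⁆ ⊆ relCharDegrees N := fun d ⟨χ, ⟨x, hx, h1⟩, h2⟩ =>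
    ⟨χ, ⟨x, hlt.le hx, h1⟩, h2⟩
  obtain ⟨x, hx, hx'⟩ := SetLike.exists_of_lt hlt'
  obtain ⟨χ, e1, e2, e3⟩ := exists_irr_ker_of_not_mem _ hx'
  have m3 : charDegree χ ∈ relCharDegrees ⁅N, N⁆ :=
    ⟨⟨χ, e1⟩, ⟨x, hx, fun h => e3 ((H6.mem_charKer (H6.irr_isCharacter e1)).2 h)⟩, rfl⟩
  have r3 : ¬ Rch N e (charDegree χ) := fun r3 => by
    obtain ⟨τ, t1, t2⟩ := exists_under e1 N
    have t3 := H87.isIrr_res_of_coprime (commutator N) t1 (by
      rw [index_commutator_eq]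
      exact (a2 _ r3).coprime_dvd_left (t2.deg_dvd e1 t1))
    have t4 := deg_eq_one_of_commutator_le t3 fun y hy =>
      (H6.mem_charKer (H6.irr_isCharacter t3)).2 (t2.apply_eq_of_mem_ker (H6.irr_isCharacter e1) t1
        ((H6.mem_charKer (H6.irr_isCharacter e1)).1 (e2 (by
          rw [← map_subtype_commutator N, ← map_commutator, ← map_subtype_commutator]
          exact mem_map_of_mem N.subtype (mem_map_of_mem _ hy)))))
    rw [deg_res] at t4
    exact e3 (t2.commutator_le_charKer e1 t1 t4 hx)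
  have r4 : ¬ Rch ⁅N, N⁆ d (charDegree χ) := fun h => r3 (r1.trans (h.mono hlt.le))
  have r5 : ¬ Rch ⁅N, N⁆ d' (charDegree χ) := fun h => r3 ((r1.trans hr).trans (h.mono hlt.le))
  obtain ⟨e', me', q, hq, hm', g1, -⟩ := exists_core hNG' hlt' m1 m3 r4
  by_cases r6 : Rch ⁅N, N⁆ e' (charDegree χ)
  · exact triv (not_coprime_of_dvd hq.ne_one (g1 d m1 (fun h => r4 (h.symm.trans r6)) q hq hm')
      (g1 d' m2 (fun h => r5 (h.symm.trans r6)) q hq hm'))
  have g2 := g1 _ m3 r6 q hq hm'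
  have s1 : Rch ⁅N, N⁆ e' d := not_not.1 fun h => r4 (rch_of_near hNG' m1 m3
    (not_coprime_of_dvd hq.ne_one (g1 d m1 h q hq hm') g2))
  have s2 : Rch ⁅N, N⁆ e' d' := not_not.1 fun h => r5 (rch_of_near hNG' m2 m3
    (not_coprime_of_dvd hq.ne_one (g1 d' m2 h q hq hm') g2))
  obtain ⟨f, f1, f2⟩ := ih _ (hn ▸ H1.card_lt_of_lt hlt) ⁅N, N⁆ rfl hs' hNG' _ m1 _ m3 r4 d d'
    (s1.symm.trans s2)
  exact ⟨f, up f1, f2⟩

end H85
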