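import Mathlib
import Cfsg.Agent.Lib.H85.FrobBlk
import Cfsg.Agent.Lib.Block.Homocyclic

/-! Blocks whose defect groups are abelian of rank two with three involutions. -/

set_option autoImplicit false
set_option linter.unusedSectionVars false
set_option linter.style.haveILetI false
attribute [local irreducible] H33.instFieldF

namespace H85

open Cfsg H84 H35 Finset MonoidAlgebra
open H33 (F eB fB chiL OG redA red O)
open H86 (Cen Nor Supp Inv br emb cj cs trI csEquiv eS fS IsMaxPair PairOf St)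
open Subgroup (zpowers)
open scoped ComplexConjugate SubFin IsMulCommutative

variable {G : Type*} [Group G] [Fintype G] {M : Ideal AlgInt}
  [M.IsMaximal] {B : Set (IrrCharacter G)} {P : Subgroup G} {e : MonoidAlgebra (F M) G}

theorem eq_one_of_aut_eq_mul {D : Type*} [Group D] [Finite D] {α : MulAut D}
    (hα : Odd (orderOf α)) {x w : D} (h1 : α x = w * x) (h2 : α w = w) (h3 : w ^ 2 = 1) :
    w = 1 := by
  have key : ∀ i : ℕ, (α ^ i) x = w ^ i * x := by
    intro i
    induction i with
    | zero => simp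
    | succ i ih => rw [pow_succ', MulAut.mul_apply, ih, map_mul, map_pow, h1, h2, pow_succ, mul_assoc]
  obtain ⟨k, hk⟩ := hα
  have h4 := key (orderOf α)
  rw [pow_orderOf_eq_one, hk, pow_succ, pow_mul, h3, one_pow, one_mul] at h4
  exact right_eq_mul.1 h4

theorem rk2_free (h : H34.Rk2 P) (hP : IsPGroup 2 P) {α : MulAut P} (hα : Odd (orderOf α)) {z : P}
    (hz1 : z ≠ 1) (hc : α z = z) : α = 1 := by
  obtain ⟨t, htz, ht1, ht2⟩ := H34.exists_involution_mem_zpowers (isPElt_iff_pow.2 (hP z)) hz1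
  have htn : α t = t := by
    obtain ⟨k, rfl⟩ := htz
    simp only [map_zpow, hc]
  have hinv : ∀ s : P, s ^ 2 = 1 → α s = s := by
    intro s hs2
    by_cases hs1 : s = 1
    · simp [hs1]
    by_cases hst : s = t
    · rw [hst, htn]
    by_contra hne
    have h1 := h.tri t t.2 s s.2 _ (α s).2 (by exact_mod_cast ht2) (by exact_mod_cast hs2)
      (by rw [← Subgroup.coe_pow, ← map_pow, hs2]; simp) (by simpa using ht1) (by simpa using hs1)
      (by simpa using hs1) (fun h => hst (Subtype.ext h).symm)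
      (fun h' => hst (α.injective (by rw [htn]; exact Subtype.ext h')))
      fun h => hne (Subtype.ext h)
    exact ht1 (eq_one_of_aut_eq_mul hα (Subtype.ext h1) htn ht2)
  have key : ∀ k : ℕ, ∀ x : P, x ^ 2 ^ k = 1 → α x = x := by
    intro k
    induction k with
    | zero => intro x hx; simp at hx; simp [hx]
    | succ k ih =>
      intro x hk
      have h1 := ih (x ^ 2) (by rw [← pow_mul, ← pow_succ', hk])
      have hw : (α x * x⁻¹) ^ 2 = 1 := by
        have hcm : Commute (α x) x⁻¹ := Subtype.ext (h.comm _ (α x).2 _ x⁻¹.2)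
        rw [hcm.mul_pow, ← map_pow, h1, inv_pow, mul_inv_cancel]
      exact mul_inv_eq_one.1 (eq_one_of_aut_eq_mul hα (x := x) (by simp) (hinv _ hw) hw)
  ext x
  obtain ⟨k, hk⟩ := hP x
  rw [key k x hk]; rfl

namespace MP

theorem odd_card_inq (h : MP 2 M B P e) (hab : P ≤ Cen P) : Odd (Nat.card (inq P e)) := by
  rw [← Nat.not_even_iff_odd, even_iff_two_dvd]
  exact h.not_dvd_card_inq hab

theorem free_of_rk2 (h : MP 2 M B P e) (h2 : H34.Rk2 P) : Free P e :=
  free_of_inq fun α hα u hu hc => rk2_free h2 h.pgrp ((h.odd_card_inq h2.le_centralizer).of_dvd_nat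
    (by simpa using orderOf_dvd_natCard (⟨α, hα⟩ : inq P e))) hu hc

theorem card_inq_of_rk2 (h : MP 2 M B P e) (h2 : H34.Rk2 P) :
    Nat.card (inq P e) = 1 ∨ Nat.card (inq P e) = 3 := by
  obtain ⟨s, hs, -, -, hs1, -, -, hs2, -⟩ := h2.ex
  have h1 := h.wt_of_free h2.le_centralizer (h.free_of_rk2 h2) (u := ⟨s, hs⟩) (by simpa using hs1)
  have h3 : wt 2 P e s ≤ 3 := by
    rw [← h2.ncard_involutions, ← Nat.card_coe_set_eq]
    exact Nat.card_le_card_of_injective (fun v : {v : P // Fus 2 P e s v} =>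
      (⟨v.1, v.1.2, by rw [← orderOf_eq_of_isConj v.2.isConj, orderOf_eq_prime hs2 hs1]⟩ :
        {x : G | x ∈ P ∧ orderOf x = 2})) fun a b hab => Subtype.ext (Subtype.ext (Subtype.mk.inj hab))
  obtain ⟨k, hk⟩ := h.odd_card_inq h2.le_centralizer
  dsimp only at h1
  omega

theorem counts_of_rk2 (h : MP 2 M B P e) (h2 : H34.Rk2 P) :
    blockRank 2 B = Nat.card (inq P e) ∧
      Nat.card (inq P e) * Nat.card B = Nat.card (inq P e) ^ 2 + (Nat.card P - 1) := by
  obtain ⟨s, hs, -, -, hs1, -⟩ := h2.ex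
  have h1 := (h.rank_le h2.le_centralizer (h.free_of_rk2 h2) fun h => hs1 (by simpa [h] using hs)).2
    (by rcases h.card_inq_of_rk2 h2 with h | h <;> omega)
  exact ⟨h1, by rw [h.card_mul_eq h2.le_centralizer (h.free_of_rk2 h2), h1, sq]⟩

end MP

end H85
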