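import Mathlib
import Cfsg.Agent.Lib.H85.TL4
import Cfsg.Agent.S0205

/-! The `2`-length is bounded by the exponent of the Sylow `2`-subgroups. -/

set_option autoImplicit false
set_option linter.unusedSectionVars false
set_option linter.style.haveILetI false

namespace H85.TL

open Cfsg Subgroup H76 Module Polynomial
open scoped commutatorElement

universe u

theorem isSolvable_of_pLengthLE_two (k : ℕ) : ∀ (G : Type u) [Group G] [Finite G],
    PLengthLE 2 k G → Group.IsSolvable G := by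
  induction k with
  | zero =>
    intro G _ _ h
    exact Cfsg.Agent.S0205.result (Nat.coprime_two_right.1 (pLengthLE_zero_iff.1 h))
  | succ k ih =>
    intro G _ _ h
    refine H1.isSolvable_of_normal_of_quotient (pPrimePCore 2 G) ?_
      (ih _ (pLengthLE_succ_iff.1 h))
    refine H1.isSolvable_comap (H1.isSolvable_of_isPGroup H1.isPGroup_pCore) ?_
    rw [QuotientGroup.ker_mk']
    exact Cfsg.Agent.S0205.result (Nat.coprime_two_right.1 H1.coprime_card_pPrimeCore)

theorem isSolvable_of_isPSolvable_two {G : Type u} [Group G] [Finite G] (h : IsPSolvable 2 G) :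
    Group.IsSolvable G := by
  obtain ⟨k, hk⟩ := exists_pLengthLE h
  exact isSolvable_of_pLengthLE_two k G hk

variable {G : Type*} [Group G] [Finite G] {p : ℕ} [Fact p.Prime] {B A P : Subgroup G}

/-- The kernel of the action on `P / [P, P]`. -/
def kerD (B P : Subgroup G) : Subgroup G := B ⊓ H2.relCentralizer P ⁅P, P⁆

theorem commutator_le_kerD (hP : H47.MinAct p B A P) (h : ⁅P, P⁆ ≤ B) : ⁅P, P⁆ ≤ kerD B P :=
  le_inf h (H2.le_relCentralizer_iff.2 ⟨le_normalizer, commutator_mono hP.commutator_lt.le le_rfl⟩)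

theorem le_normalizer_kerD (hP : H47.MinAct p B A P) (h : ⁅P, P⁆ ≤ B) :
    P ⊔ B ≤ normalizer (kerD B P : Set G) := by
  refine sup_le (fun u hu => mem_normalizer_fintype fun d hd => ?_)
    (H2.le_normalizer_inf le_normalizer (le_normalizer_relCentralizer hP.hBP
      (H2.le_normalizer_commutator hP.hBP hP.hBP)))
  have : u * d * u⁻¹ = ⁅d, u⁆⁻¹ * d := by rw [commutatorElement_def]; group
  rw [this]
  exact mul_mem (inv_mem (commutator_le_kerD hP h (hd.2.2 u hu))) hd

theorem not_pLengthLE_kerD (hP : H47.MinAct p B A P) (h1 : P ⊓ B ≤ ⁅P, P⁆) {k : ℕ}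
    (h2 : P ≤ Lo p k (P ⊔ B)) [((kerD B P).subgroupOf (P ⊔ B)).Normal] :
    ¬ PLengthLE p k (↥(P ⊔ B) ⧸ (kerD B P).subgroupOf (P ⊔ B)) := by
  refine not_pLengthLE_of_le_Lo h2 (QuotientGroup.mk' _) fun h => hP.commutator_lt.not_ge ?_
  rw [QuotientGroup.ker_mk'] at h
  exact fun x hx => h1 ⟨hx, (h (x := ⟨x, mem_sup_left hx⟩) hx).1⟩

theorem St.pow_mem_kerD {F : Type*} [Field F] {V : Type*} [AddCommGroup V] [Module F V]
    [IsAlgClosed F] [FiniteDimensional F V] [CharP F 2] {ρ : G →* End F V} {e q : ℕ} [Fact q.Prime]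
    {Q : Subgroup G} (h : St ρ e q B A P Q) (hρ : Function.Injective ρ) (hB : ⁅P, P⁆ ≤ B) {x : G}
    (hx : x ∈ P ⊔ B) {l : ℕ} (hxl : x ^ 2 ^ l = 1) : x ^ 2 ^ e ∈ kerD B P := by
  obtain ⟨v, hv, b, hb, rfl⟩ := (H2.mem_sup_iff_of_le_normalizer h.hP.hBP).1 hx
  obtain ⟨m, hm⟩ := exists_mul_pow_eq_one h.hP hx hxl (inv_mem hv)
  rw [inv_mul_cancel_left] at hm
  have hbK : b ∈ P ⊔ B := mem_sup_right hb
  rw [← inv_mul_cancel_right ((v * b) ^ 2 ^ e) (b ^ 2 ^ e)]
  refine mul_mem (commutator_le_kerD h.hP hB (h.star hρ hbK hm hv)) ⟨Subgroup.pow_mem _ hb _,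
    H2.le_normalizer_commutator h.hP.hBP h.hP.hBP (Subgroup.pow_mem _ hb _), fun w hw => ?_⟩
  have h1 := h.star hρ hbK hm (commutator_mem_of_le_normalizer hw (h.hP.hBP hb))
  rw [commutatorElement_def, inv_mul_cancel_right, conj_pow, ← commutatorElement_def] at h1
  rw [← commutatorElement_inv]
  exact inv_mem h1

theorem card_lt_of_surjective {Y : Type*} [Group Y] {φ : G →* Y} (hφ : Function.Surjective φ)
    (hk : φ.ker ≠ ⊥) : Nat.card Y < Nat.card G := by
  rw [← φ.ker.card_mul_index, index_ker, MonoidHom.range_eq_top.2 hφ, card_top]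
  have := Finite.of_surjective φ hφ
  exact lt_mul_left Nat.card_pos ((one_lt_card_iff_ne_bot _).2 hk)

theorem pLengthLE_two_of_pExp (e : ℕ) : ∀ (G : Type u) [Group G] [Finite G], IsPSolvable 2 G →
    PExp 2 e G → PLengthLE 2 e G := by
  induction e with
  | zero => exact fun G _ _ _ h => pLengthLE_zero_iff.2 h.coprime
  | succ e ih =>
    obtain _ | k := e
    · exact pLengthLE_two_gross 0
    suffices h : ∀ (n : ℕ) (G : Type u) [Group G] [Finite G], Nat.card G = n → IsPSolvable 2 G →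
        PExp 2 (k + 1 + 1) G → PLengthLE 2 (k + 1 + 1) G from fun G _ _ => h _ G rfl
    intro n
    induction n using Nat.strong_induction_on with
    | _ n ihn =>
    intro G _ _ hn hsol hexp
    obtain hG | hG := subsingleton_or_nontrivial G
    · exact pLengthLE_mono (pLengthLE_zero_iff.2 (by rw [Nat.card_of_subsingleton 1]; simp))
        (Nat.zero_le _)
    obtain ⟨Y, _, _, φ, W, _, _, _, ρ, h1, h2, h3, h4, h5, h6⟩ := exists_linear hsol hexp
    refine pLengthLE_succ_of_ker_le φ h2.le (by_contra fun h7 => ?_)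
    have h8 := ihn _ (hn ▸ card_lt_of_surjective h1 (h2 ▸ pPrimePCore_ne_bot hsol)) Y rfl h3
      (hexp.of_surjective h1)
    obtain ⟨q, _, B, A, P, Q, hq, hP, hQ, hB, hPB, hL⟩ :=
      exists_tower (isSolvable_of_isPSolvable_two h3) h4 h8 h7
    have hSt : St ρ (k + 1) q B A P Q := ⟨hq, hP, hQ, h6⟩
    haveI := normal_subgroupOf_of_le_normalizer (le_normalizer_kerD hP hB)
    refine not_pLengthLE_kerD hP hPB hL (ih _ (isPSolvable_quotient (isPSolvable_subgroup h3 _) _)
      fun y l hy => ?_)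
    obtain ⟨x, rfl, m, hm⟩ := exists_pElement_lift (QuotientGroup.mk'_surjective _) hy
    rw [← map_pow, QuotientGroup.mk'_apply, QuotientGroup.eq_one_iff]
    exact hSt.pow_mem_kerD h5 hB x.2 (l := m) (congrArg Subtype.val hm)

end H85.TL
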